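import Mathlib
import Cfsg.Agent.Lib.GoldschmidtFusion

/-!
# Fusion of `pⁿ`-th powers of central elements of a Sylow subgroup of small class

If a Sylow `p`-subgroup `P` of `G` has class at most `n (p - 1) + 1`, then for `z ∈ Z(P)` every
`G`-conjugate of `z ^ p ^ n` lying in `P` is an `N_G(P)`-conjugate of it (`conj_agemo`).
-/

set_option autoImplicit false

namespace Cfsg.Agent.H181.AgemoFusion

open Subgroup Cfsg.Agent.Lib.GoldschmidtFusion
open scoped commutatorElement

theorem ring_key {R : Type*} [CommRing R] {p : ℕ} (hp : p.Prime) {t : R} (n : ℕ)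
    (h1 : (t + 1) ^ p = 1) (h2 : t ^ (n * (p - 1) + 1) = 0) : (p : R) ^ n * t = 0 := by
  have h3 := add_pow_prime_eq (R := R) (p := p) hp t 1
  have hp2 := hp.two_le
  have h4 : ∃ q : R, ∑ k ∈ Finset.Ioo 0 p, t ^ (k - 1) * 1 ^ (p - k - 1) *
      ((p.choose k / p : ℕ) : R) = 1 + t * q := by
    refine ⟨∑ k ∈ Finset.Ioo 1 p, t ^ (k - 2) * 1 ^ (p - k - 1) * ((p.choose k / p : ℕ) : R), ?_⟩
    have h5 : Finset.Ioo 0 p = insert 1 (Finset.Ioo 1 p) := by
      ext k
      simp only [Finset.mem_Ioo, Finset.mem_insert]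
      omega
    rw [h5, Finset.sum_insert (by simp), Finset.mul_sum]
    congr 1
    · simp [Nat.div_self hp.pos]
    · apply Finset.sum_congr rfl
      intro k hk
      rw [Finset.mem_Ioo] at hk
      obtain ⟨j, rfl⟩ := Nat.exists_eq_add_of_le hk.1
      have e1 : 1 + 1 + j - 2 = j := by omega
      have e2 : 1 + 1 + j - 1 = j + 1 := by omega
      simp only [Nat.succ_eq_add_one, e1, e2]
      ring
  obtain ⟨q, hq⟩ := h4
  rw [hq, h1, one_pow] at h3
  have h6 : (p : R) * t * (1 + t * q) = - t ^ p := by linear_combination -h3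
  have hnil : IsNilpotent t := ⟨_, h2⟩
  have hu : IsUnit (1 + t * q) := IsNilpotent.isUnit_one_add ((Commute.all t q).isNilpotent_mul_right hnil)
  have key : ∀ k : ℕ, (p : R) ^ k * t * (1 + t * q) ^ k = (-1) ^ k * t ^ (k * (p - 1) + 1) := by
    intro k
    induction k with
    | zero => simp
    | succ k ih =>
      have e : (k + 1) * (p - 1) + 1 = k * (p - 1) + p := by
        rw [add_mul, one_mul]; omega
      rw [e]
      calc (p : R) ^ (k + 1) * t * (1 + t * q) ^ (k + 1)
          = (p : R) * (1 + t * q) * ((p : R) ^ k * t * (1 + t * q) ^ k) := by ring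
        _ = (-1) ^ k * t ^ (k * (p - 1)) * ((p : R) * t * (1 + t * q)) := by rw [ih]; ring
        _ = _ := by rw [h6]; ring
  have h7 := key n
  rw [h2, mul_zero] at h7
  exact (hu.pow n).mul_left_eq_zero.1 h7

theorem ring_key' {R : Type*} [Ring R] {p : ℕ} (hp : p.Prime) {t : R} (n : ℕ)
    (h1 : (t + 1) ^ p = 1) (h2 : t ^ (n * (p - 1) + 1) = 0) : (p : R) ^ n * t = 0 := by
  let φ : Polynomial ℤ →+* R := (Polynomial.aeval (R := ℤ) t).toRingHom
  have hφX : φ Polynomial.X = t := Polynomial.aeval_X t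
  have h := ring_key (R := Polynomial ℤ ⧸ RingHom.ker φ) hp
    (t := Ideal.Quotient.mk _ Polynomial.X) n ?_ ?_
  · have h' : Ideal.Quotient.mk (RingHom.ker φ) ((p : Polynomial ℤ) ^ n * Polynomial.X) = 0 := by
      simpa using h
    rw [Ideal.Quotient.eq_zero_iff_mem, RingHom.mem_ker] at h'
    simpa [hφX] using h'
  · have h' : Ideal.Quotient.mk (RingHom.ker φ) ((Polynomial.X + 1) ^ p) =
      Ideal.Quotient.mk (RingHom.ker φ) 1 := by
      rw [Ideal.Quotient.eq, RingHom.mem_ker]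
      simp [hφX, h1]
    simpa using h'
  · have h' : Ideal.Quotient.mk (RingHom.ker φ) (Polynomial.X ^ (n * (p - 1) + 1)) = 0 := by
      rw [Ideal.Quotient.eq_zero_iff_mem, RingHom.mem_ker]
      simp [hφX, h2]
    simpa using h'

variable {G : Type*} [Group G]

/-- An element `y` of `P` normalizing the abelian subgroup `A ≤ P` and whose `p`-th power
centralizes `A` centralizes the `p ^ n`-th powers of the elements of `A`. -/
theorem comm_agemo {p : ℕ} (hp : p.Prime) (n : ℕ) {P A : Subgroup G}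
    (hcl : Subgroup.lowerCentralSeries P (n * (p - 1) + 1) = ⊥) (hAP : A ≤ P)
    (hA : ∀ a ∈ A, ∀ b ∈ A, a * b = b * a) {y : G} (hyP : y ∈ P) (hy : y ∈ normalizer (A : Set G))
    (hyp : ∀ a ∈ A, y ^ p * a * (y ^ p)⁻¹ = a) {a : G} (ha : a ∈ A) :
    y * a ^ p ^ n * y⁻¹ = a ^ p ^ n := by
  let _ : CommGroup A := { (inferInstance : Group A) with
    mul_comm := fun x z => Subtype.ext (hA _ x.2 _ z.2) }
  let φ : AddMonoid.End (Additive A) :=
    AddMonoidHom.mk' (fun x => Additive.ofMul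
      (⟨y * (Additive.toMul x : A) * y⁻¹, (mem_normalizer_iff.1 hy _).1 (Additive.toMul x).2⟩ : A))
      (by
        intro x z
        apply Additive.toMul.injective
        apply Subtype.ext
        simp)
  have hmul : ∀ (f g : AddMonoid.End (Additive A)) (x : Additive A), (f * g) x = f (g x) :=
    fun _ _ _ => rfl
  have hφ : ∀ x : Additive A, ((Additive.toMul (φ x) : A) : G) =
      y * ((Additive.toMul x : A) : G) * y⁻¹ := fun x => rfl
  have hφk : ∀ k : ℕ, ∀ x : Additive A, ((Additive.toMul ((φ ^ k) x) : A) : G) =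
      y ^ k * ((Additive.toMul x : A) : G) * (y ^ k)⁻¹ := by
    intro k
    induction k with
    | zero => intro x; simp
    | succ k ih =>
      intro x
      rw [pow_succ', hmul, hφ, ih, pow_succ']
      group
  have hφp : φ ^ p = 1 := by
    ext x
    change ((Additive.toMul ((φ ^ p) x) : A) : G) = ((Additive.toMul x : A) : G)
    rw [hφk, hyp _ (Additive.toMul x).2]
  have hLk : ∀ k : ℕ, ∀ x : Additive A, ((Additive.toMul (((φ - 1) ^ k) x) : A) : G) ∈
      Subgroup.lowerCentralSeries P k := by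
    intro k
    induction k with
    | zero => intro x; exact hAP (Additive.toMul x).2
    | succ k ih =>
      intro x
      rw [pow_succ', hmul]
      set u := ((φ - 1) ^ k) x with hu
      have hux : ((Additive.toMul u : A) : G) ∈ Subgroup.lowerCentralSeries P k := ih x
      have e : ((Additive.toMul ((φ - 1) u) : A) : G) =
          ⁅((Additive.toMul u : A) : G), y⁆⁻¹ := by
        change ((Additive.toMul (φ u - u) : A) : G) = _
        rw [commutatorElement_inv, commutatorElement_def, ← hφ, toMul_sub]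
        rw [Subgroup.coe_div, div_eq_mul_inv]
      rw [e, Subgroup.lowerCentralSeries_succ]
      exact inv_mem (Subgroup.commutator_mem_commutator hux hyP)
  have hnil : (φ - 1) ^ (n * (p - 1) + 1) = 0 := by
    ext x
    have h1 := hLk (n * (p - 1) + 1) x
    rw [hcl, Subgroup.mem_bot] at h1
    simpa using h1
  have h := ring_key' hp n (t := φ - 1) (by rw [sub_add_cancel, hφp]) hnil
  have h1 := DFunLike.congr_fun h (Additive.ofMul (⟨a, ha⟩ : A))
  have h2 : ((p : AddMonoid.End (Additive A)) ^ n * (φ - 1)) (Additive.ofMul (⟨a, ha⟩ : A)) =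
      (p ^ n) • (φ (Additive.ofMul (⟨a, ha⟩ : A)) - Additive.ofMul (⟨a, ha⟩ : A)) := by
    rw [← Nat.cast_pow, hmul, AddMonoid.End.natCast_apply]
    rfl
  rw [h2, smul_sub] at h1
  have h3 : (p ^ n) • φ (Additive.ofMul (⟨a, ha⟩ : A)) = (p ^ n) • Additive.ofMul (⟨a, ha⟩ : A) :=
    sub_eq_zero.1 h1
  rw [← map_nsmul] at h3
  have h4 := congrArg (fun x : Additive A => ((Additive.toMul x : A) : G)) h3
  simp only [hφ] at h4
  simpa using h4

section Main

variable [Finite G] {p : ℕ} [hp : Fact p.Prime]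

theorem not_dvd_relIndex_of_normal {S N C : Subgroup G} (hCN : C ≤ N)
    (hn : (C.subgroupOf N).Normal) (h : ¬ p ∣ S.relIndex N) : ¬ p ∣ S.relIndex C := by
  intro h1
  apply h
  refine dvd_trans h1 ?_
  have e1 : S.relIndex C = (S.subgroupOf N).relIndex (C.subgroupOf N) := by
    rw [relIndex_subgroupOf hCN]
  have e2 : S.relIndex N = (S.subgroupOf N).index := rfl
  rw [e1, e2]
  exact relIndex_dvd_index_of_normal_right _ _

/-- The local step. -/
theorem local_step (n : ℕ) (P : Sylow p G)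
    (hcl : Subgroup.lowerCentralSeries (P : Subgroup G) (n * (p - 1) + 1) = ⊥)
    {X : Subgroup G} (hX : X < (P : Subgroup G))
    (hfn : ¬ p ∣ ((P : Subgroup G) ⊓ normalizer (X : Set G)).relIndex (normalizer (X : Set G)))
    (hcen : centralizer (X : Set G) ⊓ P ≤ X)
    (IH : ∀ D : Subgroup G, D ≤ (P : Subgroup G) → Nat.card X < Nat.card D →
      ∀ z ∈ (P : Subgroup G) ⊓ centralizer ((P : Subgroup G) : Set G), z ^ p ^ n ∈ D → ∀ g : G,
      D.map (MulAut.conj g).toMonoidHom ≤ (P : Subgroup G) →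
      ∃ m ∈ normalizer ((P : Subgroup G) : Set G), g * z ^ p ^ n * g⁻¹ = m * z ^ p ^ n * m⁻¹)
    {z : G} (hz : z ∈ (P : Subgroup G) ⊓ centralizer ((P : Subgroup G) : Set G))
    {x : G} (hx : x ∈ normalizer (X : Set G)) :
    ∃ m ∈ normalizer ((P : Subgroup G) : Set G), x * z ^ p ^ n * x⁻¹ = m * z ^ p ^ n * m⁻¹ := by
  set N := normalizer (X : Set G) with hN
  set A : Subgroup G := X ⊓ centralizer (X : Set G) with hA
  have hAconj : ∀ y ∈ N, ∀ a ∈ A, y * a * y⁻¹ ∈ A := by
    intro y hy a ha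
    refine mem_inf.2 ⟨(mem_normalizer_iff.1 hy _).1 ha.1, ?_⟩
    rw [mem_centralizer_iff]
    intro b hb
    have h1 : y⁻¹ * b * y ∈ X := by
      have := (mem_normalizer_iff.1 (inv_mem hy) b).1 hb
      simpa using this
    have h2 := mem_centralizer_iff.1 ha.2 _ h1
    calc b * (y * a * y⁻¹) = y * ((y⁻¹ * b * y) * a) * y⁻¹ := by group
      _ = y * (a * (y⁻¹ * b * y)) * y⁻¹ := by rw [h2]
      _ = _ := by group
  have hAab : ∀ a ∈ A, ∀ b ∈ A, a * b = b * a := fun a ha b hb =>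
    mem_centralizer_iff.1 hb.2 _ ha.1
  have hAN : ∀ y ∈ N, y ∈ normalizer (A : Set G) := by
    intro y hy
    rw [mem_normalizer_iff]
    intro a
    refine ⟨hAconj y hy a, fun h => ?_⟩
    have := hAconj _ (inv_mem hy) _ h
    simpa [mul_assoc] using this
  set C : Subgroup G := centralizer ({w | ∃ a ∈ A, w = a ^ p ^ n} : Set G) ⊓ N with hC
  have hCN : C ≤ N := inf_le_right
  have hCconj : ∀ y ∈ N, ∀ c ∈ C, y * c * y⁻¹ ∈ C := by
    intro y hy c hc
    refine mem_inf.2 ⟨?_, mul_mem (mul_mem hy (mem_inf.1 hc).2) (inv_mem hy)⟩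
    rw [mem_centralizer_iff]
    rintro _ ⟨a, ha, rfl⟩
    have h1 : y⁻¹ * a * y ∈ A := by
      have := hAconj _ (inv_mem hy) a ha
      simpa using this
    have h2 : (y⁻¹ * a * y) ^ p ^ n * c = c * (y⁻¹ * a * y) ^ p ^ n :=
      mem_centralizer_iff.1 hc.1 _ ⟨_, h1, rfl⟩
    have h3 : (y⁻¹ * a * y) ^ p ^ n = y⁻¹ * a ^ p ^ n * y := by
      have := conj_pow (a := y⁻¹) (b := a) (i := p ^ n)
      simpa using this
    rw [h3] at h2
    calc a ^ p ^ n * (y * c * y⁻¹) = y * ((y⁻¹ * a ^ p ^ n * y) * c) * y⁻¹ := by group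
      _ = y * (c * (y⁻¹ * a ^ p ^ n * y)) * y⁻¹ := by rw [h2]
      _ = _ := by group
  have hCnorm : (C.subgroupOf N).Normal := by
    refine ⟨fun c hc g => ?_⟩
    rw [mem_subgroupOf] at hc ⊢
    exact hCconj _ g.2 _ hc
  have hXC : X ≤ C := by
    intro b hb
    refine mem_inf.2 ⟨?_, le_normalizer hb⟩
    rw [mem_centralizer_iff]
    rintro _ ⟨a, ha, rfl⟩
    have h1 : Commute a b := (mem_centralizer_iff.1 ha.2 b hb).symm
    exact (h1.pow_left _).eq
  have hlt : X < (P : Subgroup G) ⊓ N := lt_inf_normalizer P.isPGroup' hX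
  -- an element of order `p` modulo `X`
  obtain ⟨y, hyS, hyX, hypX⟩ : ∃ y ∈ (P : Subgroup G) ⊓ N, y ∉ X ∧ y ^ p ∈ X := by
    obtain ⟨y, hyS, hyX⟩ := SetLike.exists_of_lt hlt
    have hex : ∃ k : ℕ, y ^ p ^ k ∈ X := by
      obtain ⟨k, hk⟩ := P.isPGroup' ⟨y, hyS.1⟩
      refine ⟨k, ?_⟩
      have : y ^ p ^ k = 1 := by simpa using congrArg (fun t : (P : Subgroup G) => (t : G)) hk
      rw [this]; exact one_mem _
    classical
    obtain ⟨j, hj⟩ : ∃ j, Nat.find hex = j + 1 := by
      apply Nat.exists_eq_succ_of_ne_zero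
      intro h0
      have := Nat.find_spec hex
      rw [h0] at this
      exact hyX (by simpa using this)
    refine ⟨y ^ p ^ j, pow_mem hyS _, Nat.find_min hex (by omega), ?_⟩
    rw [← pow_mul, ← pow_succ, ← hj]
    exact Nat.find_spec hex
  have hyC : y ∈ C := by
    refine mem_inf.2 ⟨?_, hyS.2⟩
    rw [mem_centralizer_iff]
    rintro _ ⟨a, ha, rfl⟩
    have h1 := comm_agemo hp.out n hcl (inf_le_left.trans hX.le : A ≤ (P : Subgroup G)) hAab hyS.1
      (hAN y hyS.2) (by
        intro b hb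
        have := mem_centralizer_iff.1 hb.2 _ hypX
        rw [this]; group) ha
    calc a ^ p ^ n * y = (y * a ^ p ^ n * y⁻¹) * y := by rw [h1]
      _ = _ := by group
  set D : Subgroup G := ((P : Subgroup G) ⊓ N) ⊓ C with hD
  have hXD : X < D := by
    refine lt_of_le_of_ne (le_inf hlt.le hXC) ?_
    intro h
    apply hyX
    rw [h]
    exact ⟨hyS, hyC⟩
  have hDi : ¬ p ∣ D.relIndex C := by
    rw [hD, inf_relIndex_right]
    exact not_dvd_relIndex_of_normal hCN hCnorm hfn
  have hDp : IsPGroup p D := P.isPGroup'.to_le (inf_le_left.trans inf_le_left)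
  have hmapC : D.map (MulAut.conj x).toMonoidHom ≤ C := by
    rintro _ ⟨d, hd, rfl⟩
    have := hCconj x hx d hd.2
    simpa using this
  obtain ⟨c, hc, hcle⟩ := exists_conj_le_in (p := p) hDp hDi hmapC (hDp.map _)
  rw [map_conj_map_conj] at hcle
  have hzX : z ∈ X := hcen ⟨centralizer_le (by exact_mod_cast hX.le) hz.2, hz.1⟩
  have hzA : z ∈ A := ⟨hzX, centralizer_le (by exact_mod_cast hX.le) hz.2⟩
  obtain ⟨m, hm, hme⟩ := IH D (inf_le_left.trans inf_le_left)
    (Set.Finite.card_lt_card (Set.toFinite _) hXD) z hz (hXD.le (pow_mem hzX _)) (c * x)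
    (hcle.trans (inf_le_left.trans inf_le_left))
  refine ⟨m, hm, ?_⟩
  rw [← hme]
  have h1 : x * z ^ p ^ n * x⁻¹ = (x * z * x⁻¹) ^ p ^ n := conj_pow.symm
  have h2 : (x * z * x⁻¹) ^ p ^ n * c = c * (x * z * x⁻¹) ^ p ^ n :=
    mem_centralizer_iff.1 hc.1 _ ⟨_, hAconj x hx z hzA, rfl⟩
  calc x * z ^ p ^ n * x⁻¹ = (x * z * x⁻¹) ^ p ^ n * c * c⁻¹ := by rw [← h1]; group
    _ = c * (x * z ^ p ^ n * x⁻¹) * c⁻¹ := by rw [h2, h1]
    _ = _ := by group

/-- Every `G`-conjugate in `P` of `z ^ p ^ n`, `z ∈ Z(P)`, is an `N_G(P)`-conjugate, if `P` has class at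
most `n (p - 1) + 1`. -/
theorem conj_agemo_aux (n : ℕ) (P : Sylow p G)
    (hcl : Subgroup.lowerCentralSeries (P : Subgroup G) (n * (p - 1) + 1) = ⊥) :
    ∀ k : ℕ, ∀ X : Subgroup G, X ≤ (P : Subgroup G) → Nat.card (P : Subgroup G) ≤ Nat.card X + k →
      ∀ z ∈ (P : Subgroup G) ⊓ centralizer ((P : Subgroup G) : Set G), z ^ p ^ n ∈ X → ∀ g : G,
      X.map (MulAut.conj g).toMonoidHom ≤ (P : Subgroup G) →
      ∃ m ∈ normalizer ((P : Subgroup G) : Set G), g * z ^ p ^ n * g⁻¹ = m * z ^ p ^ n * m⁻¹ := by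
  have hbase : ∀ X : Subgroup G, X = (P : Subgroup G) → ∀ z : G, ∀ g : G,
      X.map (MulAut.conj g).toMonoidHom ≤ (P : Subgroup G) →
      ∃ m ∈ normalizer ((P : Subgroup G) : Set G), g * z ^ p ^ n * g⁻¹ = m * z ^ p ^ n * m⁻¹ := by
    rintro X rfl z g hg
    exact ⟨g, mem_normalizer_iff_map_conj.2 (map_conj_le_of_le_normalizer hg), rfl⟩
  intro k
  induction k with
  | zero =>
    intro X hX hk z _ _ g hg
    exact hbase X (Subgroup.eq_of_le_of_card_ge hX (by simpa using hk)) z g hg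
  | succ k ih =>
    intro X hX hk
    by_cases hXP : X = (P : Subgroup G)
    · intro z _ _ g hg
      exact hbase X hXP z g hg
    have big : ∀ D : Subgroup G, D ≤ (P : Subgroup G) → Nat.card X < Nat.card D →
        ∀ z ∈ (P : Subgroup G) ⊓ centralizer ((P : Subgroup G) : Set G), z ^ p ^ n ∈ D → ∀ g : G,
        D.map (MulAut.conj g).toMonoidHom ≤ (P : Subgroup G) →
        ∃ m ∈ normalizer ((P : Subgroup G) : Set G), g * z ^ p ^ n * g⁻¹ = m * z ^ p ^ n * m⁻¹ := by
      intro D hD hc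
      exact ih D hD (by omega)
    let F : Subgroup G → Prop := fun Y => Y = (P : Subgroup G) ∨ (Y < (P : Subgroup G) ∧
      ¬ p ∣ ((P : Subgroup G) ⊓ normalizer (Y : Set G)).relIndex (normalizer (Y : Set G)) ∧
      centralizer (Y : Set G) ⊓ (P : Subgroup G) ≤ Y)
    have main : ∀ (A : Subgroup G) (g : G), Gen (P : Subgroup G) F A g → Nat.card A = Nat.card X →
        ∀ z ∈ (P : Subgroup G) ⊓ centralizer ((P : Subgroup G) : Set G), z ^ p ^ n ∈ A →
        ∃ m ∈ normalizer ((P : Subgroup G) : Set G), g * z ^ p ^ n * g⁻¹ = m * z ^ p ^ n * m⁻¹ := by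
      intro A g h
      induction h with
      | cent _ hc =>
        intro _ z _ hzA
        refine ⟨1, one_mem _, ?_⟩
        rw [conj_eq_of_mem_centralizer hc hzA]
        group
      | @base A Y g hY hF hAY hg =>
        intro hcard z hz hzA
        rcases hF with hYP | ⟨hYP, hfn, hcen⟩
        · exact ⟨g, by rw [← hYP]; exact hg, rfl⟩
        · rcases lt_or_ge (Nat.card A) (Nat.card Y) with h1 | h1
          · exact big Y hY (by omega) z hz (hAY hzA) g
              (by rw [mem_normalizer_iff_map_conj.1 hg]; exact hY)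
          · have hAeq : A = Y := Subgroup.eq_of_le_of_card_ge hAY h1
            subst hAeq
            exact local_step n P hcl hYP hfn hcen (fun D hD hc => big D hD (by omega)) hz hg
      | @mul A g h _ _ ih1 ih2 =>
        intro hcard z hz hzA
        obtain ⟨m, hm, hme⟩ := ih1 hcard z hz hzA
        have hz' : m * z * m⁻¹ ∈ (P : Subgroup G) ⊓ centralizer ((P : Subgroup G) : Set G) := by
          refine mem_inf.2 ⟨(mem_normalizer_iff.1 hm _).1 hz.1, ?_⟩
          rw [mem_centralizer_iff]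
          intro b hb
          have h1 : m⁻¹ * b * m ∈ (P : Subgroup G) := by
            have := (mem_normalizer_iff.1 (inv_mem hm) b).1 hb
            simpa using this
          have h2 := mem_centralizer_iff.1 hz.2 _ h1
          calc b * (m * z * m⁻¹) = m * ((m⁻¹ * b * m) * z) * m⁻¹ := by group
            _ = m * (z * (m⁻¹ * b * m)) * m⁻¹ := by rw [h2]
            _ = _ := by group
        obtain ⟨m', hm', hme'⟩ := ih2 ((card_map_conj A g).trans hcard) _ hz' (by
          rw [conj_pow, ← hme]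
          exact conj_mem_map_conj hzA g)
        refine ⟨m' * m, mul_mem hm' hm, ?_⟩
        rw [conj_pow] at hme'
        calc h * g * z ^ p ^ n * (h * g)⁻¹ = h * (g * z ^ p ^ n * g⁻¹) * h⁻¹ := by group
          _ = m' * (m * z ^ p ^ n * m⁻¹) * m'⁻¹ := by rw [hme, hme']
          _ = _ := by group
    intro z hz hzX g hg
    refine main X g (gen_of_conj P F (Or.inl rfl) ?_ hX hg) rfl z hz hzX
    intro Y hY h1 h2 _
    exact Or.inr ⟨hY, h1, h2⟩

theorem conj_agemo (n : ℕ) (P : Sylow p G)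
    (hcl : Subgroup.lowerCentralSeries (P : Subgroup G) (n * (p - 1) + 1) = ⊥) {z : G}
    (hz : z ∈ (P : Subgroup G) ⊓ centralizer ((P : Subgroup G) : Set G)) {g : G}
    (hg : g * z ^ p ^ n * g⁻¹ ∈ (P : Subgroup G)) :
    ∃ m ∈ normalizer ((P : Subgroup G) : Set G), g * z ^ p ^ n * g⁻¹ = m * z ^ p ^ n * m⁻¹ :=
  conj_agemo_aux n P hcl _ (zpowers (z ^ p ^ n)) (zpowers_le.2 (pow_mem hz.1 _))
    (Nat.le_add_left _ _) z hz (mem_zpowers _) g (zpowers_map_conj_le hg)

/-- The subgroup `℧ⁿ(Z(P))`. -/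
def agemoCenter (n : ℕ) (P : Subgroup G) (p : ℕ) : Subgroup G where
  carrier := {w | ∃ z ∈ P ⊓ centralizer (P : Set G), w = z ^ p ^ n}
  one_mem' := ⟨1, one_mem _, (one_pow _).symm⟩
  mul_mem' := by
    rintro _ _ ⟨a, ha, rfl⟩ ⟨b, hb, rfl⟩
    refine ⟨a * b, mul_mem ha hb, ?_⟩
    have h : Commute a b := mem_centralizer_iff.1 hb.2 _ ha.1
    rw [h.mul_pow]
  inv_mem' := by
    rintro _ ⟨a, ha, rfl⟩
    exact ⟨a⁻¹, inv_mem ha, (inv_pow _ _).symm⟩

end Main

end Cfsg.Agent.H181.AgemoFusion
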