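import Cfsg.Agent.H181.FFExc
import Cfsg.Agent.H792.Sp.JThree

/-!
# `J₃` : the centre of a Sylow 3-subgroup has exponent 3 (helper181)
-/

set_option autoImplicit false

namespace Cfsg.Agent.H181.FFReduce

open Subgroup Cfsg Cfsg.Spor Cfsg.Agent.H749 Cfsg.Agent.H792.SpCube Cfsg.Agent.J3.Core Cfsg.Agent.J3.Tab
  Cfsg.Agent.J3.Mono Cfsg.Agent.J3.Elts Cfsg.Agent.H898.J3Three Cfsg.Agent.H792.SpJ3
open Cfsg.Agent.J3.Nineteen (exists_scalar center_eq card_center)

theorem j3_a_ne {F : Type*} [Field F] {ω : F} [Fintype F] (hF : Fintype.card F = 4) (H : Good ω) (G : Gens F ω) {w : F9}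
    (h : (pr (G.a w) : J3 F ω) = 1) : w = 0 := by
  obtain ⟨s0, hs0⟩ := exists_scalar H G
  have hfin := finite_three hF H
  have h1 : G.a w ∈ center (threeJ3 F ω) := (QuotientGroup.eq_one_iff _).1 h
  rw [center_eq hF H hs0] at h1
  obtain ⟨n, hn⟩ := (isOfFinOrder_of_finite s0).mem_powers_iff_mem_zpowers.2 h1
  have hn' : s0 ^ n = G.a w := hn
  have h2 : s0 ^ n = s0 ^ (n % 3) := by
    conv_lhs => rw [← Nat.div_add_mod n 3, pow_add, pow_mul, s0_cube H hs0, one_pow, one_mul]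
  have h3 : el G s0 ((0 : Fin 3) : ℕ) ((0 : Fin 3) : ℕ) w 0 =
      el G s0 ((⟨n % 3, Nat.mod_lt _ (by norm_num)⟩ : Fin 3) : ℕ) ((0 : Fin 3) : ℕ) 0 0 := by
    unfold el
    rw [Fin.val_zero, pow_zero, pow_zero, one_mul, one_mul, d_zero G, mul_one, ← hn', h2, one_mul, a_zero H G, mul_one,
      mul_one]
  exact (el_inj G H hs0 h3).2.2.1

theorem expZ_j3 {K : Type*} [Group K] (h : IsoJ3 K) : ExpZ 3 K := by
  have : Fact (Nat.Prime 3) := ⟨Nat.prime_three⟩
  obtain ⟨F, _, _, ω, hF, hω, ⟨e⟩⟩ := h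
  have H := good_of_card hF hω
  obtain ⟨G⟩ := exists_gens hF H
  obtain ⟨S, hS⟩ := exists_S hF H G
  have hfin' := finite_three hF H
  have hfin : Finite (J3 F ω) := Quotient.finite _
  have : Finite K := Finite.of_equiv _ e.symm.toEquiv
  refine expZ_of_subgroup (p := 3) e (X := (S : Subgroup (J3 F ω))) S.isPGroup' S.not_dvd_index ?_
  rintro z ⟨hzS, hz⟩
  obtain ⟨k, a, w, rfl⟩ := (hS z).1 hzS
  have he : pr G.e ∈ (S : Subgroup (J3 F ω)) := (hS _).2 ⟨1, 0, 0, by
    rw [a_zero H G, d_zero G, pow_one, mul_one, mul_one]⟩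
  have h1 := mem_centralizer_iff.1 hz _ he
  have h2 := pr_dek hF H G w 1
  rw [pow_one, one_smul] at h2
  have h3 : (pr (G.a a) : J3 F ω) * pr G.e = pr G.e * pr (G.a a) := by rw [← map_mul, ae G H, map_mul]
  have hw : w = 0 := by
    apply j3_a_ne hF H G
    rw [map_mul, map_mul, map_pow] at h1
    have h4 : pr G.e * (pr G.e ^ k * (pr (G.a a) * pr (G.d w))) =
        pr G.e * (pr G.e ^ k * (pr (G.a a) * pr (G.a w) * pr (G.d w))) := by
      rw [h1]
      calc pr G.e ^ k * (pr (G.a a) * pr (G.d w)) * pr G.e = pr G.e ^ k * (pr (G.a a) * (pr (G.d w) * pr G.e)) := by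
            simp only [mul_assoc]
        _ = pr G.e ^ k * ((pr (G.a a) * pr G.e) * (pr (G.a w) * pr (G.d w))) := by
            rw [h2]; simp only [mul_assoc]
        _ = pr G.e ^ k * pr G.e * (pr (G.a a) * pr (G.a w) * pr (G.d w)) := by
            rw [h3]; simp only [mul_assoc]
        _ = _ := by rw [← pow_succ, pow_succ']; simp only [mul_assoc]
    have h5 := mul_left_cancel (mul_left_cancel h4)
    rw [mul_assoc] at h5
    have h6 := mul_left_cancel h5
    exact (mul_eq_right.1 h6.symm)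
  subst hw
  rw [d_zero G, mul_one, map_mul, map_pow]
  have h4 : Commute (pr G.e ^ k : J3 F ω) (pr (G.a a)) := (show Commute (pr G.e : J3 F ω) (pr (G.a a)) from h3.symm).pow_left k
  rw [h4.mul_pow, cube_Z H G, mul_one, ← pow_mul, mul_comm, pow_mul, ← map_pow, e_cube G H, map_one, one_pow]

end Cfsg.Agent.H181.FFReduce
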