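import Cfsg.Agent.H181.FFExp
import Cfsg.Agent.J3Type.ClosingApply
import Cfsg.Prelude.Def_Spor_J3

/-!
# The exceptional groups of S2229, explicit form (helper181)

* `ExcS p G` : the exceptions, with `²G₂(q)` and `J₃` as explicit groups;
* `exc_of_excS`, `expZ_of_excS`;
* `Row p G` : `Full p G ∨ ExcS p G ∨ GTwo p G`;
* `qd_row`, `exp_row` : S2229, S2230 from `Row p G`.
-/

set_option autoImplicit false

namespace Cfsg.Agent.H181.FFReduce

open Cfsg Subgroup Cfsg.Agent.H794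

/-- The exceptional groups. -/
def ExcS (p : ℕ) (G : Type*) [Group G] : Prop :=
  (∃ (K : Type) (_ : Field K) (_ : Fintype K) (n : ℕ), Fintype.card K = (p ^ n) ^ 2 ∧ Nonempty (G ≃* Cfsg.PSU 3 K (p ^ n))) ∨
  (p = 3 ∧ Cfsg.Lie.IsoRee G) ∨
  (p = 3 ∧ ∃ (F : Type) (_ : Field F) (_ : Fintype F), (3 : F) ≠ 0 ∧ ¬ 9 ∣ Nat.card F ^ 2 - 1 ∧ Nonempty (G ≃* Cfsg.Lie.G2 F)) ∨
  (p = 3 ∧ (Cfsg.IsJ2 G ∨ Cfsg.Spor.IsoJ3 G)) ∨
  (p = 5 ∧ (Cfsg.IsHS G ∨ Cfsg.IsMcL G ∨ Cfsg.IsCo2 G ∨ Cfsg.IsCo3 G)) ∨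
  (p = 11 ∧ Cfsg.IsJ4 G)

/-- The rows of the Flores–Foote theorem for `G` with nonabelian Sylow `p`-subgroups, `p` odd. -/
def Row (p : ℕ) (G : Type*) [Group G] : Prop := Full p G ∨ ExcS p G ∨ GTwo p G

theorem exc_of_excS {p : ℕ} {G : Type*} [Group G] [IsSimpleGroup G] (h : ExcS p G) : Exc p G := by
  rcases h with h | ⟨rfl, h⟩ | ⟨rfl, F, i1, i2, h3, h9, h⟩ | ⟨rfl, h⟩ | h | h
  · exact Or.inl h
  · obtain ⟨K, _, _, m, hm, hK, ⟨e⟩⟩ := h
    refine Or.inr (Or.inl ⟨rfl, inferInstance, m, hm, ?_⟩)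
    rw [Nat.card_congr e.toEquiv, Cfsg.Agent.S1069.result hK]
    ring
  · refine Or.inr (Or.inr (Or.inl ⟨rfl, F, i1, i2, Fintype.card F, rfl, ?_, h⟩))
    rw [Nat.card_eq_fintype_card] at h9
    have h4 : Fintype.card F % 3 = 1 ∨ Fintype.card F % 3 = 2 := by
      rw [← Nat.card_eq_fintype_card]
      exact OctHerm.mod_three h3
    have h5 : (Fintype.card F) ^ 2 % 3 = 1 := by
      rcases h4 with h | h <;> rw [pow_two, Nat.mul_mod, h]
    omega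
  · refine Or.inr (Or.inr (Or.inr (Or.inl ⟨rfl, ?_⟩)))
    rcases h with h | h
    · exact Or.inl h
    · exact Or.inr ⟨inferInstance, (Cfsg.Agent.J3Type.ClosingApply.isoJ3_facts h).1⟩
  · exact Or.inr (Or.inr (Or.inr (Or.inr (Or.inl h))))
  · exact Or.inr (Or.inr (Or.inr (Or.inr (Or.inr h))))

theorem expZ_of_excS {p : ℕ} [hp : Fact p.Prime] (hp2 : p ≠ 2) {G : Type*} [Group G] [Finite G] (h : ExcS p G)
    (hJ3 : p = 3 → Cfsg.Spor.IsoJ3 G → ExpZ 3 G) : ExpZ p G := by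
  rcases h with ⟨K, _, _, n, hK, ⟨e⟩⟩ | ⟨rfl, h⟩ | ⟨rfl, F, i1, i2, h3, h9, ⟨e⟩⟩ | ⟨rfl, h⟩ | ⟨rfl, h⟩ | ⟨rfl, h⟩
  · have hchar : CharP K p := by
      obtain ⟨r, hr⟩ := CharP.exists K
      have hrp : r.Prime := CharP.char_is_prime K r
      obtain ⟨k, hp1, hk⟩ := FiniteField.card K r
      have h1 : r ∣ (p ^ n) ^ 2 := by
        rw [← hK, hk]
        exact dvd_pow_self r k.ne_zero
      have h2 : r = p := (Nat.prime_dvd_prime_iff_eq hrp hp.out).1 (hrp.dvd_of_dvd_pow (hrp.dvd_of_dvd_pow h1))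
      rw [← h2]
      exact hr
    have hp3 : 3 ≤ p := by
      have := hp.out.two_le
      omega
    exact expZ_psu hp3 hK e
  · exact expZ_ree h
  · exact expZ_g2 h3 e
  · rcases h with h | h
    · refine expZ_of_card ?_
      rw [h.2]
      norm_num
    · exact hJ3 rfl h
  · refine expZ_of_card ?_
    rcases h with h | h | h | h <;> (rw [h.2]; norm_num)
  · refine expZ_of_card ?_
    rw [h.2]
    norm_num

/-- **S2229** for groups with a row. -/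
theorem qd_row {G : Type*} [Group G] [Finite G] {p : ℕ} [Fact p.Prime] (hp : p ≠ 2) [IsSimpleGroup G]
    (hrow : Row p G) (P : Sylow p G) (hP : ¬ IsMulCommutative ↥(P : Subgroup G)) :
    Cfsg.Involves ↥(Cfsg.qd p) G ∨ Exc p G :=
  qd_of hp (by
    rcases hrow with h | h | h
    · exact Or.inl h
    · exact Or.inr (Or.inl (exc_of_excS h))
    · exact Or.inr (Or.inr h)) P hP

/-- **S2230** for `p ≠ 2` and groups with a row. -/
theorem exp_row {G : Type*} [Group G] [Finite G] {p : ℕ} [Fact p.Prime] (hp : p ≠ 2)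
    (hrow : Row p G) (hJ3 : p = 3 → Cfsg.Spor.IsoJ3 G → ExpZ 3 G) (n : ℕ) (P : Sylow p G)
    (hna : ¬ IsMulCommutative ↥(P : Subgroup G))
    (hcl : Subgroup.lowerCentralSeries (P : Subgroup G) (n * (p - 1) + 1) = ⊥) :
    ∀ z ∈ (P : Subgroup G) ⊓ Subgroup.centralizer ((P : Subgroup G) : Set G), z ^ (p ^ n) = 1 :=
  exp_of (by
    rcases hrow with h | h | h
    · exact Or.inl h
    · exact Or.inr (expZ_of_excS hp h hJ3)
    · exact Or.inr (expZ_gTwo h)) n P hna hcl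

end Cfsg.Agent.H181.FFReduce
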