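import Cfsg.Agent.H181.FFReduceTwo
import Cfsg.Agent.LieClassical.SUBasic
import Cfsg.Agent.H794.DefAb
import Cfsg.Agent.S1069

/-!
# Centres of Sylow subgroups of exponent `p` (helper181)
-/

set_option autoImplicit false

namespace Cfsg.Agent.H181.FFReduce

open Cfsg Subgroup

theorem pow_three_eq_zero {K : Type*} [Field K] {N : Matrix (Fin 3) (Fin 3) K} (h : IsNilpotent N) : N ^ 3 = 0 := by
  have h1 := Matrix.isNilpotent_charpoly_sub_pow_of_isNilpotent h
  have h2 : N.charpoly = Polynomial.X ^ 3 := by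
    have h3 := sub_eq_zero.1 h1.eq_zero
    simpa using h3
  have h4 := Matrix.aeval_self_charpoly N
  rw [h2] at h4
  simpa using h4

/-- `p`-elements of `GL₃` in characteristic `p ≥ 3` have order dividing `p`. -/
theorem pow_eq_one_of_pow {K : Type*} [Field K] {p : ℕ} [hp : Fact p.Prime] [CharP K p] (hp3 : 3 ≤ p) {k : ℕ}
    {A : Matrix (Fin 3) (Fin 3) K} (h : A ^ p ^ k = 1) : A ^ p = 1 := by
  have hcA : CharP (Matrix (Fin 3) (Fin 3) K) p := inferInstance
  have h1 : (A - 1) ^ p ^ k = 0 := by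
    rw [sub_pow_char_pow_of_commute p k (Commute.one_right A), h, one_pow, sub_self]
  have h2 := pow_three_eq_zero ⟨_, h1⟩
  have h3 : (A - 1) ^ p = 0 := by
    obtain ⟨j, rfl⟩ : ∃ j, p = 3 + j := ⟨p - 3, by omega⟩
    rw [pow_add, h2, zero_mul]
  rw [sub_pow_char_of_commute p (Commute.one_right A), one_pow] at h3
  exact sub_eq_zero.1 h3

theorem psu_pow {K : Type*} [Field K] [Fintype K] {p : ℕ} [hp : Fact p.Prime] [CharP K p] (hp3 : 3 ≤ p) {q : ℕ}
    (hK : Fintype.card K = q ^ 2) {k : ℕ} {x : PSU 3 K q} (h : x ^ p ^ k = 1) : x ^ p = 1 := by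
  obtain ⟨g, rfl⟩ := QuotientGroup.mk_surjective x
  rw [← QuotientGroup.mk_pow, QuotientGroup.eq_one_iff] at h
  obtain ⟨c, hc3, hcq, hc⟩ := (LieClassical.SUBasic.mem_center_SU_iff hK le_rfl _).1 h
  -- `c` is a `p ^ k`-th power of a central element
  obtain ⟨w, hw, hwk⟩ : ∃ w ∈ center (SU 3 K q), w ^ p ^ k = g ^ p ^ k := by
    have h3 : (g ^ p ^ k) ^ 3 = 1 := by
      rw [hc]
      apply Subtype.ext
      apply Subtype.ext
      change (Matrix.diagonal fun _ => c) ^ 3 = (1 : Matrix (Fin 3) (Fin 3) K)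
      rw [Matrix.diagonal_pow]
      change Matrix.diagonal (fun _ => c ^ 3) = _
      rw [hc3, Matrix.diagonal_one]
    by_cases hp : p = 3
    · subst hp
      have h4 : c = 1 := by
        have h5 : (c - 1) ^ 3 = 0 := by
          rw [sub_pow_char, hc3, one_pow, sub_self]
        exact sub_eq_zero.1 (pow_eq_zero_iff (by norm_num) |>.1 h5)
      refine ⟨1, one_mem _, ?_⟩
      rw [one_pow, hc]
      apply Subtype.ext
      apply Subtype.ext
      change (1 : Matrix (Fin 3) (Fin 3) K) = Matrix.diagonal fun _ => c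
      rw [h4, Matrix.diagonal_one]
    · have hcop : Nat.Coprime (p ^ k) 3 := by
        apply Nat.Coprime.pow_left
        exact (Nat.coprime_primes ‹Fact p.Prime›.out Nat.prime_three).2 hp
      obtain ⟨j, -, hj⟩ := Nat.exists_mul_mod_eq_one_of_coprime hcop (by norm_num)
      refine ⟨(g ^ p ^ k) ^ j, pow_mem h _, ?_⟩
      rw [← pow_mul, mul_comm j, ← Nat.div_add_mod (p ^ k * j) 3, hj, pow_add, pow_mul, h3, one_pow,
        one_mul, pow_one]
  have hcomm : Commute g w⁻¹ := (Commute.inv_right (mem_center_iff.1 hw g))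
  have h5 : (g * w⁻¹) ^ p ^ k = 1 := by
    rw [hcomm.mul_pow, inv_pow, hwk, mul_inv_cancel]
  have h6 : (QuotientGroup.mk g : PSU 3 K q) = QuotientGroup.mk (g * w⁻¹) := by
    rw [QuotientGroup.eq, ← mul_assoc, inv_mul_cancel, one_mul]
    exact inv_mem hw
  rw [h6, ← QuotientGroup.mk_pow]
  have h7 : (g * w⁻¹) ^ p = 1 := by
    apply Subtype.ext
    apply Subtype.ext
    have h8 := congrArg (fun x : SU 3 K q => ((x : Matrix.SpecialLinearGroup (Fin 3) K) : Matrix (Fin 3) (Fin 3) K)) h5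
    simp only [SubmonoidClass.coe_pow, Matrix.SpecialLinearGroup.coe_pow, OneMemClass.coe_one,
      Matrix.SpecialLinearGroup.coe_one] at h8 ⊢
    exact pow_eq_one_of_pow hp3 h8
  rw [h7]
  rfl

theorem expZ_psu {p : ℕ} [hp : Fact p.Prime] {G : Type*} [Group G] (hp3 : 3 ≤ p)
    {K : Type*} [Field K] [Fintype K] [CharP K p] {q : ℕ} (hK : Fintype.card K = q ^ 2) (e : G ≃* PSU 3 K q) :
    ExpZ p G := by
  intro P _ z hz
  obtain ⟨k, hk⟩ := P.isPGroup' ⟨z, hz.1⟩
  have h1 : z ^ p ^ k = 1 := congrArg Subtype.val hk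
  apply e.injective
  rw [map_pow, map_one]
  exact psu_pow hp3 hK (k := k) (by rw [← map_pow, h1, map_one])

/-- Sylow subgroups of order `p³`. -/
theorem expZ_of_card {p : ℕ} [hp : Fact p.Prime] {G : Type*} [Group G] [Finite G] (h4 : ¬ p ^ 4 ∣ Nat.card G) :
    ExpZ p G := by
  intro P hna z hz
  obtain ⟨n, hn⟩ := IsPGroup.iff_card.1 P.isPGroup'
  have hn3 : n ≤ 3 := by
    by_contra hlt
    exact h4 ((pow_dvd_pow p (by omega : 4 ≤ n)).trans (by rw [← hn]; exact Subgroup.card_subgroup_dvd_card _))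
  have hC : IsPGroup p (center (P : Subgroup G)) := P.isPGroup'.to_subgroup _
  obtain ⟨m, hm⟩ := IsPGroup.iff_card.1 hC
  have hidx : Nat.card ((P : Subgroup G) ⧸ center (P : Subgroup G)) * p ^ m = p ^ n := by
    rw [← hm, ← hn]
    exact (Subgroup.card_eq_card_quotient_mul_card_subgroup _).symm
  have hle : m ≤ 1 := by
    by_contra hlt
    apply hna
    have hnm : m ≤ n := by
      have h1 : p ^ m ∣ p ^ n := ⟨_, by rw [← hidx, mul_comm]⟩
      exact (Nat.pow_dvd_pow_iff_le_right hp.out.one_lt).1 h1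
    have hq : Nat.card ((P : Subgroup G) ⧸ center (P : Subgroup G)) = p ^ (n - m) := by
      apply Nat.eq_of_mul_eq_mul_right (pow_pos hp.out.pos m)
      rw [hidx, ← pow_add]
      congr 1
      omega
    have hcyc : IsCyclic ((P : Subgroup G) ⧸ center (P : Subgroup G)) := by
      have h1 : n - m = 0 ∨ n - m = 1 := by omega
      rcases h1 with h1 | h1
      · rw [h1, pow_zero] at hq
        exact @isCyclic_of_subsingleton _ _ (Nat.card_eq_one_iff_unique.1 hq).1
      · rw [h1, pow_one] at hq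
        exact isCyclic_of_prime_card hq
    refine ⟨⟨fun a b => ?_⟩⟩
    exact commutative_of_cyclic_center_quotient (QuotientGroup.mk' (center (P : Subgroup G)))
      (by rw [QuotientGroup.ker_mk']) a b
  have hz' : (⟨z, hz.1⟩ : (P : Subgroup G)) ∈ center (P : Subgroup G) :=
    mem_center_iff.2 fun y => Subtype.ext (mem_centralizer_iff.1 hz.2 y y.2)
  have h1 : (⟨⟨z, hz.1⟩, hz'⟩ : center (P : Subgroup G)) ^ p = 1 := by
    have h2 : Nat.card (center (P : Subgroup G)) ∣ p := by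
      rw [hm]
      exact (pow_dvd_pow p hle).trans (by rw [pow_one])
    exact orderOf_dvd_iff_pow_eq_one.1 ((_root_.orderOf_dvd_natCard _).trans h2)
  exact congrArg Subtype.val (congrArg Subtype.val h1)

/-- it is enough to look at a subgroup of index prime to `p` of an isomorphic group -/
theorem expZ_of_subgroup {p : ℕ} [hp : Fact p.Prime] {G H : Type*} [Group G] [Group H] [Finite G] (e : G ≃* H)
    {X : Subgroup H} (hX : IsPGroup p X) (hi : ¬ p ∣ X.index)
    (h : ∀ z ∈ X ⊓ centralizer (X : Set H), z ^ p = 1) : ExpZ p G := by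
  have : Finite H := Finite.of_equiv G e.toEquiv
  intro P _ z hz
  let Y : Subgroup G := X.map e.symm.toMonoidHom
  have hY : IsPGroup p Y := hX.map _
  have hYi : ¬ p ∣ Y.index := by
    have h1 : Y.index = X.index := by
      change (X.map e.symm.toMonoidHom).index = X.index
      rw [Subgroup.index_map_of_bijective (f := e.symm.toMonoidHom) e.symm.bijective]
    rwa [h1]
  let Q : Sylow p G := hY.toSylow hYi
  obtain ⟨g, hg⟩ := MulAction.exists_smul_eq G Q P
  have hmem : ∀ x ∈ X, g * e.symm x * g⁻¹ ∈ (P : Subgroup G) := by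
    intro x hx
    rw [← hg]
    exact ⟨e.symm x, ⟨x, hx, rfl⟩, rfl⟩
  have hinv : ∀ y ∈ (P : Subgroup G), e (g⁻¹ * y * g) ∈ X := by
    intro y hy
    rw [← hg] at hy
    obtain ⟨w, ⟨x, hx, hw⟩, hwy⟩ := hy
    have hwy' : g * w * g⁻¹ = y := hwy
    have hw' : e.symm x = w := hw
    have h1 : g⁻¹ * y * g = w := by
      rw [← hwy']
      group
    rw [h1, ← hw', e.apply_symm_apply]
    exact hx
  have h2 : e (g⁻¹ * z * g) ∈ X ⊓ centralizer (X : Set H) := by
    refine ⟨hinv z hz.1, mem_centralizer_iff.2 fun x hx => ?_⟩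
    have h3 := mem_centralizer_iff.1 hz.2 _ (hmem x hx)
    have h4 : e.symm x * (g⁻¹ * z * g) = (g⁻¹ * z * g) * e.symm x := by
      calc e.symm x * (g⁻¹ * z * g) = g⁻¹ * ((g * e.symm x * g⁻¹) * z) * g := by group
        _ = g⁻¹ * (z * (g * e.symm x * g⁻¹)) * g := by rw [h3]
        _ = _ := by group
    have h5 := congrArg e h4
    rw [map_mul e (e.symm x), map_mul e _ (e.symm x), e.apply_symm_apply] at h5
    exact h5
  have h3 := h _ h2
  rw [← map_pow] at h3
  have h4 : (g⁻¹ * z * g) ^ p = 1 := e.injective (by rw [h3, map_one])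
  have h5 : (g⁻¹ * z * g) ^ p = g⁻¹ * z ^ p * g := by
    have := conj_pow (i := p) (a := g⁻¹) (b := z)
    rwa [inv_inv] at this
  rw [h5] at h4
  calc z ^ p = g * (g⁻¹ * z ^ p * g) * g⁻¹ := by group
    _ = 1 := by rw [h4]; group

open Cfsg.Agent.LieRecognition.ReeAbs Cfsg.Agent.LieRecognition.ReeSylowThree in
theorem expZ_ree {G : Type*} [Group G] [Finite G] (h : Cfsg.Lie.IsoRee G) : ExpZ 3 G := by
  have : Fact (Nat.Prime 3) := ⟨Nat.prime_three⟩
  obtain ⟨K, _, _, m, hm, hK, ⟨e⟩⟩ := h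
  have : Finite ↥(Cfsg.Lie.twistedG2 K (3 ^ m)) := Finite.of_equiv G e.toEquiv
  obtain ⟨U, h, n, D⟩ := Cfsg.Agent.ChevalleyStructure.Ree.Data.exists_data hK
  have hchar : CharP K 3 := by
    obtain ⟨p, hp⟩ := CharP.exists K
    have hpp : p.Prime := CharP.char_is_prime K p
    obtain ⟨n, hp1, hn⟩ := FiniteField.card K p
    have h1 : p ∣ 3 ^ (2 * m + 1) := by
      rw [← hK, hn]
      exact dvd_pow_self p n.ne_zero
    have h2 : p = 3 := (Nat.prime_dvd_prime_iff_eq hpp Nat.prime_three).1 (hpp.dvd_of_dvd_pow h1)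
    rw [← h2]
    exact hp
  have hcard : Nat.card (uSub D) = 3 ^ (3 * (2 * m + 1)) := by rw [card_uSub, hK, ← pow_mul, mul_comm]
  have h0 : (0 : K) ^ (3 ^ (m + 1)) = 0 := zero_pow (by positivity)
  refine expZ_of_subgroup (p := 3) e (X := uSub D) (IsPGroup.of_card (n := 3 * (2 * m + 1)) hcard) ?_ ?_
  · intro h3
    have h4 := Subgroup.card_mul_index (uSub D)
    rw [card_eq D, card_uSub D, mul_assoc] at h4
    have h5 := Nat.eq_of_mul_eq_mul_left (pow_pos Fintype.card_pos 3) h4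
    rw [h5, hK] at h3
    have h6 : 3 ^ (2 * m + 1) % 3 = 0 := by rw [pow_succ]; exact Nat.mul_mod_left _ _
    have h7 : 1 ≤ 3 ^ (2 * m + 1) := Nat.one_le_pow _ _ (by norm_num)
    rcases Nat.prime_three.dvd_mul.1 h3 with h8 | h8
    · omega
    · have h9 : ((3 ^ (2 * m + 1)) ^ 3 + 1) % 3 = 1 := by
        rw [Nat.add_mod, Nat.pow_mod, h6]
      omega
  · rintro z ⟨⟨t, u, v, rfl⟩, hz⟩
    have e1 := mem_centralizer_iff.1 hz _ (show U 0 1 0 ∈ uSub D from ⟨_, _, _, rfl⟩)
    have e2 := mem_centralizer_iff.1 hz _ (show U 1 0 0 ∈ uSub D from ⟨_, _, _, rfl⟩)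
    rw [D.U_mul, D.U_mul] at e1 e2
    obtain ⟨-, -, e13⟩ := U_injective D e1
    have ht : t = 0 := by
      rw [h0] at e13
      linear_combination -e13
    subst ht
    obtain ⟨-, -, e23⟩ := U_injective D e2
    have hu : u = 0 := by
      rw [h0] at e23
      linear_combination e23
    subst hu
    rw [pow_succ, pow_two, D.U_mul, D.U_mul, ← D.U_zero]
    congr 1
    · ring
    · rw [h0]; ring
    · rw [h0]
      have h3 : (3 : K) = 0 := CharP.cast_eq_zero K 3
      linear_combination v * h3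

end Cfsg.Agent.H181.FFReduce
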