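import Cfsg.Agent.H181.FFReduce
import Cfsg.Agent.H794.TwoClosed

/-!
# S2230 for `p = 2` (helper181)
-/

set_option autoImplicit false

namespace Cfsg.Agent.H181.FFReduce

open Cfsg Subgroup Cfsg.Agent.H794 Cfsg.Agent.PLocal.ThompsonJA Cfsg.Agent.H181.AgemoFusion

variable {G : Type*} [Group G]

theorem map_center_eq (P : Subgroup G) : (center P).map P.subtype = P ⊓ centralizer (P : Set G) := by
  ext x
  constructor
  · rintro ⟨y, hy, rfl⟩
    exact ⟨y.2, mem_centralizer_iff.2 fun z hz => congrArg Subtype.val (mem_center_iff.1 hy ⟨z, hz⟩)⟩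
  · rintro ⟨hx, hx2⟩
    exact ⟨⟨x, hx⟩, mem_center_iff.2 fun z => Subtype.ext (mem_centralizer_iff.1 hx2 z z.2), rfl⟩

theorem card_center_eq (P : Subgroup G) :
    Nat.card (center P) = Nat.card (P ⊓ centralizer (P : Set G) : Subgroup G) := by
  rw [← map_center_eq]
  exact Nat.card_congr ((center P).equivMapOfInjective _ P.subtype_injective).toEquiv

variable [Finite G]

theorem exp_two [IsSimpleGroup G] (hC : TwoClosed.Concl G) (n : ℕ) (P : Sylow 2 G)
    (hna : ¬ IsMulCommutative ↥(P : Subgroup G))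
    (hcl : Subgroup.lowerCentralSeries (P : Subgroup G) (n * (2 - 1) + 1) = ⊥) :
    ∀ z ∈ (P : Subgroup G) ⊓ Subgroup.centralizer ((P : Subgroup G) : Set G), z ^ (2 ^ n) = 1 := by
  intro z hz
  have h2 : Fact (Nat.Prime 2) := ⟨Nat.prime_two⟩
  have hn := one_le_of_nonab hna hcl
  have hsc := closed_agemoCenter n P hcl
  by_cases hA1 : agemoCenter n (P : Subgroup G) 2 = ⊥
  · have h2 : z ^ 2 ^ n ∈ agemoCenter n (P : Subgroup G) 2 := ⟨z, hz, rfl⟩
    rw [hA1, mem_bot] at h2
    exact h2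
  exfalso
  have hle : agemoCenter n (P : Subgroup G) 2 ≤ (P : Subgroup G) ⊓ centralizer ((P : Subgroup G) : Set G) := by
    rintro _ ⟨z, hz, rfl⟩
    exact pow_mem hz _
  by_cases hAP : agemoCenter n (P : Subgroup G) 2 = (P : Subgroup G)
  · exact agemoCenter_ne hn P (ne_bot_of_nonab hna) (by rw [hAP]; exact inf_le_left)
  obtain ⟨L, rfl, -, Q, hQ⟩ := TwoClosed.two_struct hC P _ hsc hA1 hAP
  apply agemoCenter_ne hn P (ne_bot_of_nonab hna)
  refine (Subgroup.eq_of_le_of_card_ge hle ?_).ge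
  rw [inf_top_eq] at hQ
  rw [hQ, ← card_center_eq]
  have e1 : Nat.card (((center (Q : Subgroup (⊤ : Subgroup G))).map (Q : Subgroup (⊤ : Subgroup G)).subtype).map
      (⊤ : Subgroup G).subtype) = Nat.card (center (Q : Subgroup (⊤ : Subgroup G))) := by
    rw [Nat.card_congr (Subgroup.equivMapOfInjective _ _ (⊤ : Subgroup G).subtype_injective).toEquiv.symm,
      Nat.card_congr (Subgroup.equivMapOfInjective _ _ (Q : Subgroup (⊤ : Subgroup G)).subtype_injective).toEquiv.symm]
  rw [e1]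
  have hsurj : Function.Surjective (⊤ : Subgroup G).subtype := fun x => ⟨⟨x, mem_top x⟩, rfl⟩
  let Q' : Sylow 2 G := Q.mapSurjective hsurj
  let e2 : (Q : Subgroup (⊤ : Subgroup G)) ≃* (Q' : Subgroup G) :=
    Subgroup.equivMapOfInjective _ _ (⊤ : Subgroup G).subtype_injective
  let e3 : (Q' : Subgroup G) ≃* (P : Subgroup G) := Sylow.equiv Q' P
  exact (Nat.card_congr (Subgroup.centerCongr (e2.trans e3)).toEquiv).ge

end Cfsg.Agent.H181.FFReduce
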