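import Cfsg.Agent.MonsterU.InvTwoMain

/-!
# Involutions of `K` over involutions of `Co1` (helper181)

`exists_inv` : for `A : Co0` with `A * A = 1` and `mk A ≠ 1` there is `t ∈ K`, `t * t = 1`, inducing `A`.
-/

set_option autoImplicit false

namespace Cfsg.Agent.H181.MonInv

open Cfsg Cfsg.Agent.LeechMat.Core Cfsg.Agent.MonsterX.KSide Cfsg.Agent.MonsterX.KLift
open Cfsg.Agent.MonsterX.FrameKS Cfsg.Agent.MonsterU.InvTwo
open Cfsg.Agent.MonsterU
open Cfsg.Agent.SporadicA.Co0Mono (signCo0)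
open Cfsg.Agent.SporadicA.Co1Simple
open Cfsg.Agent.CoOneType.ClosingFacts Cfsg.Agent.CoOneType.SignFacts

variable {G V P W : Type*} [Group G] [AddCommGroup V] [Module ℚ V]
  [DistribMulAction G V] [SMulCommClass G ℚ V] [Group P] [AddCommGroup W] [Module ℚ W]
  {M : KS G V P W} {θ : leechLattice → P} {Γ : Subgroup G} {τ : G} {y : P}

/-- An involution over a sign change. -/
theorem exists_inv_sign (L : Lift M θ) (H : TauHyp M θ Γ τ y) {c : golayCode} (hc : mk (signCo0 c) ≠ 1) :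
    ∃ t ∈ M.K, t * t = 1 ∧ Ind M t (signCo0 c) := by
  have h0 : wt c ≠ 0 := by
    intro h
    apply hc
    rw [eq_zero_of_wt h, Cfsg.Agent.SporadicA.Co0Mono.signCo0_zero]
    rfl
  have h24 : wt c ≠ 24 := by
    intro h
    apply hc
    rw [eq_allOne_of_wt h]
    have h1 := mk_add_allOne (0 : golayCode)
    rw [zero_add] at h1
    rw [h1, Cfsg.Agent.SporadicA.Co0Mono.signCo0_zero]
    rfl
  obtain ⟨O, hO⟩ : ∃ O, O = support₂ (c : GolayPt → ZMod 2) := ⟨_, rfl⟩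
  have hε : InvTwoLat.IsEps (signCo0 c) O := hO ▸ InvTwoLat.isEps_sign c
  have hwt : wt c = O.card := by rw [hO]; rfl
  obtain ⟨i, hi⟩ : O.Nonempty := by
    rw [← Finset.card_pos]
    omega
  obtain ⟨j, hj⟩ : ∃ j, j ∉ O := by
    by_contra hcon
    push Not at hcon
    have h1 : O = Finset.univ := Finset.eq_univ_of_forall hcon
    rw [h1, Finset.card_univ, Cfsg.Agent.Leech.Code.card_golayPt] at hwt
    exact h24 hwt
  obtain ⟨q, hq2, hsK, hs⟩ := TwoDod.exists_inv_Y L H hε hi hj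
  exact ⟨_, hsK, by rw [← TwoDod.Y_mul, hq2, map_one]; group, hs⟩

/-- **Involutions over involutions.** -/
theorem exists_inv (L : Lift M θ) (H : TauHyp M θ Γ τ y) {A : Co0} (hA : A * A = 1) (hA1 : mk A ≠ 1) :
    ∃ t ∈ M.K, t * t = 1 ∧ Ind M t A := by
  obtain ⟨g, c, hg⟩ := Cfsg.Agent.CoOneType.InvBridge.conj_sign A hA
  obtain ⟨t, ht, htt, hI⟩ := exists_inv_sign L H (c := c) (by
    intro h1
    apply hA1
    rw [← hg, mk_mul, mk_mul] at h1
    have h3 : mk g * mk A * mk g⁻¹ * mk g = 1 * mk g := by rw [h1]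
    rw [one_mul, mul_assoc (mk g * mk A), ← mk_mul g⁻¹, inv_mul_cancel, show (mk (1 : Co0)) = 1 from rfl, mul_one] at h3
    exact mul_eq_left.1 h3)
  obtain ⟨k, hk, hkI⟩ := TwoQ.exists_ind M g
  refine ⟨k⁻¹ * t * k, M.K.mul_mem (M.K.mul_mem (M.K.inv_mem hk) ht) hk, ?_, ?_⟩
  · rw [show k⁻¹ * t * k * (k⁻¹ * t * k) = k⁻¹ * (t * t) * k by group, htt, mul_one, inv_mul_cancel]
  · have h1 := TwoQ.Ind_conj hI hkI.inv
    rw [inv_inv, inv_inv, ← hg] at h1
    rwa [show g⁻¹ * (g * A * g⁻¹) * g = A by group] at h1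

end Cfsg.Agent.H181.MonInv
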