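import Cfsg.Agent.BpSevenCo.Conj

/-!
# Two involutions of `Co0` whose product has order 13 (helper181)

* `t1`, `t2` : `t1 * t1 = 1`, `t2 * t2 = 1`, `(t1 * t2) ^ 13 = 1`, `t1 * t2 ≠ 1`; neither is `1` or `-1`.
-/

set_option autoImplicit false
set_option maxRecDepth 100000

namespace Cfsg.Agent.H181.MonT

open Cfsg Cfsg.Agent.SporadicA Cfsg.Agent.SporadicStructure.Co0Matrix Cfsg.Agent.CoOneType.CoEval
open Cfsg.Agent.LThreeCo1.Ev Cfsg.Agent.MonsterU.Lam2 Cfsg.Agent.LThreeMB.Fix
open Cfsg.Agent.BpSevenCo

/-- code of a matrix -/
def n1 : ℕ := 479497334928142682715817063299383339219313164437739631642000909921397778984139966725708574278969462525912496130344745885013233743041139063498021000235832901806753144805865384747855574308360924116847147144828456631567514587299588726985450095586118848458356998597155363439741851080155426489053948758813537489741716580444341651002607413581946160207949759231272215355088735158026110902499737532925254273549034847861672491266175099529155316833643046140325565206492631074052788340283620819569334567166428812405707590914756088549927438335092355908628614361316786337251787722112761835613785743956259827109455842418108818329464859134036086291017035831807519260704000631497594790507459034397617515859552394030769417208502578804736910033034957246499900778694983656012389308555794582822250771229953832459700442178303367353660451972299079544105209713605813537394846466887213795856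

/-- code of a matrix -/
def n2 : ℕ := 535591277775116959230008674571960978991056362014512839840489864887379182680957588907044226064966124510015532361743544727837666899258354519403383437972840342322778920474360359886160990922752686674030167202519762336706284076891649672290659848243978064378512902477238538307184057242017702202293693217081167689224108703721685005753372935357722624050614963872960890753444382784193784238060073849932660358193550371058504192986353865342229406250112744014457847313811938295482949197151148723603368751973016779161448697682512697033407989439781116729815379757778324315655190945856579477371553629796460110458800467130435782399201887466647239382161228535289680663976962824167513100505556212143339478847937096364413563038173646308444153426774940171846875690468449442082575022699080915275023064080439579068129019104340577917027845414899452171956686380906532211224721119135824103890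

theorem ok1 : Ok (dec n1) (tr (dec n1)) := ok_of_okN (by decide +kernel)

theorem ok2 : Ok (dec n2) (tr (dec n2)) := ok_of_okN (by decide +kernel)

/-- the matrices -/
def M : ℕ → List (List ℤ)
  | 0 => dec n1
  | _ => dec n2

theorem okM (i : ℕ) : Ok (M i) (tr (M i)) := by
  unfold M
  split
  · exact ok1
  · exact ok2

/-- the elements -/
noncomputable def e (i : ℕ) : Co0 := Cfsg.Agent.SporadicStructure.Co0Matrix.mk (okM i)

theorem rep (i : ℕ) : Rep (e i) (M i) := rep_mk (okM i)

theorem sq1 : e 0 * e 0 = 1 := by
  have h := eq_of_eqB (w := [0, 0]) (w' := []) rep (by decide +kernel)
  simpa only [List.map_cons, List.map_nil, List.prod_cons, List.prod_nil, mul_one] using h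

theorem sq2 : e 1 * e 1 = 1 := by
  have h := eq_of_eqB (w := [1, 1]) (w' := []) rep (by decide +kernel)
  simpa only [List.map_cons, List.map_nil, List.prod_cons, List.prod_nil, mul_one] using h

theorem pow13 : (e 0 * e 1) ^ 13 = 1 := by
  have h := eq_of_eqB (w := (List.replicate 13 [0, 1]).flatten) (w' := []) rep (by decide +kernel)
  rw [List.map_nil, List.prod_nil] at h
  rw [← h]
  simp only [List.replicate, List.flatten_cons, List.flatten_nil, List.cons_append, List.nil_append, List.append_nil,
    List.map_cons, List.map_nil, List.prod_cons, List.prod_nil, mul_one, pow_succ, pow_zero, one_mul, mul_assoc]

theorem ne : e 0 * e 1 ≠ 1 := by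
  have h := ne_of_neB' (w := [0, 1]) (w' := []) rep (by decide +kernel)
  simpa only [List.map_cons, List.map_nil, List.prod_cons, List.prod_nil, mul_one] using h

end Cfsg.Agent.H181.MonT
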