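import Cfsg.Agent.H181.MonClose
import Cfsg.Agent.H181.MonInv
import Cfsg.Agent.H181.MonT
import Cfsg.Agent.H794.MonThirteen
import Cfsg.Agent.MonsterX.InstanceFinal
import Cfsg.Agent.MonsterX.MainPack

/-!
# The Monster, `p = 13`: no proper strongly closed subgroups (helper181)

`fullP_or_comm` : `FullP 13 G` or the Sylow 13-subgroups are abelian (which is not the case), for the Monster `G`.
-/

set_option autoImplicit false
set_option maxRecDepth 100000

namespace Cfsg.Agent.H181.MonMod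

open Subgroup Cfsg Cfsg.Agent.H794.MonLift Cfsg.Agent.H794.MonThirteen
open Cfsg.Agent.LThreeMB (fr KChart.Cent KChart.pi KChart.chart KChart.pi_eq)
open Cfsg.Agent.MonsterU Cfsg.Agent.MonsterU.Ch
open Cfsg.Agent.MonsterU.Lam2 (L2)
open Cfsg.Agent.MonsterX
open Cfsg.Agent.CoOneType.ClosingFacts (mk mk_mul mk_eq_one neg_eq)
open Cfsg.Spor (Co1)
open Cfsg.Agent.H794

/-- the model -/
abbrev Gm : Type := ↥InstData.M.G

theorem mk_ne {A B : Co0} (hB : A * B ≠ 1) (hB13 : (A * B) ^ 13 = 1) : mk (A * B) ≠ 1 := by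
  intro h
  have h1 := sq_of_mk h
  apply hB
  rw [show 13 = 2 * 6 + 1 by rfl, pow_succ, pow_mul, pow_two, h1, one_pow, one_mul] at hB13
  exact hB13

/-- Involutions of `C(z)` over involutions of `Co1`. -/
theorem exists_inv {A : Co0} (hA : A * A = 1) (h1 : mk A ≠ 1) :
    ∃ t : centralizer ({KDone.K.z} : Set Gm), t * t = 1 ∧ KChart.pi MFive.Row.hc t = mk A := by
  obtain ⟨t, ht, htt, hI⟩ := MonInv.exists_inv KDone.lft
    (TauInst.tauHyp (Final.cent Uncond.mOrbit Instance.mTrans)) hA h1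
  refine ⟨⟨t, mem_centralizer_singleton_iff.2 (KDone.K.z_comm_K t ht)⟩, Subtype.ext htt, ?_⟩
  exact KChart.pi_eq MFive.Row.hc hI

theorem orderOf_mkT : orderOf (mk (MonT.e 0 * MonT.e 1)) = 13 := by
  have : Fact (Nat.Prime 13) := ⟨by norm_num⟩
  refine orderOf_eq_prime ?_ (mk_ne MonT.ne MonT.pow13)
  have h := congrArg (QuotientGroup.mk' (center Co0)) MonT.pow13
  rwa [map_pow, map_one] at h

theorem mk1_ne : mk (MonT.e 0) ≠ 1 := by
  intro h
  have h1 := orderOf_mkT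
  rw [mk_mul, h, one_mul] at h1
  have h2 : mk (MonT.e 1) ^ 2 = 1 := by
    rw [pow_two, ← mk_mul, MonT.sq2]
    rfl
  have h3 := orderOf_dvd_of_pow_eq_one h2
  rw [h1] at h3
  exact absurd (Nat.le_of_dvd (by norm_num) h3) (by norm_num)

theorem mk2_ne : mk (MonT.e 1) ≠ 1 := by
  intro h
  have h1 := orderOf_mkT
  rw [mk_mul, h, mul_one] at h1
  have h2 : mk (MonT.e 0) ^ 2 = 1 := by
    rw [pow_two, ← mk_mul, MonT.sq1]
    rfl
  have h3 := orderOf_dvd_of_pow_eq_one h2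
  rw [h1] at h3
  exact absurd (Nat.le_of_dvd (by norm_num) h3) (by norm_num)

/-- An involution of `C(z)` inverting an element of order 13. -/
theorem exists_dihedral : ∃ x t : centralizer ({KDone.K.z} : Set Gm), orderOf x = 13 ∧ t * t = 1 ∧
    t * x * t⁻¹ = x⁻¹ := by
  have h := KChart.chart KDone.lft MFive.Row.hc
  obtain ⟨t1, h11, hp1⟩ := exists_inv MonT.sq1 mk1_ne
  obtain ⟨t2, h22, hp2⟩ := exists_inv MonT.sq2 mk2_ne
  obtain ⟨y, hy⟩ : ∃ y, y = t1 * t2 := ⟨_, rfl⟩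
  have hpy : KChart.pi MFive.Row.hc y = mk (MonT.e 0 * MonT.e 1) := by rw [hy, map_mul, hp1, hp2, mk_mul]
  have hpy13 : KChart.pi MFive.Row.hc y ^ 13 = 1 := by rw [hpy, ← orderOf_mkT, pow_orderOf_eq_one]
  have hq : (y : Gm) ^ 13 ∈ KDone.K.ι.range := by
    have := (h.pi_eq_one (y ^ 13)).1 (by rw [map_pow, hpy13])
    exact_mod_cast this
  have hq4 := MFive.pow_four h hq
  have hty : t1 * y * t1⁻¹ = y⁻¹ := by
    have h1 : t1⁻¹ = t1 := inv_eq_of_mul_eq_one_left h11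
    have h2 : t2⁻¹ = t2 := inv_eq_of_mul_eq_one_left h22
    rw [hy, mul_inv_rev, h1, h2, ← mul_assoc, h11, one_mul]
  have : Fact (Nat.Prime 13) := ⟨by norm_num⟩
  refine ⟨y ^ 40, t1, orderOf_eq_prime ?_ ?_, h11, ?_⟩
  · apply Subtype.ext
    show ((y : Gm) ^ 40) ^ 13 = 1
    rw [← pow_mul, show 40 * 13 = (13 * 4) * 10 by norm_num, pow_mul, pow_mul, hq4, one_pow]
  · intro h1
    have h2 := congrArg (KChart.pi MFive.Row.hc) h1
    rw [map_pow, map_one, show 40 = 13 * 3 + 1 by norm_num, pow_succ, pow_mul, hpy13, one_pow, one_mul] at h2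
    have h3 := orderOf_mkT
    rw [← hpy, h2, orderOf_one] at h3
    exact absurd h3 (by norm_num)
  · rw [← conj_pow, hty, inv_pow]

/-- `t` is conjugate to `z`. -/
theorem conj_z {x t : Gm} (hx : orderOf x = 13) (htt : t * t = 1) (htx : t * x * t⁻¹ = x⁻¹) :
    ∃ g, g * KDone.K.z * g⁻¹ = t := by
  have : Fact (Nat.Prime 13) := ⟨by norm_num⟩
  have hx13 : x ^ 13 = 1 := by rw [← hx, pow_orderOf_eq_one]
  have hx1 : x ≠ 1 := by
    rintro rfl
    rw [orderOf_one] at hx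
    exact absurd hx (by norm_num)
  have hxx : x * x ≠ 1 := by
    intro h
    apply hx1
    rw [show 13 = 2 * 6 + 1 by rfl, pow_succ, pow_mul, pow_two, h, one_pow, one_mul] at hx13
    exact hx13
  have hx2 : orderOf (x⁻¹ * x⁻¹) = 13 := by
    rw [← mul_inv_rev, orderOf_inv]
    refine orderOf_eq_prime ?_ hxx
    rw [← pow_two, ← pow_mul, mul_comm, pow_mul, hx13, one_pow]
  have ht1 : t ≠ 1 := by
    rintro rfl
    apply hxx
    rw [one_mul, inv_one, mul_one] at htx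
    nth_rewrite 2 [htx]
    rw [mul_inv_cancel]
  rcases MFive.Row.two t htt ht1 with h | ⟨g, hg⟩
  · exact h
  · exfalso
    have h6 := MainPack.six KDone.mGroup KDone.mRep KDone.mLat Uncond.mOrbit Instance.mTrans
      InstanceFinal.mExtra.order_le (g⁻¹ * x * g)
    have e : g * (MainPack.tG KDone.mGroup KDone.mRep * ((g⁻¹ * x * g) * MainPack.tG KDone.mGroup KDone.mRep *
        (g⁻¹ * x * g)⁻¹)) * g⁻¹ = x⁻¹ * x⁻¹ := by
      calc g * (MainPack.tG KDone.mGroup KDone.mRep * ((g⁻¹ * x * g) * MainPack.tG KDone.mGroup KDone.mRep *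
        (g⁻¹ * x * g)⁻¹)) * g⁻¹ = (g * MainPack.tG KDone.mGroup KDone.mRep * g⁻¹) * x *
            (g * MainPack.tG KDone.mGroup KDone.mRep * g⁻¹) * x⁻¹ := by group
        _ = (t * x * t⁻¹) * (t * t) * x⁻¹ := by rw [hg]; group
        _ = x⁻¹ * x⁻¹ := by rw [htx, htt, mul_one]
    have h7 := MFive.Model.orderOf_of_conj e
    rw [h7, hx2] at h6
    exact absurd h6 (by norm_num)

/-- **The model** (helper794's `hyp_model` with explicit `z`). -/
theorem hyp_model' : ∃ (x : Gm) (Q : Subgroup Gm), MonCube.Hyp 13 x KDone.K.z Q := by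
  have hfin := MFive.Row.finite_model
  have hc := MFive.Row.hc
  have h := KChart.chart KDone.lft hc
  have h13 : Nat.Prime 13 := by norm_num
  obtain ⟨x, hx, hxs⟩ := MFive.KPair.exists_order h h13 (by decide) orderOf_s
  have hx13 : x ^ 13 = 1 := by rw [← hx, pow_orderOf_eq_one]
  have hfr : fr (KChart.pi hc x) = 1 := BpMon.Thirteen.fr_pi KDone.lft hc hx
  have hzx : KDone.K.z * (x : ↥InstData.M.G) = x * KDone.K.z := (mem_centralizer_singleton_iff.1 x.2).symm
  have only : ∀ t : ↥InstData.M.G, t * x = x * t → t * KDone.K.z = KDone.K.z * t → t * t = 1 → t = 1 ∨ t = KDone.K.z := by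
    intro t htx htz htt
    by_cases ht : t = 1
    · exact Or.inl ht
    · right
      exact BpMon.Thirteen.only_inv KDone.lft hc (x := x) (t := ⟨t, mem_centralizer_singleton_iff.2 htz⟩) hx
        (Subtype.ext htt) (fun h1 => ht (congrArg Subtype.val h1)) (Subtype.ext htx.symm)
  obtain ⟨k, hk, hkm⟩ := exists_mem h h13 (by decide) hx13 (V := V) b_mem (by rw [hxs]; exact bs)
  obtain ⟨l, hl, hlm⟩ := exists_mem h h13 (by decide) hx13 (V := V) c_mem (by rw [hxs]; exact cs)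
  refine ⟨x, MonLift.lft (KChart.pi hc) x V, ?_⟩
  refine ⟨?_, by rw [orderOf_coe, hx], by norm_num, hzx, only, isPGroup_lft h (by decide) hx13 hfr fun v hv => V_sq hv,
    fun q hq => lft_x hq, fun q hq => lft_z hq, z_mem h, ⟨k, hkm, l, hlm, not_comm h hx13 hfr only hk hl (lft_x hkm)
      (lft_x hlm)⟩, ?_, ?_, ?_⟩
  · have : Fact (Nat.Prime 2) := ⟨Nat.prime_two⟩
    exact orderOf_eq_prime (by rw [pow_two]; exact h.large.z_sq) h.large.z_ne
  · intro h7
    have h1 := h7.trans (BpRankZero.Seven.card_cz h)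
    rw [Cfsg.Agent.MonsterU.CoFrameF.card_Co1] at h1
    norm_num at h1
  · rw [Cfsg.Agent.MonsterP.EquivOf.isM_model.2]
    norm_num
  · rw [Cfsg.Agent.MonsterP.EquivOf.isM_model.2]
    norm_num

/-- Subgroups of order `p` are conjugate when `p ^ 2` does not divide the order. -/
theorem exists_conj_zpowers {C : Type*} [Group C] [Finite C] {p : ℕ} [hp : Fact p.Prime] (h2 : ¬ p ^ 2 ∣ Nat.card C)
    {x y : C} (hx : orderOf x = p) (hy : orderOf y = p) : ∃ c, c * x * c⁻¹ ∈ zpowers y := by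
  have key : ∀ w : C, orderOf w = p → ∃ P : Sylow p C, zpowers w = (P : Subgroup C) := by
    intro w hw
    have hwp : IsPGroup p ↥(zpowers w) := IsPGroup.of_card (n := 1) (by rw [Nat.card_zpowers, hw, pow_one])
    obtain ⟨P, hP⟩ := hwp.exists_le_sylow
    refine ⟨P, Subgroup.eq_of_le_of_card_ge hP ?_⟩
    obtain ⟨n, hn⟩ := IsPGroup.iff_card.1 P.2
    rw [hn, Nat.card_zpowers, hw]
    conv_rhs => rw [← pow_one p]
    refine Nat.pow_le_pow_right hp.out.pos ?_
    by_contra hlt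
    exact h2 ((pow_dvd_pow p (show 2 ≤ n by omega)).trans (hn ▸ Subgroup.card_subgroup_dvd_card (P : Subgroup C)))
  obtain ⟨P1, hP1⟩ := key y hy
  obtain ⟨P2, hP2⟩ := key x hx
  obtain ⟨c, hc⟩ := MulAction.exists_smul_eq C P2 P1
  have hxP : x ∈ (P2 : Subgroup C) := by
    rw [← hP2]
    exact mem_zpowers x
  refine ⟨c, ?_⟩
  rw [hP1, ← hc]
  exact Subgroup.smul_mem_pointwise_smul _ (MulAut.conj c) (P2 : Subgroup C) hxP

/-- An element of order 13 of `C(z)` is inverted by an involution of `C(z)`. -/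
theorem exists_inverting [Finite Gm] {x : Gm} {Q : Subgroup Gm} (h : MonCube.Hyp 13 x KDone.K.z Q) :
    ∃ t : Gm, t * t = 1 ∧ t * x * t⁻¹ = x⁻¹ := by
  have : Fact (Nat.Prime 13) := ⟨by norm_num⟩
  obtain ⟨y, t, hy, htt, hty⟩ := exists_dihedral
  let xC : ↥(centralizer ({KDone.K.z} : Set Gm)) := ⟨x, mem_centralizer_singleton_iff.2 h.zx.symm⟩
  have hxo : orderOf xC = 13 := by rw [← Subgroup.orderOf_coe, h.hx]
  obtain ⟨c, h3⟩ := exists_conj_zpowers h.cz hxo hy
  obtain ⟨i, hi⟩ := mem_zpowers_iff.1 h3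
  have h4 : t * (c * xC * c⁻¹) * t⁻¹ = (c * xC * c⁻¹)⁻¹ := by
    rw [← hi, ← conj_zpow, hty, inv_zpow]
  refine ⟨((c⁻¹ * t * c : ↥(centralizer ({KDone.K.z} : Set Gm))) : Gm), congrArg Subtype.val
    (show (c⁻¹ * t * c) * (c⁻¹ * t * c) = 1 from ?_), congrArg Subtype.val
      (show (c⁻¹ * t * c) * xC * (c⁻¹ * t * c)⁻¹ = xC⁻¹ from ?_)⟩
  · rw [show c⁻¹ * t * c * (c⁻¹ * t * c) = c⁻¹ * (t * t) * c by group, htt]
    group
  · calc (c⁻¹ * t * c) * xC * (c⁻¹ * t * c)⁻¹ = c⁻¹ * (t * (c * xC * c⁻¹) * t⁻¹) * c := by group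
      _ = xC⁻¹ := by rw [h4]; group

theorem model : H749.FullP 13 Gm ∨ ∀ S : Sylow 13 Gm, IsMulCommutative (S : Subgroup Gm) := by
  have hfin := MFive.Row.finite_model
  have : Fact (Nat.Prime 13) := ⟨by norm_num⟩
  obtain ⟨x, Q, h⟩ := hyp_model'
  obtain ⟨t, htt, htx⟩ := exists_inverting h
  exact MonClose.fullP_or_comm h htt htx (conj_z h.hx htt htx)

/-- **The Monster, `p = 13`.** -/
theorem fullP_or_comm {G : Type*} [Group G] [Finite G] (h : Cfsg.Spor.IsoM G) :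
    Cfsg.Agent.H749.FullP 13 G ∨ ∀ S : Sylow 13 G, IsMulCommutative (S : Subgroup G) := by
  obtain ⟨f⟩ := h
  obtain ⟨f'⟩ := Cfsg.Agent.MonsterP.Equiv.equiv
  have e := (f.trans f').symm
  have hfin := MFive.Row.finite_model
  have : Fact (Nat.Prime 13) := ⟨by norm_num⟩
  rcases model with h1 | h1
  · exact Or.inl (H749.FullP.of_mulEquiv e h1)
  · right
    intro S
    let S' : Sylow 13 Gm := S.comapOfInjective e.toMonoidHom e.injective (by
      rw [MonoidHom.range_eq_top.2 e.surjective]; exact le_top)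
    have hS' : ∀ y : Gm, y ∈ (S' : Subgroup Gm) ↔ e y ∈ (S : Subgroup G) := fun y => Iff.rfl
    refine ⟨⟨fun a b => Subtype.ext ?_⟩⟩
    have ha : e.symm a ∈ (S' : Subgroup Gm) := by
      rw [hS', e.apply_symm_apply]
      exact a.2
    have hb : e.symm b ∈ (S' : Subgroup Gm) := by
      rw [hS', e.apply_symm_apply]
      exact b.2
    have h2 : (e.symm (a : G)) * e.symm (b : G) = e.symm (b : G) * e.symm (a : G) :=
      congrArg Subtype.val ((h1 S').is_comm.comm ⟨_, ha⟩ ⟨_, hb⟩)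
    have h3 := congrArg e h2
    rwa [map_mul, map_mul, e.apply_symm_apply, e.apply_symm_apply] at h3

end Cfsg.Agent.H181.MonMod
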