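import Cfsg.Agent.H181.FFRow
import Cfsg.Agent.H181.MonMod
import Cfsg.Agent.H181.FFReduceTwo
import Cfsg.Agent.H181.ExpZJ3

/-!
# S2229 and S2230 for known simple groups (helper181)

* `row` : `G` a known simple group, `p` odd, the Sylow `p`-subgroups nonabelian: `Row p G`;
* `qd_final` : S2229; `exp_final` : S2230.
-/

set_option autoImplicit false

namespace Cfsg.Agent.H181.FFReduce

open Cfsg Subgroup Cfsg.Agent.H794 Cfsg.Agent.H749 Cfsg.Agent.H792

universe u

variable {p : ℕ} [hp : Fact p.Prime] {G : Type u} [Group G] [Finite G]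

theorem row [IsSimpleGroup G] (hp2 : p ≠ 2) (hK : IsKnownSimple' G) (P : Sylow p G)
    (hP : ¬ IsMulCommutative ↥(P : Subgroup G)) : Row p G := by
  have hna : ¬ IsMulCommutative G := fun h => hP ⟨⟨fun a b => Subtype.ext (h.is_comm.comm (a : G) b)⟩⟩
  rcases odd_row hp2 hna hK with h | h | ⟨rfl, h⟩
  · exact h
  · exact absurd (h P) hP
  · rcases MonMod.fullP_or_comm h with h | h
    · exact Or.inl (SpTool.full_of_fullP h)
    · exact absurd (h P) hP

/-- **S2229** for known simple groups. -/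
theorem qd_final [IsSimpleGroup G] (hp2 : p ≠ 2) (hK : IsKnownSimple' G) (P : Sylow p G)
    (hP : ¬ IsMulCommutative ↥(P : Subgroup G)) : Cfsg.Involves ↥(Cfsg.qd p) G ∨ Exc p G :=
  qd_row hp2 (row hp2 hK P hP) P hP

/-- **S2230** for known simple groups. -/
theorem exp_final [IsSimpleGroup G] (hK : IsKnownSimple' G) (hC : TwoClosed.Concl G) (n : ℕ) (P : Sylow p G)
    (hna : ¬ IsMulCommutative ↥(P : Subgroup G))
    (hcl : Subgroup.lowerCentralSeries (P : Subgroup G) (n * (p - 1) + 1) = ⊥) :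
    ∀ z ∈ (P : Subgroup G) ⊓ Subgroup.centralizer ((P : Subgroup G) : Set G), z ^ (p ^ n) = 1 := by
  by_cases hp2 : p = 2
  · subst hp2
    exact exp_two hC n P hna hcl
  · exact exp_row hp2 (row hp2 hK P hna) (fun _ h => expZ_j3 h) n P hna hcl

end Cfsg.Agent.H181.FFReduce
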