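import Mathlib
import Cfsg.Agent.H161.G2Emb

/-!
# The octonions over the algebra `F[ω]`, `ω² + ω + 1 = 0` (helper181)

`LL F = F[ω]` (a field or `F × F`), `AA F = LL F × (LL F)³` with the product
`(a, v) (b, w) = (a b + v · conj w, a w + conj b v + κ conj (v × w))`, `κ conj κ = - 1`. It is isomorphic to Zorn's
algebra if `3 ≠ 0` (`psi`, `psi_mul`), so that `SU₃` over `LL F` acts on it.
-/

set_option autoImplicit false

namespace Cfsg.Agent.H181.OctHerm

open Cfsg.Lie QuadraticAlgebra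
open Cfsg.Agent.H161.Oct (V AutO mul0 mul1 mul2 mul3 mul4 mul5 mul6 mul7 ext8 mem_AutO)

/-- the algebra `F[ω]`, `ω² = - 1 - ω` -/
abbrev LL (F : Type*) [Field F] : Type _ := QuadraticAlgebra F (-1) (-1)

/-- the underlying space of the octonions -/
abbrev AA (F : Type*) [Field F] : Type _ := LL F × LL F × LL F × LL F

variable {F : Type*} [Field F]

/-- the product for the hermitian form `diag (-1, -1, 1)` -/
def hm0 (x y : AA F) : AA F :=
  (x.1 * y.1 + x.2.1 * star y.2.1 + x.2.2.1 * star y.2.2.1 - x.2.2.2 * star y.2.2.2,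
   x.1 * y.2.1 + star y.1 * x.2.1 - star (x.2.2.1 * y.2.2.2 - x.2.2.2 * y.2.2.1),
   x.1 * y.2.2.1 + star y.1 * x.2.2.1 - star (x.2.2.2 * y.2.1 - x.2.1 * y.2.2.2),
   x.1 * y.2.2.2 + star y.1 * x.2.2.2 + star (x.2.1 * y.2.2.1 - x.2.2.1 * y.2.1))

/-- the isomorphism with Zorn's algebra -/
def ps (x : AA F) : V F :=
  ![x.1.re + x.2.1.im, x.1.im + x.2.1.re, x.2.2.1.re - x.2.2.2.im, x.2.2.1.im - x.2.2.2.re,
    x.2.1.re - x.1.im - x.2.1.im, x.2.2.1.re - x.2.2.1.im + x.2.2.2.im,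
    x.2.2.2.re + x.2.2.1.im - x.2.2.2.im, x.1.re - x.1.im - x.2.1.im]

theorem ps_mul (x y : AA F) : ps (hm0 x y) = zornMul (ps x) (ps y) := by
  obtain ⟨⟨a0, a1⟩, ⟨p1, q1⟩, ⟨p2, q2⟩, ⟨p3, q3⟩⟩ := x
  obtain ⟨⟨b0, b1⟩, ⟨r1, s1⟩, ⟨r2, s2⟩, ⟨r3, s3⟩⟩ := y
  apply ext8
  · rw [mul0]; simp [ps, hm0]; ring
  · rw [mul1]; simp [ps, hm0]; ring
  · rw [mul2]; simp [ps, hm0]; ring
  · rw [mul3]; simp [ps, hm0]; ring
  · rw [mul4]; simp [ps, hm0]; ring
  · rw [mul5]; simp [ps, hm0]; ring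
  · rw [mul6]; simp [ps, hm0]; ring
  · rw [mul7]; simp [ps, hm0]; ring

/-- the inverse of `ps` -/
def psi (x : V F) : AA F :=
  let u := x 0 - x 7; let v := x 1 - x 4; let r := x 3 + x 6; let s := x 2 - x 5
  let a1 := (2 * v - u) / 3; let q1 := (2 * u - v) / 3; let q2 := (2 * r - s) / 3; let q3 := (r - 2 * s) / 3
  (⟨x 0 - q1, a1⟩, ⟨x 1 - a1, q1⟩, ⟨x 2 + q3, q2⟩, ⟨q2 - x 3, q3⟩)

theorem psi_ps (h3 : (3 : F) ≠ 0) (x : AA F) : psi (ps x) = x := by
  obtain ⟨⟨a0, a1⟩, ⟨p1, q1⟩, ⟨p2, q2⟩, ⟨p3, q3⟩⟩ := x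
  simp only [psi, ps]
  simp only [Matrix.cons_val]
  refine Prod.ext ?_ (Prod.ext ?_ (Prod.ext ?_ ?_)) <;> simp only <;> ext <;> simp only <;> field_simp <;> ring

theorem ps_psi (h3 : (3 : F) ≠ 0) (x : V F) : ps (psi x) = x := by
  apply ext8 <;> simp only [psi, ps, Matrix.cons_val] <;> field_simp <;> ring

/-- the product of the octonions, hermitian form `- 1` -/
def hm (κ : LL F) (x y : AA F) : AA F :=
  (x.1 * y.1 + x.2.1 * star y.2.1 + x.2.2.1 * star y.2.2.1 + x.2.2.2 * star y.2.2.2,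
   x.1 * y.2.1 + star y.1 * x.2.1 + κ * star (x.2.2.1 * y.2.2.2 - x.2.2.2 * y.2.2.1),
   x.1 * y.2.2.1 + star y.1 * x.2.2.1 + κ * star (x.2.2.2 * y.2.1 - x.2.1 * y.2.2.2),
   x.1 * y.2.2.2 + star y.1 * x.2.2.2 + κ * star (x.2.1 * y.2.2.1 - x.2.2.1 * y.2.1))

/-- scaling of the last coordinate -/
def sc (l : LL F) (x : AA F) : AA F := (x.1, x.2.1, x.2.2.1, l * x.2.2.2)

theorem sc_mul {κ : LL F} (hκ : κ * star κ = -1) (x y : AA F) :
    sc (- star κ) (hm κ x y) = hm0 (sc (- star κ) x) (sc (- star κ) y) := by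
  obtain ⟨a, v1, v2, v3⟩ := x
  obtain ⟨b, w1, w2, w3⟩ := y
  simp only [sc, hm, hm0]
  refine Prod.ext ?_ (Prod.ext ?_ (Prod.ext ?_ ?_)) <;>
    simp only [star_sub, star_mul', star_neg, star_star]
  · linear_combination (v3 * star w3) * hκ
  · ring
  · ring
  · linear_combination (-(star v1 * star w2 - star v2 * star w1)) * hκ

theorem sc_sc {κ : LL F} (hκ : κ * star κ = -1) (x : AA F) : sc κ (sc (- star κ) x) = x := by
  obtain ⟨a, v1, v2, v3⟩ := x
  refine Prod.ext rfl (Prod.ext rfl (Prod.ext rfl ?_))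
  change κ * (- star κ * v3) = v3
  linear_combination (- v3) * hκ

theorem sc_sc' {κ : LL F} (hκ : κ * star κ = -1) (x : AA F) : sc (- star κ) (sc κ x) = x := by
  obtain ⟨a, v1, v2, v3⟩ := x
  refine Prod.ext rfl (Prod.ext rfl (Prod.ext rfl ?_))
  change - star κ * (κ * v3) = v3
  linear_combination (- v3) * hκ

/-- the isomorphism of the octonion algebras -/
def Psi (h3 : (3 : F) ≠ 0) (κ : LL F) (hκ : κ * star κ = -1) : AA F ≃ₗ[F] V F where
  toFun x := ps (sc (- star κ) x)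
  invFun x := sc κ (psi x)
  left_inv x := by simp only [psi_ps h3, sc_sc hκ]
  right_inv x := by simp only [sc_sc' hκ, ps_psi h3]
  map_add' x y := by
    obtain ⟨⟨a0, a1⟩, ⟨p1, q1⟩, ⟨p2, q2⟩, ⟨p3, q3⟩⟩ := x
    obtain ⟨⟨b0, b1⟩, ⟨r1, s1⟩, ⟨r2, s2⟩, ⟨r3, s3⟩⟩ := y
    apply ext8 <;> simp [ps, sc] <;> ring
  map_smul' c x := by
    obtain ⟨⟨a0, a1⟩, ⟨p1, q1⟩, ⟨p2, q2⟩, ⟨p3, q3⟩⟩ := x
    apply ext8 <;> simp [ps, sc] <;> ring

theorem Psi_mul (h3 : (3 : F) ≠ 0) (κ : LL F) (hκ : κ * star κ = -1) (x y : AA F) :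
    Psi h3 κ hκ (hm κ x y) = zornMul (Psi h3 κ hκ x) (Psi h3 κ hκ y) := by
  change ps (sc (- star κ) (hm κ x y)) = _
  rw [sc_mul hκ, ps_mul]
  rfl

/-- the automorphism group of the octonions -/
def GG (κ : LL F) : Subgroup (AA F ≃ₗ[F] AA F) where
  carrier := {f | ∀ x y, f (hm κ x y) = hm κ (f x) (f y)}
  mul_mem' {f g} hf hg := by
    intro x y
    rw [LinearEquiv.mul_apply, LinearEquiv.mul_apply, LinearEquiv.mul_apply, hg, hf]
  one_mem' := fun x y => rfl
  inv_mem' {f} hf := by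
    intro x y
    apply f.injective
    have h1 : ∀ z, f (f⁻¹ z) = z := fun z => f.apply_symm_apply z
    rw [hf, h1, h1, h1]

theorem mem_GG {κ : LL F} {f : AA F ≃ₗ[F] AA F} : f ∈ GG κ ↔ ∀ x y, f (hm κ x y) = hm κ (f x) (f y) := Iff.rfl

/-- the automorphism groups are isomorphic -/
noncomputable def equivAutO (h3 : (3 : F) ≠ 0) (κ : LL F) (hκ : κ * star κ = -1) : GG κ ≃* AutO F where
  toFun f := ⟨(Psi h3 κ hκ).symm.trans ((f : AA F ≃ₗ[F] AA F).trans (Psi h3 κ hκ)), by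
    rw [mem_AutO]
    intro x y
    obtain ⟨x, rfl⟩ := (Psi h3 κ hκ).surjective x
    obtain ⟨y, rfl⟩ := (Psi h3 κ hκ).surjective y
    rw [← Psi_mul]
    simp only [LinearEquiv.trans_apply, LinearEquiv.symm_apply_apply]
    rw [mem_GG.1 f.2, Psi_mul]⟩
  invFun f := ⟨(Psi h3 κ hκ).trans ((f : V F ≃ₗ[F] V F).trans (Psi h3 κ hκ).symm), by
    rw [mem_GG]
    intro x y
    simp only [LinearEquiv.trans_apply]
    rw [Psi_mul, mem_AutO.1 f.2, LinearEquiv.symm_apply_eq, Psi_mul]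
    simp only [LinearEquiv.apply_symm_apply]⟩
  left_inv f := by
    apply Subtype.ext
    ext1 x
    simp
  right_inv f := by
    apply Subtype.ext
    ext1 x
    simp
  map_mul' f g := by
    apply Subtype.ext
    ext1 x
    simp

/-- `GG κ` is isomorphic to `Cfsg.Lie.G2 F` -/
theorem nonempty_equiv (h3 : (3 : F) ≠ 0) (κ : LL F) (hκ : κ * star κ = -1) :
    Nonempty (Cfsg.Lie.G2 F ≃* GG κ) := by
  refine ⟨MulEquiv.trans ?_ (equivAutO h3 κ hκ).symm⟩
  have h : (Cfsg.Lie.G2 F).map (Cfsg.Agent.H161.Oct.toE F).toMonoidHom = AutO F := by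
    ext f
    constructor
    · rintro ⟨g, hg, rfl⟩
      exact Cfsg.Agent.H161.Oct.toE_mem.2 hg
    · intro hf
      exact ⟨(Cfsg.Agent.H161.Oct.toE F).symm f, Cfsg.Agent.H161.Oct.toE_mem.1 (by simpa using hf), by simp⟩
  exact ((Cfsg.Agent.H161.Oct.toE F).subgroupMap _).trans (MulEquiv.subgroupCongr h)

/-! ### The unitary group -/

/-- action of a matrix -/
def act (g : Matrix (Fin 3) (Fin 3) (LL F)) (x : AA F) : AA F :=
  (x.1, g 0 0 * x.2.1 + g 0 1 * x.2.2.1 + g 0 2 * x.2.2.2,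
    g 1 0 * x.2.1 + g 1 1 * x.2.2.1 + g 1 2 * x.2.2.2,
    g 2 0 * x.2.1 + g 2 1 * x.2.2.1 + g 2 2 * x.2.2.2)

theorem act_hm (κ : LL F) {g : Matrix (Fin 3) (Fin 3) (LL F)} (hg : star g * g = 1) (hd : g.det = 1)
    (x y : AA F) : act g (hm κ x y) = hm κ (act g x) (act g y) := by
  have hadj : star g = g.adjugate := by
    have h1 : g * g.adjugate = 1 := by rw [Matrix.mul_adjugate, hd, one_smul]
    calc star g = star g * (g * g.adjugate) := by rw [h1, mul_one]
      _ = g.adjugate := by rw [← mul_assoc, hg, one_mul]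
  have ha : ∀ i j, star (g j i) = g.adjugate i j := by
    intro i j
    rw [← hadj]
    rfl
  have hu : ∀ k j, star (g 0 k) * g 0 j + star (g 1 k) * g 1 j + star (g 2 k) * g 2 j =
      if k = j then 1 else 0 := by
    intro k j
    have := congrFun (congrFun hg k) j
    rw [Matrix.mul_apply, Fin.sum_univ_three, Matrix.one_apply] at this
    exact this
  rw [Matrix.adjugate_fin_three] at ha
  have a00 := ha 0 0; have a01 := ha 0 1; have a02 := ha 0 2
  have a10 := ha 1 0; have a11 := ha 1 1; have a12 := ha 1 2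
  have a20 := ha 2 0; have a21 := ha 2 1; have a22 := ha 2 2
  have u00 := hu 0 0; have u01 := hu 0 1; have u02 := hu 0 2
  have u10 := hu 1 0; have u11 := hu 1 1; have u12 := hu 1 2
  have u20 := hu 2 0; have u21 := hu 2 1; have u22 := hu 2 2
  simp at a00 a01 a02 a10 a11 a12 a20 a21 a22
  simp at u00 u01 u02 u10 u11 u12 u20 u21 u22
  have b00 := congrArg star a00
  have b01 := congrArg star a10
  have b02 := congrArg star a20
  have b10 := congrArg star a01
  have b11 := congrArg star a11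
  have b12 := congrArg star a21
  have b20 := congrArg star a02
  have b21 := congrArg star a12
  have b22 := congrArg star a22
  simp only [star_star, star_sub, star_add, star_neg, star_mul'] at b00 b01 b02 b10 b11 b12 b20 b21 b22
  obtain ⟨a, v0, v1, v2⟩ := x
  obtain ⟨b, w0, w1, w2⟩ := y
  simp only [act, hm]
  refine Prod.ext ?_ (Prod.ext ?_ (Prod.ext ?_ ?_)) <;>
    simp only [star_add, star_sub, star_mul']
  · linear_combination -(v0 * star w0 * u00 + v0 * star w1 * u10 + v0 * star w2 * u20 + v1 * star w0 * u01 + v1 * star w1 * u11 + v1 * star w2 * u21 + v2 * star w0 * u02 + v2 * star w1 * u12 + v2 * star w2 * u22)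
  · linear_combination κ * (star v1 * star w2 - star v2 * star w1) * b00 + κ * (star v2 * star w0 - star v0 * star w2) * b01 + κ * (star v0 * star w1 - star v1 * star w0) * b02
  · linear_combination κ * (star v1 * star w2 - star v2 * star w1) * b10 + κ * (star v2 * star w0 - star v0 * star w2) * b11 + κ * (star v0 * star w1 - star v1 * star w0) * b12
  · linear_combination κ * (star v1 * star w2 - star v2 * star w1) * b20 + κ * (star v2 * star w0 - star v0 * star w2) * b21 + κ * (star v0 * star w1 - star v1 * star w0) * b22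

end Cfsg.Agent.H181.OctHerm
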