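import Mathlib
import Cfsg.Agent.H181.OctHerm

/-!
# The special unitary group of degree 3 over `F[ω]` acts on the octonions (helper181)

`rho κ : SU F →* GG κ` injective; diagonal elements `dg`, the cyclic permutation `cyc`, the Fourier matrix `fou`;
`exists_conj` : every `diag (x, y, w) cyc`, `x y w = 1`, is conjugate in `SU F` to `diag (1, ω, ω²)`.
-/

set_option autoImplicit false

namespace Cfsg.Agent.H181.OctHerm

open Cfsg.Lie QuadraticAlgebra

variable {F : Type*} [Field F]

/-- the unitary group over `F[ω]` -/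
abbrev U3 (F : Type*) [Field F] : Type _ := ↥(Matrix.unitaryGroup (Fin 3) (LL F))

/-- the special unitary group -/
def SU (F : Type*) [Field F] : Subgroup (U3 F) where
  carrier := {g | (g : Matrix (Fin 3) (Fin 3) (LL F)).det = 1}
  mul_mem' {g h} hg hh := by
    change ((g : Matrix (Fin 3) (Fin 3) (LL F)) * (h : Matrix (Fin 3) (Fin 3) (LL F))).det = 1
    rw [Matrix.det_mul, hg, hh, one_mul]
  one_mem' := Matrix.det_one
  inv_mem' {g} hg := by
    have h1 : ((g : Matrix (Fin 3) (Fin 3) (LL F)) * ((g⁻¹ : U3 F) : Matrix (Fin 3) (Fin 3) (LL F))) = 1 :=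
      congrArg Subtype.val (mul_inv_cancel g)
    have h2 := congrArg Matrix.det h1
    rw [Matrix.det_mul, Matrix.det_one] at h2
    change ((g⁻¹ : U3 F) : Matrix (Fin 3) (Fin 3) (LL F)).det = 1
    rw [← h2, show (g : Matrix (Fin 3) (Fin 3) (LL F)).det = 1 from hg, one_mul]

theorem mem_SU {g : U3 F} : g ∈ SU F ↔ (g : Matrix (Fin 3) (Fin 3) (LL F)).det = 1 := Iff.rfl

theorem act_mul (g h : Matrix (Fin 3) (Fin 3) (LL F)) (x : AA F) : act (g * h) x = act g (act h x) := by
  simp only [act, Matrix.mul_apply, Fin.sum_univ_three]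
  refine Prod.ext rfl (Prod.ext ?_ (Prod.ext ?_ ?_)) <;> simp only <;> ring

theorem act_one (x : AA F) : act (1 : Matrix (Fin 3) (Fin 3) (LL F)) x = x := by
  simp [act]

theorem act_add (g : Matrix (Fin 3) (Fin 3) (LL F)) (x y : AA F) : act g (x + y) = act g x + act g y := by
  simp only [act, Prod.fst_add, Prod.snd_add]
  refine Prod.ext rfl (Prod.ext ?_ (Prod.ext ?_ ?_)) <;> simp only [Prod.fst_add, Prod.snd_add] <;> ring

theorem act_smul (g : Matrix (Fin 3) (Fin 3) (LL F)) (c : F) (x : AA F) : act g (c • x) = c • act g x := by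
  simp only [act, Prod.smul_fst, Prod.smul_snd]
  refine Prod.ext rfl (Prod.ext ?_ (Prod.ext ?_ ?_)) <;>
    simp only [Prod.smul_fst, Prod.smul_snd, mul_smul_comm, smul_add]

/-- the linear automorphism -/
noncomputable def actE (g : U3 F) : AA F ≃ₗ[F] AA F where
  toFun := act g
  invFun := act ((g⁻¹ : U3 F) : Matrix (Fin 3) (Fin 3) (LL F))
  left_inv x := by
    rw [← act_mul]
    have h1 : ((g⁻¹ : U3 F) : Matrix (Fin 3) (Fin 3) (LL F)) * (g : Matrix (Fin 3) (Fin 3) (LL F)) = 1 :=
      congrArg Subtype.val (inv_mul_cancel g)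
    rw [h1, act_one]
  right_inv x := by
    rw [← act_mul]
    have h1 : (g : Matrix (Fin 3) (Fin 3) (LL F)) * ((g⁻¹ : U3 F) : Matrix (Fin 3) (Fin 3) (LL F)) = 1 :=
      congrArg Subtype.val (mul_inv_cancel g)
    rw [h1, act_one]
  map_add' := act_add _
  map_smul' := act_smul _

theorem actE_apply (g : U3 F) (x : AA F) : actE g x = act g x := rfl

/-- the action on the octonions -/
noncomputable def rho (κ : LL F) : SU F →* GG κ where
  toFun g := ⟨actE g.1, by
    rw [mem_GG]
    intro x y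
    exact act_hm κ (Matrix.mem_unitaryGroup_iff'.1 g.1.2) g.2 x y⟩
  map_one' := by
    apply Subtype.ext
    ext1 x
    exact act_one x
  map_mul' g h := by
    apply Subtype.ext
    ext1 x
    exact act_mul _ _ x

theorem rho_apply (κ : LL F) (g : SU F) (x : AA F) : (rho κ g : AA F ≃ₗ[F] AA F) x = act g.1 x := rfl

theorem rho_injective (κ : LL F) : Function.Injective (rho κ) := by
  intro g h hgh
  have h1 : ∀ x : AA F, act (g.1 : Matrix (Fin 3) (Fin 3) (LL F)) x = act h.1 x := by
    intro x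
    rw [← rho_apply κ, hgh, rho_apply]
  apply Subtype.ext
  apply Subtype.ext
  ext1 i j
  have e0 := h1 (0, 1, 0, 0)
  have e1 := h1 (0, 0, 1, 0)
  have e2 := h1 (0, 0, 0, 1)
  simp only [act, mul_one, mul_zero, add_zero, zero_add, Prod.mk.injEq, true_and] at e0 e1 e2
  obtain ⟨a0, a1, a2⟩ := e0
  obtain ⟨b0, b1, b2⟩ := e1
  obtain ⟨c0, c1, c2⟩ := e2
  fin_cases i <;> fin_cases j <;> assumption

/-! ### Special elements -/

/-- `ω` -/
def om : LL F := ⟨0, 1⟩

theorem om_sq : (om : LL F) * om = -1 - om := by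
  ext <;> simp [om]

theorem star_om : star (om : LL F) = -1 - om := by
  ext <;> simp [om]

theorem om_cube : (om : LL F) * om * om = 1 := by
  linear_combination ((om : LL F) - 1) * (om_sq (F := F))

theorem om_ne_one : (om : LL F) ≠ 1 := by
  intro h
  have := congrArg QuadraticAlgebra.im h
  simp [om] at this

theorem om_mem : (om : LL F) ∈ unitary (LL F) := by
  rw [Unitary.mem_iff, star_om]
  constructor <;> linear_combination -(om_sq (F := F))

/-- `ω` as an element of the group of the elements of norm one -/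
def omU : unitary (LL F) := ⟨om, om_mem⟩

/-- diagonal elements -/
noncomputable def dg (x y w : unitary (LL F)) : U3 F :=
  ⟨Matrix.diagonal ![(x : LL F), y, w], by
    rw [Matrix.mem_unitaryGroup_iff']
    have h : star (Matrix.diagonal ![(x : LL F), y, w]) = Matrix.diagonal ![star (x : LL F), star (y : LL F), star (w : LL F)] := by
      rw [Matrix.star_eq_conjTranspose, Matrix.diagonal_conjTranspose]
      congr 1
      ext1 i
      fin_cases i <;> rfl
    rw [h, Matrix.diagonal_mul_diagonal, ← Matrix.diagonal_one]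
    congr 1
    ext1 i
    fin_cases i
    · exact Unitary.coe_star_mul_self x
    · exact Unitary.coe_star_mul_self y
    · exact Unitary.coe_star_mul_self w⟩

theorem dg_coe (x y w : unitary (LL F)) :
    ((dg x y w : U3 F) : Matrix (Fin 3) (Fin 3) (LL F)) = Matrix.diagonal ![(x : LL F), y, w] := rfl

theorem dg_mul (x y w x' y' w' : unitary (LL F)) : dg x y w * dg x' y' w' = dg (x * x') (y * y') (w * w') := by
  apply Subtype.ext
  change Matrix.diagonal _ * Matrix.diagonal _ = Matrix.diagonal _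
  rw [Matrix.diagonal_mul_diagonal]
  congr 1
  ext1 i
  fin_cases i <;> rfl

theorem dg_one : dg (1 : unitary (LL F)) 1 1 = 1 := by
  apply Subtype.ext
  change Matrix.diagonal _ = (1 : Matrix (Fin 3) (Fin 3) (LL F))
  rw [← Matrix.diagonal_one]
  congr 1
  ext1 i
  fin_cases i <;> rfl

theorem dg_inj {x y w x' y' w' : unitary (LL F)} (h : dg x y w = dg x' y' w') : x = x' ∧ y = y' ∧ w = w' := by
  have h1 := congrArg (fun g : U3 F => (g : Matrix (Fin 3) (Fin 3) (LL F))) h
  simp only [dg_coe] at h1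
  have h2 := Matrix.diagonal_injective h1
  exact ⟨Subtype.ext (congrFun h2 0), Subtype.ext (congrFun h2 1), Subtype.ext (congrFun h2 2)⟩

theorem dg_inv (x y w : unitary (LL F)) : (dg x y w)⁻¹ = dg x⁻¹ y⁻¹ w⁻¹ := by
  rw [inv_eq_iff_mul_eq_one, dg_mul, mul_inv_cancel, mul_inv_cancel, mul_inv_cancel, dg_one]

theorem dg_mem {x y w : unitary (LL F)} : dg x y w ∈ SU F ↔ x * y * w = 1 := by
  rw [mem_SU, dg_coe, Matrix.det_diagonal, Fin.prod_univ_three]
  constructor
  · intro h
    apply Subtype.ext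
    exact h
  · intro h
    exact congrArg Subtype.val h

/-- the cyclic permutation of the basis -/
def cyc : U3 F := ⟨!![0, 0, 1; 1, 0, 0; 0, 1, 0], by
  rw [Matrix.mem_unitaryGroup_iff', Matrix.star_eq_conjTranspose]
  ext1 i j
  fin_cases i <;> fin_cases j <;> simp [Matrix.mul_apply, Fin.sum_univ_three, Matrix.conjTranspose_apply]⟩

theorem cyc_mem : (cyc : U3 F) ∈ SU F := by
  rw [mem_SU]
  simp [cyc, Matrix.det_fin_three]

theorem cyc_dg (x y w : unitary (LL F)) : cyc * dg x y w = dg w x y * cyc := by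
  apply Subtype.ext
  change (_ : Matrix (Fin 3) (Fin 3) (LL F)) * Matrix.diagonal _ = Matrix.diagonal _ * (_ : Matrix (Fin 3) (Fin 3) (LL F))
  ext1 i j
  rw [Matrix.mul_diagonal, Matrix.diagonal_mul]
  fin_cases i <;> fin_cases j <;> simp [cyc]

/-- the Fourier matrix -/
def fou (h3 : (3 : F) ≠ 0) : U3 F :=
  ⟨(⟨1 / 3, - (1 / 3)⟩ : LL F) • !![1, 1, 1; 1, om * om, om; 1, om, om * om], by
  rw [Matrix.mem_unitaryGroup_iff', Matrix.star_eq_conjTranspose]
  ext1 i j
  fin_cases i <;> fin_cases j <;>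
    simp [Matrix.mul_apply, Fin.sum_univ_three, Matrix.conjTranspose_apply] <;>
    ext <;> simp [om] <;> field_simp <;> ring⟩

theorem fou_mem (h3 : (3 : F) ≠ 0) : fou h3 ∈ SU F := by
  rw [mem_SU]
  simp [fou, Matrix.det_fin_three]
  ext <;> simp [om] <;> field_simp <;> ring

/-- `diag (1, ω, ω²)` -/
noncomputable def tt (F : Type*) [Field F] : U3 F := dg 1 omU (omU * omU)

theorem omU_cube : (omU : unitary (LL F)) * omU * omU = 1 := Subtype.ext om_cube

theorem tt_mem : tt F ∈ SU F := by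
  rw [tt, dg_mem, one_mul, ← mul_assoc, omU_cube]

theorem fou_tt (h3 : (3 : F) ≠ 0) : fou h3 * tt F = cyc * fou h3 := by
  apply Subtype.ext
  change (_ : Matrix (Fin 3) (Fin 3) (LL F)) * Matrix.diagonal _ = (_ : Matrix (Fin 3) (Fin 3) (LL F)) * _
  ext1 i j
  rw [Matrix.mul_diagonal]
  fin_cases i <;> fin_cases j <;> simp [fou, cyc, omU, Matrix.mul_apply, Fin.sum_univ_three] <;>
    (ext <;> simp [om]) <;> try ring

/-- every `diag (x, y, w) cyc` of determinant one is conjugate in `SU F` to `diag (1, ω, ω²)` -/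
theorem exists_conj (h3 : (3 : F) ≠ 0) (x y w : unitary (LL F)) (h : x * y * w = 1) :
    ∃ g ∈ SU F, g * tt F * g⁻¹ = dg x y w * cyc := by
  set m : U3 F := dg 1 y (y * w) with hm
  set k : U3 F := dg (y * y * w)⁻¹ 1 1 with hk
  refine ⟨m * fou h3 * k, ?_, ?_⟩
  · rw [mem_SU]
    have h1 : ((m * fou h3 * k : U3 F) : Matrix (Fin 3) (Fin 3) (LL F)) =
      (m : Matrix (Fin 3) (Fin 3) (LL F)) * (fou h3 : U3 F) * (k : Matrix (Fin 3) (Fin 3) (LL F)) := rfl
    rw [h1, Matrix.det_mul, Matrix.det_mul, mem_SU.1 (fou_mem h3), hm, hk, dg_coe, dg_coe, Matrix.det_diagonal,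
      Matrix.det_diagonal, Fin.prod_univ_three, Fin.prod_univ_three]
    have h2 : (1 * y * (y * w)) * ((y * y * w)⁻¹ * 1 * 1) = (1 : unitary (LL F)) := by
      rw [mul_one, mul_one, one_mul, ← mul_assoc, mul_inv_cancel]
    have h3 := congrArg Subtype.val h2
    rw [mul_one]
    exact h3
  · have h1 : k * tt F * k⁻¹ = tt F := by
      rw [mul_inv_eq_iff_eq_mul, hk, tt, dg_mul, dg_mul]
      simp only [mul_one, one_mul]
    have h2 : m * cyc * m⁻¹ = dg x y w * cyc := by
      rw [hm, dg_inv, mul_assoc, cyc_dg, ← mul_assoc, dg_mul]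
      congr 2
      · rw [one_mul]
        exact (eq_inv_of_mul_eq_one_left (by rwa [← mul_assoc])).symm
      · rw [inv_one, mul_one]
      · rw [mul_comm y w, mul_assoc, mul_inv_cancel, mul_one]
    calc m * fou h3 * k * tt F * (m * fou h3 * k)⁻¹ = m * (fou h3 * (k * tt F * k⁻¹)) * (fou h3)⁻¹ * m⁻¹ := by
          group
      _ = m * cyc * m⁻¹ := by rw [h1, fou_tt]; group
      _ = _ := h2

end Cfsg.Agent.H181.OctHerm
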