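import Mathlib
import Cfsg.Agent.H181.OctUnit
import Cfsg.Prelude.Def_TwoFusion
import Cfsg.Agent.GTwoFour.Tools

/-!
# The Sylow 3-subgroup `SS` of `SU₃` over `F[ω]` and its strongly closed subgroups (helper181)
-/

set_option autoImplicit false

namespace Cfsg.Agent.H181.OctHerm

open Cfsg.Lie QuadraticAlgebra Subgroup

variable {F : Type*} [Field F]

/-- the elements of norm one of 3-power order -/
abbrev P3 (F : Type*) [Field F] : Subgroup (unitary (LL F)) := CommGroup.primaryComponent (unitary (LL F)) 3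

/-- the diagonal subgroup -/
noncomputable def dl (F : Type*) [Field F] : P3 F × P3 F →* SU F where
  toFun x := ⟨dg x.1 x.2 ((x.1 : unitary (LL F)) * (x.2 : unitary (LL F)))⁻¹, by rw [dg_mem, mul_inv_cancel]⟩
  map_one' := by
    apply Subtype.ext
    simp [dg_one]
  map_mul' x y := by
    apply Subtype.ext
    change dg _ _ _ = dg _ _ _ * dg _ _ _
    rw [dg_mul]
    congr 1
    simp only [Prod.fst_mul, Prod.snd_mul, Subgroup.coe_mul]
    rw [← mul_inv]
    congr 1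
    rw [mul_mul_mul_comm]

theorem dl_coe (x : P3 F × P3 F) : ((dl F x : SU F) : U3 F) = dg x.1 x.2 ((x.1 : unitary (LL F)) * (x.2 : unitary (LL F)))⁻¹ := rfl

theorem dl_injective : Function.Injective (dl F) := by
  intro x y h
  have h1 := congrArg Subtype.val h
  rw [dl_coe, dl_coe] at h1
  obtain ⟨h2, h3, -⟩ := dg_inj h1
  exact Prod.ext (Subtype.ext h2) (Subtype.ext h3)

/-- the diagonal subgroup -/
noncomputable def DD (F : Type*) [Field F] : Subgroup (SU F) := (dl F).range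

/-- the cyclic permutation -/
def c0 (F : Type*) [Field F] : SU F := ⟨cyc, cyc_mem⟩

theorem mem_DD {g : SU F} : g ∈ DD F ↔ ∃ x y w : unitary (LL F), x ∈ P3 F ∧ y ∈ P3 F ∧ w ∈ P3 F ∧ x * y * w = 1 ∧
    (g : U3 F) = dg x y w := by
  constructor
  · rintro ⟨⟨x, y⟩, rfl⟩
    exact ⟨x, y, _, x.2, y.2, inv_mem (mul_mem x.2 y.2), mul_inv_cancel _, dl_coe _⟩
  · rintro ⟨x, y, w, hx, hy, -, h, hg⟩
    refine ⟨(⟨x, hx⟩, ⟨y, hy⟩), Subtype.ext ?_⟩
    rw [dl_coe, hg]
    congr 1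
    exact (eq_inv_of_mul_eq_one_right h).symm

theorem cyc_mul (x y w : unitary (LL F)) : cyc * dg x y w * cyc⁻¹ = dg w x y := by
  rw [mul_inv_eq_iff_eq_mul, cyc_dg]

theorem cyc_inv_mul (x y w : unitary (LL F)) : cyc⁻¹ * dg x y w * cyc = dg y w x := by
  rw [mul_assoc, inv_mul_eq_iff_eq_mul, cyc_dg]

theorem c0_normalizer : c0 F ∈ normalizer (DD F : Set (SU F)) := by
  rw [mem_normalizer_iff]
  intro g
  constructor
  · intro h
    obtain ⟨x, y, w, hx, hy, hw, h1, h2⟩ := mem_DD.1 h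
    refine mem_DD.2 ⟨w, x, y, hw, hx, hy, ?_, ?_⟩
    · rw [← h1, mul_comm, mul_comm w x, ← mul_assoc, mul_comm y x]
    · change cyc * (g : U3 F) * cyc⁻¹ = _
      rw [h2, cyc_mul]
  · intro h
    obtain ⟨x, y, w, hx, hy, hw, h1, h2⟩ := mem_DD.1 h
    refine mem_DD.2 ⟨y, w, x, hy, hw, hx, ?_, ?_⟩
    · rw [← h1, mul_comm, ← mul_assoc]
    · have h3 : (g : U3 F) = cyc⁻¹ * (cyc * (g : U3 F) * cyc⁻¹) * cyc := by group
      rw [h3, ← cyc_inv_mul, ← h2]
      rfl

/-- the Sylow 3-subgroup -/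
noncomputable def SS (F : Type*) [Field F] : Subgroup (SU F) := zpowers (c0 F) ⊔ DD F

theorem cyc_cube : (cyc : U3 F) * cyc * cyc = 1 := by
  apply Subtype.ext
  change (_ : Matrix (Fin 3) (Fin 3) (LL F)) * _ * _ = 1
  ext1 i j
  fin_cases i <;> fin_cases j <;> simp [cyc, Matrix.mul_apply, Fin.sum_univ_three]

theorem c0_cube : c0 F * c0 F * c0 F = 1 := Subtype.ext cyc_cube

theorem zpowers_le : zpowers (c0 F) ≤ normalizer (DD F : Set (SU F)) := by
  rw [Subgroup.zpowers_le]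
  exact c0_normalizer

/-- elements of `zpowers c0` -/
theorem mem_zpowers_c0 {g : SU F} (h : g ∈ zpowers (c0 F)) : g = 1 ∨ g = c0 F ∨ g = c0 F * c0 F := by
  obtain ⟨n, rfl⟩ := mem_zpowers_iff.1 h
  have h3 : (c0 F) ^ 3 = 1 := by rw [pow_succ, pow_two]; exact c0_cube
  have h4 : (c0 F) ^ n = (c0 F) ^ (n % 3) := by
    have h5 : (c0 F) ^ (3 : ℤ) = 1 := by exact_mod_cast h3
    conv_lhs => rw [← Int.emod_add_mul_ediv n 3, zpow_add, zpow_mul, h5, one_zpow, mul_one]
  rw [h4]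
  have h6 : n % 3 = 0 ∨ n % 3 = 1 ∨ n % 3 = 2 := by omega
  rcases h6 with h6 | h6 | h6 <;> rw [h6]
  · exact Or.inl (zpow_zero _)
  · exact Or.inr (Or.inl (zpow_one _))
  · right; right
    rw [show (2 : ℤ) = ((2 : ℕ) : ℤ) from rfl, zpow_natCast, pow_two]

theorem mem_SS {g : SU F} (h : g ∈ SS F) : ∃ d ∈ DD F, g = d ∨ g = d * c0 F ∨ g = d * (c0 F * c0 F) := by
  have h1 : g ∈ ((SS F : Subgroup (SU F)) : Set (SU F)) := h
  rw [SS, sup_comm, coe_mul_of_right_le_normalizer_left _ _ zpowers_le] at h1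
  obtain ⟨d, hd, e, he, rfl⟩ := Set.mem_mul.1 h1
  refine ⟨d, hd, ?_⟩
  rcases mem_zpowers_c0 he with rfl | rfl | rfl
  · left; rw [mul_one]
  · right; left; rfl
  · right; right; rfl

theorem DD_le : DD F ≤ SS F := le_sup_right

theorem c0_mem : c0 F ∈ SS F := (le_sup_left : zpowers (c0 F) ≤ SS F) (mem_zpowers _)

theorem isPGroup_DD : IsPGroup 3 (DD F) := by
  intro g
  obtain ⟨x, y, w, ⟨i, hx⟩, ⟨j, hy⟩, ⟨k, hw⟩, -, h⟩ := mem_DD.1 g.2
  refine ⟨i + j + k, ?_⟩
  apply Subtype.ext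
  apply Subtype.ext
  have hpow : ∀ n : ℕ, ((((g : DD F) ^ n : DD F) : SU F) : U3 F) = dg (x ^ n) (y ^ n) (w ^ n) := by
    intro n
    induction n with
    | zero => simp [dg_one]
    | succ n ih =>
      rw [pow_succ, Subgroup.coe_mul, Subgroup.coe_mul, ih, h, dg_mul, ← pow_succ, ← pow_succ, ← pow_succ]
  rw [hpow]
  have e1 : x ^ 3 ^ (i + j + k) = 1 := by
    rw [show 3 ^ (i + j + k) = 3 ^ i * 3 ^ (j + k) by rw [← pow_add]; ring_nf, pow_mul, hx, one_pow]
  have e2 : y ^ 3 ^ (i + j + k) = 1 := by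
    rw [show 3 ^ (i + j + k) = 3 ^ j * 3 ^ (i + k) by rw [← pow_add]; ring_nf, pow_mul, hy, one_pow]
  have e3 : w ^ 3 ^ (i + j + k) = 1 := by
    rw [show 3 ^ (i + j + k) = 3 ^ k * 3 ^ (i + j) by rw [← pow_add]; ring_nf, pow_mul, hw, one_pow]
  rw [e1, e2, e3, dg_one]
  rfl

theorem isPGroup_SS : IsPGroup 3 (SS F) := by
  refine IsPGroup.to_sup_of_normal_right' ?_ isPGroup_DD zpowers_le
  intro g
  refine ⟨1, ?_⟩
  apply Subtype.ext
  rcases mem_zpowers_c0 g.2 with h | h | h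
  · change (g : SU F) ^ 3 ^ 1 = 1
    rw [h, one_pow]
  · change (g : SU F) ^ 3 ^ 1 = 1
    rw [h, pow_one, pow_succ, pow_two, c0_cube]
  · change (g : SU F) ^ 3 ^ 1 = 1
    rw [h, pow_one, ← pow_two, ← pow_mul, mul_comm, pow_mul]
    rw [show (c0 F) ^ 3 = 1 by rw [pow_succ, pow_two]; exact c0_cube, one_pow]

theorem c0_not_mem : c0 F ∉ DD F := by
  intro h
  obtain ⟨x, y, w, -, -, -, -, h1⟩ := mem_DD.1 h
  have h2 := congrArg (fun g : U3 F => (g : Matrix (Fin 3) (Fin 3) (LL F)) 1 0) h1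
  simp only [dg_coe] at h2
  rw [Matrix.diagonal_apply_ne _ (by decide)] at h2
  simp [c0, cyc] at h2

/-! ### Cube roots of one -/

theorem cube_root (h3 : (3 : F) ≠ 0) {x : unitary (LL F)} (h : x * x * x = 1) :
    x = 1 ∨ x = omU ∨ x = omU * omU := by
  obtain ⟨⟨a, b⟩, hx⟩ := x
  have h1 : (⟨a, b⟩ : LL F) * ⟨a, b⟩ * ⟨a, b⟩ = 1 := congrArg Subtype.val h
  have h2 : star (⟨a, b⟩ : LL F) * ⟨a, b⟩ = 1 := (Unitary.mem_iff.1 hx).1
  have e1 := congrArg QuadraticAlgebra.re h1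
  have e2 := congrArg QuadraticAlgebra.im h1
  have e3 := congrArg QuadraticAlgebra.re h2
  simp at e1 e2 e3
  -- norm one: `a ^ 2 - a b + b ^ 2 = 1`, the cube: `(t ^ 2 - 1) b = 0`, `t = 2 a - b`
  have n1 : a ^ 2 - a * b + b ^ 2 = 1 := by linear_combination e3
  have c2 : 3 * a * b * (a - b) = 0 := by linear_combination e2
  have c1 : a ^ 3 - 3 * a * b ^ 2 + b ^ 3 = 1 := by linear_combination e1
  have h4 : a = 0 ∨ b = 0 ∨ a = b := by
    rcases mul_eq_zero.1 c2 with h | h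
    · rcases mul_eq_zero.1 h with h | h
      · rcases mul_eq_zero.1 h with h | h
        · exact absurd h h3
        · exact Or.inl h
      · exact Or.inr (Or.inl h)
    · exact Or.inr (Or.inr (sub_eq_zero.1 h))
  rcases h4 with h4 | h4 | h4
  · right; left
    subst h4
    have : b = 1 := by
      have h5 : b ^ 3 = 1 := by linear_combination c1
      have h6 : b ^ 2 = 1 := by linear_combination n1
      linear_combination h5 - b * h6
    subst this
    rfl
  · left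
    subst h4
    have : a = 1 := by
      have h5 : a ^ 3 = 1 := by linear_combination c1
      have h6 : a ^ 2 = 1 := by linear_combination n1
      linear_combination h5 - a * h6
    subst this
    rfl
  · right; right
    subst h4
    have : a = -1 := by
      have h5 : - a ^ 3 = 1 := by linear_combination c1
      have h6 : a ^ 2 = 1 := by linear_combination n1
      linear_combination -h5 - a * h6
    subst this
    apply Subtype.ext
    change (⟨-1, -1⟩ : LL F) = om * om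
    ext <;> simp [om]

theorem omU_mem : (omU : unitary (LL F)) ∈ P3 F := ⟨1, by rw [pow_one, pow_succ, pow_two, omU_cube]⟩

theorem mem_P3_of_cube {x : unitary (LL F)} (h : x * x * x = 1) : x ∈ P3 F :=
  ⟨1, by rw [pow_one, pow_succ, pow_two, h]⟩

/-- the central element -/
noncomputable def zz (F : Type*) [Field F] : SU F := ⟨dg omU omU omU, by rw [dg_mem, omU_cube]⟩

/-- `diag (1, ω, ω²)` -/
noncomputable def t0 (F : Type*) [Field F] : SU F := ⟨tt F, tt_mem⟩

theorem t0_mem : t0 F ∈ DD F := by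
  refine mem_DD.2 ⟨1, omU, omU * omU, one_mem _, omU_mem, mul_mem omU_mem omU_mem, ?_, rfl⟩
  rw [one_mul, ← mul_assoc, omU_cube]

theorem conj_c (d : SU F) (hd : d ∈ DD F) (x y w : unitary (LL F)) :
    ((d * c0 F : SU F) : U3 F) * dg x y w * ((d * c0 F : SU F) : U3 F)⁻¹ = dg w x y := by
  obtain ⟨x', y', w', -, -, -, -, h⟩ := mem_DD.1 hd
  rw [Subgroup.coe_mul, h]
  change dg x' y' w' * cyc * dg x y w * (dg x' y' w' * cyc)⁻¹ = _
  rw [mul_inv_rev]
  calc dg x' y' w' * cyc * dg x y w * (cyc⁻¹ * (dg x' y' w')⁻¹)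
      = dg x' y' w' * (cyc * dg x y w * cyc⁻¹) * (dg x' y' w')⁻¹ := by group
    _ = dg w x y := by
      rw [cyc_mul, dg_inv, dg_mul, dg_mul]
      congr 1 <;> rw [mul_inv_eq_iff_eq_mul, mul_comm]

theorem conj_cc (d : SU F) (hd : d ∈ DD F) (x y w : unitary (LL F)) :
    ((d * (c0 F * c0 F) : SU F) : U3 F) * dg x y w * ((d * (c0 F * c0 F) : SU F) : U3 F)⁻¹ = dg y w x := by
  have h1 : ((d * (c0 F * c0 F) : SU F) : U3 F) = ((d * c0 F : SU F) : U3 F) * cyc := by
    rw [← mul_assoc]; rfl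
  rw [h1, mul_inv_rev]
  calc ((d * c0 F : SU F) : U3 F) * cyc * dg x y w * (cyc⁻¹ * ((d * c0 F : SU F) : U3 F)⁻¹)
      = ((d * c0 F : SU F) : U3 F) * (cyc * dg x y w * cyc⁻¹) * ((d * c0 F : SU F) : U3 F)⁻¹ := by group
    _ = dg y w x := by rw [cyc_mul, conj_c d hd]

theorem conj_d (d : SU F) (hd : d ∈ DD F) (x y w : unitary (LL F)) :
    (d : U3 F) * dg x y w * (d : U3 F)⁻¹ = dg x y w := by
  obtain ⟨x', y', w', -, -, -, -, h⟩ := mem_DD.1 hd
  rw [h, dg_inv, dg_mul, dg_mul]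
  congr 1 <;> rw [mul_inv_eq_iff_eq_mul, mul_comm]

/-- elements of `⟨zz⟩` are scalars -/
theorem mem_zpowers_zz {g : SU F} : g ∈ zpowers (zz F) ↔ ∃ x : unitary (LL F), (x = 1 ∨ x = omU ∨ x = omU * omU) ∧
    (g : U3 F) = dg x x x := by
  have h3 : (zz F) ^ 3 = 1 := by
    apply Subtype.ext
    rw [pow_succ, pow_two]
    change dg _ _ _ * dg _ _ _ * dg _ _ _ = (1 : U3 F)
    rw [dg_mul, dg_mul, omU_cube, dg_one]
  constructor
  · intro h
    obtain ⟨n, rfl⟩ := mem_zpowers_iff.1 h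
    have h4 : (zz F) ^ n = (zz F) ^ (n % 3) := by
      have h5 : (zz F) ^ (3 : ℤ) = 1 := by exact_mod_cast h3
      conv_lhs => rw [← Int.emod_add_mul_ediv n 3, zpow_add, zpow_mul, h5, one_zpow, mul_one]
    rw [h4]
    have h6 : n % 3 = 0 ∨ n % 3 = 1 ∨ n % 3 = 2 := by omega
    rcases h6 with h6 | h6 | h6 <;> rw [h6]
    · exact ⟨1, Or.inl rfl, by rw [zpow_zero, dg_one]; rfl⟩
    · exact ⟨omU, Or.inr (Or.inl rfl), by rw [zpow_one]; rfl⟩
    · refine ⟨omU * omU, Or.inr (Or.inr rfl), ?_⟩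
      rw [show (2 : ℤ) = ((2 : ℕ) : ℤ) from rfl, zpow_natCast, pow_two, ← dg_mul]
      rfl
  · rintro ⟨x, h | h | h, hg⟩
    · have : g = 1 := by
        apply Subtype.ext
        rw [hg, h, dg_one]; rfl
      rw [this]; exact one_mem _
    · have : g = zz F := by
        apply Subtype.ext
        rw [hg, h]; rfl
      rw [this]; exact mem_zpowers _
    · have : g = zz F * zz F := by
        apply Subtype.ext
        rw [hg, h, ← dg_mul]; rfl
      rw [this]; exact mul_mem (mem_zpowers _) (mem_zpowers _)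

theorem zz_mem_DD : zz F ∈ DD F :=
  mem_DD.2 ⟨omU, omU, omU, omU_mem, omU_mem, omU_mem, omU_cube, rfl⟩

/-- the centre of `SS` -/
theorem mem_zz_of_comm (h3 : (3 : F) ≠ 0) {n : SU F} (hn : n ∈ SS F) (h1 : t0 F * n = n * t0 F)
    (h2 : c0 F * n = n * c0 F) : n ∈ zpowers (zz F) := by
  have h1' : (n : U3 F) * tt F * (n : U3 F)⁻¹ = tt F := by
    have := congrArg Subtype.val h1
    rw [mul_inv_eq_iff_eq_mul]
    exact this.symm
  have hom : (omU : unitary (LL F)) ≠ 1 := fun h => om_ne_one (F := F) (congrArg Subtype.val h)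
  obtain ⟨d, hd, rfl | rfl | rfl⟩ := mem_SS hn
  · obtain ⟨x, y, w, -, -, -, hxyw, h⟩ := mem_DD.1 hd
    have h4 : dg w x y = dg x y w := by
      have := congrArg Subtype.val h2
      change cyc * (n : U3 F) = (n : U3 F) * cyc at this
      rw [← cyc_mul, mul_inv_eq_iff_eq_mul, ← h]
      exact this
    obtain ⟨e1, e2, e3⟩ := dg_inj h4
    subst e1
    subst e2
    exact mem_zpowers_zz.2 ⟨w, cube_root h3 hxyw, h⟩
  · exfalso
    rw [tt, conj_c d hd] at h1'
    obtain ⟨e1, e2, e3⟩ := dg_inj h1'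
    exact hom e2.symm
  · exfalso
    rw [tt, conj_cc d hd] at h1'
    obtain ⟨e1, e2, e3⟩ := dg_inj h1'
    exact hom e1

open scoped commutatorElement

theorem cube_mul {A : Type*} [CommGroup A] (a b : A) : a * b * (a * b) * (a * b) = a * a * a * (b * b * b) := by
  rw [mul_mul_mul_comm a b a b, mul_mul_mul_comm (a * a) (b * b) a b]

/-- strongly closed subgroups of `SS` in `SU F` -/
theorem closed_cases [Finite F] (h3 : (3 : F) ≠ 0) {T : Subgroup (SU F)} (hT : Cfsg.IsStronglyClosed T (SS F))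
    (hne : T ≠ ⊥) (hξ : ∃ ξ ∈ P3 F, ξ * ξ * ξ ≠ 1) : T = zpowers (zz F) ∨ T = SS F := by
  have hnorm : ∀ y ∈ SS F, ∀ n ∈ T, y * n * y⁻¹ ∈ T := fun y hy n hn =>
    hT.2 n hn y (mul_mem (mul_mem hy (hT.1 hn)) (inv_mem hy))
  have hfin : Finite (SU F) := by
    have : Finite (LL F) := Finite.of_injective _ (QuadraticAlgebra.equivProd (-1 : F) (-1)).injective
    infer_instance
  -- `zz ∈ T`
  have hzT : zpowers (zz F) ≤ T := by
    obtain ⟨n, hn, hn1, hc⟩ := GTwoFour.Tools.exists_fixed_mod (p := 3) isPGroup_SS hT.1 hnorm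
      (M := ⊥) (by intro y _ m hm; rw [mem_bot] at hm ⊢; rw [hm]; group)
      (by
        obtain ⟨n, hn⟩ := Subgroup.ne_bot_iff_exists_ne_one.1 hne
        exact ⟨n, n.2, fun h => hn (Subtype.ext (mem_bot.1 h))⟩)
    have h1 := hc (t0 F) (DD_le t0_mem)
    have h2 := hc (c0 F) c0_mem
    rw [mem_bot, commutatorElement_eq_one_iff_mul_comm] at h1 h2
    have h4 := mem_zz_of_comm h3 (hT.1 hn) h1 h2
    obtain ⟨x, hx, hn'⟩ := mem_zpowers_zz.1 h4
    rw [Subgroup.zpowers_le]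
    rcases hx with h | h | h
    · exfalso
      apply hn1
      rw [mem_bot]
      apply Subtype.ext
      rw [hn', h, dg_one]; rfl
    · have : n = zz F := by
        apply Subtype.ext
        rw [hn', h]; rfl
      rwa [← this]
    · have : n * n = zz F := by
        apply Subtype.ext
        rw [Subgroup.coe_mul, hn', h, dg_mul, ← mul_assoc, omU_cube, one_mul]; rfl
      rw [← this]; exact mul_mem hn hn
  by_cases hTz : T = zpowers (zz F)
  · exact Or.inl hTz
  right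
  have hscal : ∀ s : unitary (LL F), ∀ hs : s * s * s = 1, (⟨dg s s s, dg_mem.2 hs⟩ : SU F) ∈ T := fun s hs =>
    hzT (mem_zpowers_zz.2 ⟨s, cube_root h3 hs, rfl⟩)
  obtain ⟨n, hn, hn1, hc⟩ := GTwoFour.Tools.exists_fixed_mod (p := 3) isPGroup_SS hT.1 hnorm
    (M := zpowers (zz F)) (by
      intro y hy m hm
      obtain ⟨x, hx, hm'⟩ := mem_zpowers_zz.1 hm
      refine mem_zpowers_zz.2 ⟨x, hx, ?_⟩
      rw [Subgroup.coe_mul, Subgroup.coe_mul, hm', Subgroup.coe_inv]
      obtain ⟨d, hd, rfl | rfl | rfl⟩ := mem_SS hy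
      · rw [conj_d y hd]
      · rw [conj_c d hd]
      · rw [conj_cc d hd])
    (by
      by_contra hcon
      push Not at hcon
      exact hTz (le_antisymm hcon hzT))
  -- `n` is diagonal
  obtain ⟨ξ, hξ, hξ3⟩ := hξ
  have hnD : n ∈ DD F := by
    have he : (⟨dg ξ ξ⁻¹ 1, dg_mem.2 (by rw [mul_inv_cancel, one_mul])⟩ : SU F) ∈ SS F :=
      DD_le (mem_DD.2 ⟨ξ, ξ⁻¹, 1, hξ, inv_mem hξ, one_mem _, by rw [mul_inv_cancel, one_mul], rfl⟩)
    have h4 := hc _ he
    obtain ⟨s, -, hs⟩ := mem_zpowers_zz.1 h4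
    have h5 : dg ξ ξ⁻¹ 1 * ((n : U3 F) * dg ξ ξ⁻¹ 1 * (n : U3 F)⁻¹)⁻¹ = dg s s s := by
      rw [← hs, commutatorElement_def]
      change _ = dg ξ ξ⁻¹ 1 * (n : U3 F) * (dg ξ ξ⁻¹ 1)⁻¹ * (n : U3 F)⁻¹
      group
    obtain ⟨d, hd, rfl | rfl | rfl⟩ := mem_SS (hT.1 hn)
    · exact hd
    · exfalso
      rw [conj_c d hd, dg_inv, dg_mul] at h5
      obtain ⟨e1, e2, e3⟩ := dg_inj h5
      apply hξ3
      have e4 : ξ * 1⁻¹ = ξ⁻¹ * ξ⁻¹ := e1.trans e2.symm
      rw [inv_one, mul_one] at e4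
      rw [mul_assoc]
      nth_rewrite 1 [e4]
      group
    · exfalso
      rw [conj_cc d hd, dg_inv, dg_mul] at h5
      obtain ⟨e1, e2, e3⟩ := dg_inj h5
      apply hξ3
      have e4 : ξ * ξ⁻¹⁻¹ = 1 * ξ⁻¹ := e1.trans e3.symm
      rw [inv_inv, one_mul] at e4
      rw [e4, inv_mul_cancel]
  obtain ⟨x, y, w, -, -, -, hxyw, hn'⟩ := mem_DD.1 hnD
  have h4 := hc _ c0_mem
  obtain ⟨θ, hθ, hs⟩ := mem_zpowers_zz.1 h4
  have h5 : dg w x y * (dg x y w)⁻¹ = dg θ θ θ := by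
    rw [← hs, commutatorElement_def]
    change _ = cyc * (n : U3 F) * cyc⁻¹ * (n : U3 F)⁻¹
    rw [hn', cyc_mul]
  rw [dg_inv, dg_mul] at h5
  obtain ⟨e1, e2, e3⟩ := dg_inj h5
  rw [mul_inv_eq_iff_eq_mul] at e1 e2 e3
  have hθ3 : θ * θ * θ = 1 := by
    rcases hθ with h | h | h
    · rw [h]; simp
    · rw [h, omU_cube]
    · rw [h]
      calc omU * omU * (omU * omU) * (omU * omU) = (omU * omU * omU) * (omU * omU * omU) := by
            simp only [mul_assoc]
        _ = (1 : unitary (LL F)) := by rw [omU_cube, one_mul]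
  have hy3 : y * y * y = 1 := by
    have h6 : θ * y * y * (θ * (θ * y)) = 1 := by
      rw [← e2, ← e1]; exact hxyw
    calc y * y * y = (θ * θ * θ)⁻¹ * (θ * y * y * (θ * (θ * y))) := by
          rw [hθ3, inv_one, one_mul]
          have : θ * y * y * (θ * (θ * y)) = (θ * θ * θ) * (y * y * y) := by
            simp only [mul_comm, mul_left_comm, mul_assoc]
          rw [this, hθ3, one_mul]
      _ = 1 := by rw [h6, hθ3, inv_one, one_mul]
  have htT : t0 F ∈ T := by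
    rcases hθ with h | h | h
    · exfalso
      apply hn1
      rw [h, one_mul] at e1 e2 e3
      refine mem_zpowers_zz.2 ⟨y, cube_root h3 hy3, ?_⟩
      rw [hn', e1, e2]
    · -- `n = diag (ω y, y, ω² y)`
      have hs1 : y * omU * (y * omU) * (y * omU) = 1 := by
        rw [cube_mul, hy3, omU_cube, one_mul]
      have h6 : (⟨dg (y * omU) (y * omU) (y * omU), dg_mem.2 hs1⟩ : SU F) * n⁻¹ = t0 F := by
        apply Subtype.ext
        change dg _ _ _ * (n : U3 F)⁻¹ = dg _ _ _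
        rw [hn', dg_inv, dg_mul, e1, e2, h]
        congr 1
        · rw [mul_comm y, mul_inv_cancel]
        · rw [mul_comm y, mul_assoc, mul_inv_cancel, mul_one]
        · rw [mul_inv_eq_iff_eq_mul]
          calc y * omU = (omU * omU * omU) * (omU * y) := by rw [omU_cube, one_mul, mul_comm]
            _ = _ := by simp only [mul_assoc]
      rw [← h6]
      exact mul_mem (hscal _ hs1) (inv_mem hn)
    · -- `n = diag (ω² y, y, ω y)`
      have hs1 : y⁻¹ * omU * (y⁻¹ * omU) * (y⁻¹ * omU) = 1 := by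
        rw [cube_mul, omU_cube, mul_one, ← mul_inv, ← mul_inv, hy3, inv_one]
      have h6 : (⟨dg (y⁻¹ * omU) (y⁻¹ * omU) (y⁻¹ * omU), dg_mem.2 hs1⟩ : SU F) * n = t0 F := by
        apply Subtype.ext
        change dg _ _ _ * (n : U3 F) = dg _ _ _
        rw [hn', dg_mul, e1, e2, h]
        congr 1
        · calc y⁻¹ * omU * (omU * omU * y) = (omU * omU * omU) * (y⁻¹ * y) := by
                simp only [mul_comm, mul_left_comm, mul_assoc]
            _ = 1 := by rw [omU_cube, inv_mul_cancel, one_mul]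
        · rw [mul_comm y⁻¹, mul_assoc, inv_mul_cancel, mul_one]
        · calc y⁻¹ * omU * (omU * omU * (omU * omU * y)) = (omU * omU * omU) * (y⁻¹ * y) * (omU * omU) := by
                simp only [mul_comm, mul_left_comm, mul_assoc]
            _ = omU * omU := by rw [omU_cube, inv_mul_cancel, one_mul, one_mul]
      rw [← h6]
      exact mul_mem (hscal _ hs1) hn
  -- all `d c` are in `T`
  have hdc : ∀ d ∈ DD F, d * c0 F ∈ T := by
    intro d hd
    obtain ⟨x', y', w', -, -, -, h7, h8⟩ := mem_DD.1 hd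
    obtain ⟨g, hg, hgt⟩ := exists_conj h3 x' y' w' h7
    have h9 : (⟨g, hg⟩ : SU F) * t0 F * (⟨g, hg⟩ : SU F)⁻¹ = d * c0 F := by
      apply Subtype.ext
      change g * tt F * g⁻¹ = (d : U3 F) * cyc
      rw [hgt, h8]
    rw [← h9]
    apply hT.2 _ htT
    rw [h9]
    exact mul_mem (DD_le hd) c0_mem
  have hcT : c0 F ∈ T := by simpa using hdc 1 (one_mem _)
  apply le_antisymm hT.1
  rw [SS]
  refine sup_le ((Subgroup.zpowers_le).2 hcT) ?_
  intro d hd
  have := mul_mem (hdc d hd) (inv_mem hcT)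
  rwa [mul_inv_cancel_right] at this

end Cfsg.Agent.H181.OctHerm
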