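import Mathlib
import Cfsg.Agent.H181.OctSyl
import Cfsg.Agent.H638.G2Iso

/-!
# The order of the 3-part of the group of elements of norm one of `F[ω]` and the Sylow 3-subgroup of `G₂(q)` (helper181)
-/

set_option autoImplicit false

namespace Cfsg.Agent.H181.OctHerm

open Cfsg.Lie QuadraticAlgebra Subgroup

variable {F : Type*} [Field F]

/-- the norm takes the value `- 1` -/
theorem exists_kappa [Finite F] (h3 : (3 : F) ≠ 0) : ∃ κ : LL F, κ * star κ = -1 := by
  have : Fintype F := Fintype.ofFinite F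
  by_cases h2 : ringChar F = 2
  · refine ⟨1, ?_⟩
    have : CharP F 2 := ringChar.of_eq h2
    have h4 : (-1 : F) = 1 := CharTwo.neg_eq 1
    ext <;> simp [h4]
  · have hodd : Fintype.card F % 2 = 1 := FiniteField.odd_card_of_char_ne_two h2
    have h20 : (2 : F) ≠ 0 := Ring.two_ne_zero h2
    -- `x ^ 2 + 3 y ^ 2 = - 4`
    have hf : (Polynomial.X ^ 2 : Polynomial F).degree = 2 := Polynomial.degree_X_pow 2
    have hg : (Polynomial.C 3 * Polynomial.X ^ 2 + Polynomial.C 0 * Polynomial.X + Polynomial.C 4 :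
        Polynomial F).degree = 2 := Polynomial.degree_quadratic h3
    obtain ⟨x, y, hxy⟩ := FiniteField.exists_root_sum_quadratic hf hg hodd
    simp only [Polynomial.eval_pow, Polynomial.eval_X, Polynomial.eval_add, Polynomial.eval_mul,
      Polynomial.eval_C] at hxy
    have h4 : ((x + y) / 2) * 2 = x + y := div_mul_cancel₀ _ h20
    set u : F := (x + y) / 2 with hu
    have h5 : u ^ 2 - u * y + y ^ 2 = -1 := by
      have h6 : (2 : F) * 2 * (u ^ 2 - u * y + y ^ 2) = 2 * 2 * (-1) := by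
        linear_combination (u * 2 + x + y - 2 * y) * h4 + hxy
      exact mul_left_cancel₀ (mul_ne_zero h20 h20) h6
    refine ⟨⟨u, y⟩, ?_⟩
    ext
    · simp; linear_combination h5
    · simp; ring

/-- `q = 1 mod 3` : the elements of norm one -/
theorem dvd_card_split [Finite F] (hq : Nat.card F % 3 = 1) : Nat.card F - 1 ∣ Nat.card (unitary (LL F)) := by
  have : Fintype F := Fintype.ofFinite F
  have hcard : Nat.card Fˣ = Nat.card F - 1 := Nat.card_units F
  have hc1 : 1 < Nat.card F := Finite.one_lt_card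
  have h3 : 3 ∣ Nat.card Fˣ := by rw [hcard]; omega
  obtain ⟨θ', hθ'⟩ := exists_prime_orderOf_dvd_card' (G := Fˣ) 3 h3
  set θ : F := (θ' : F) with hθd
  have hθ1 : θ ≠ 1 := by
    intro h
    have : θ' = 1 := Units.ext h
    rw [this, orderOf_one] at hθ'
    omega
  have hθ3 : θ ^ 3 = 1 := by
    have h4 := pow_orderOf_eq_one θ'
    rw [hθ'] at h4
    have h5 := congrArg Units.val h4
    rwa [Units.val_pow_eq_pow_val, Units.val_one] at h5
  have hθ0 : θ ≠ 0 := θ'.ne_zero
  have hθ : θ ^ 2 + θ + 1 = 0 := by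
    have h4 : (θ - 1) * (θ ^ 2 + θ + 1) = 0 := by linear_combination hθ3
    rcases mul_eq_zero.1 h4 with h | h
    · exact absurd (sub_eq_zero.1 h) hθ1
    · exact h
  let ev : LL F →* F :=
    { toFun := fun x => x.re + x.im * θ
      map_one' := by simp
      map_mul' := fun x y => by simp; linear_combination (-(x.im * y.im)) * hθ }
  rw [← hcard]
  let φ : unitary (LL F) →* Fˣ := (Units.map ev).comp Unitary.toUnits
  refine Subgroup.card_dvd_of_surjective φ ?_
  intro s
  have hd : θ - θ ^ 2 ≠ 0 := by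
    have : θ - θ ^ 2 = θ * (1 - θ) := by ring
    rw [this]
    exact mul_ne_zero hθ0 (sub_ne_zero.2 hθ1.symm)
  set b : F := ((s : F) - (s⁻¹ : Fˣ)) / (θ - θ ^ 2) with hb
  set a : F := (s : F) - b * θ with ha
  have hb' : b * (θ - θ ^ 2) = (s : F) - (s⁻¹ : Fˣ) := div_mul_cancel₀ _ hd
  have hss : (s : F) * (s⁻¹ : Fˣ) = 1 := Units.mul_inv s
  have e1 : a + b * θ = s := by rw [ha]; ring
  have e2 : a + b * θ ^ 2 = (s⁻¹ : Fˣ) := by rw [ha]; linear_combination -hb'
  have hN : a ^ 2 - a * b + b ^ 2 = 1 := by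
    have h5 : (a + b * θ) * (a + b * θ ^ 2) = 1 := by rw [e1, e2, hss]
    linear_combination h5 - a * b * hθ - b ^ 2 * hθ3
  have hmem : (⟨a, b⟩ : LL F) ∈ unitary (LL F) := by
    rw [Unitary.mem_iff]
    constructor
    · ext
      · simp; linear_combination hN
      · simp; ring
    · ext
      · simp; linear_combination hN
      · simp; ring
  refine ⟨⟨_, hmem⟩, Units.ext ?_⟩
  exact e1

/-- `q = 2 mod 3` : the elements of norm one -/
theorem dvd_card_nonsplit [Finite F] (hq : Nat.card F % 3 = 2) (h3 : (3 : F) ≠ 0) :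
    Nat.card F + 1 ∣ Nat.card (unitary (LL F)) := by
  have : Fintype F := Fintype.ofFinite F
  have hcard : Nat.card Fˣ = Nat.card F - 1 := Nat.card_units F
  have hc1 : 1 < Nat.card F := Finite.one_lt_card
  have hfact : Fact (∀ r : F, r ^ 2 ≠ -1 + -1 * r) := by
    refine ⟨fun r hr => ?_⟩
    have h4 : r ^ 3 = 1 := by linear_combination (r - 1) * hr
    have h5 : r ≠ 1 := by
      rintro rfl
      apply h3
      linear_combination hr
    have h6 : r ≠ 0 := by
      rintro rfl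
      simp at h4
    have h7 : orderOf (Units.mk0 r h6) = 3 := by
      apply orderOf_eq_prime
      · ext; simpa using h4
      · intro h; exact h5 (congrArg Units.val h)
    have h8 := orderOf_dvd_natCard (Units.mk0 r h6)
    rw [h7, hcard] at h8
    omega
  have hcL : Nat.card (LL F) = Nat.card F * Nat.card F := by
    rw [Nat.card_congr (QuadraticAlgebra.equivProd (-1 : F) (-1)), Nat.card_prod]
  have hfinL : Finite (LL F) := Finite.of_injective _ (QuadraticAlgebra.equivProd (-1 : F) (-1)).injective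
  have hcLu : Nat.card (LL F)ˣ = Nat.card F * Nat.card F - 1 := by rw [← hcL]; exact Nat.card_units _
  let ν : (LL F)ˣ →* Fˣ := Units.map (QuadraticAlgebra.norm (R := F) (a := -1) (b := -1))
  have h4 := Subgroup.card_mul_index ν.ker
  rw [Subgroup.index_ker, hcLu] at h4
  have h5 : Nat.card ν.range ∣ Nat.card F - 1 := by rw [← hcard]; exact Subgroup.card_subgroup_dvd_card _
  obtain ⟨m, hm⟩ := h5
  have hpos : 0 < Nat.card ν.range := Nat.card_pos
  have h6 : Nat.card ν.ker = m * (Nat.card F + 1) := by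
    apply Nat.eq_of_mul_eq_mul_right hpos
    rw [h4]
    have h7 : Nat.card F * Nat.card F - 1 = (Nat.card F - 1) * (Nat.card F + 1) := by
      have h8 := Nat.sq_sub_sq (Nat.card F) 1
      rw [one_pow, pow_two, mul_comm] at h8
      rw [h8, mul_comm]
    rw [h7, hm]; ring
  have h7 : Nat.card ν.ker = Nat.card (unitary (LL F)) := by
    apply Nat.card_congr
    refine Equiv.ofBijective (fun x => (⟨((x : (LL F)ˣ) : LL F), ?_⟩ : unitary (LL F))) ⟨?_, ?_⟩
    · have h8 := congrArg Units.val (MonoidHom.mem_ker.1 x.2)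
      exact QuadraticAlgebra.norm_eq_one_iff_mem_unitary.1 h8
    · intro x y h
      apply Subtype.ext
      apply Units.ext
      exact congrArg Subtype.val h
    · intro x
      refine ⟨⟨Unitary.toUnits x, ?_⟩, rfl⟩
      rw [MonoidHom.mem_ker]
      apply Units.ext
      exact QuadraticAlgebra.norm_eq_one_iff_mem_unitary.2 x.2
  rw [← h7, h6]
  exact Dvd.intro_left _ rfl

theorem finite_LL [Finite F] : Finite (LL F) :=
  Finite.of_injective _ (QuadraticAlgebra.equivProd (-1 : F) (-1)).injective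

theorem mod_three [Finite F] (h3 : (3 : F) ≠ 0) : Nat.card F % 3 = 1 ∨ Nat.card F % 3 = 2 := by
  have : Fintype F := Fintype.ofFinite F
  have h : Nat.card F % 3 ≠ 0 := by
    intro h
    have h4 : 3 ∣ Nat.card F := Nat.dvd_of_mod_eq_zero h
    rw [Nat.card_eq_fintype_card] at h4
    obtain ⟨p, hp⟩ := CharP.exists F
    have hpp : p.Prime := CharP.char_is_prime F p
    obtain ⟨n, hn, hc⟩ := FiniteField.card F p
    rw [hc] at h4
    have h5 := (Nat.prime_dvd_prime_iff_eq Nat.prime_three hpp).1 (Nat.prime_three.dvd_of_dvd_pow h4)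
    apply h3
    have := CharP.cast_eq_zero F p
    rw [← h5] at this
    exact_mod_cast this
  omega

/-- divisors of `q² - 1` which are powers of 3 divide `|P3 F|` -/
theorem pow_le_card_P3 [Finite F] (h3 : (3 : F) ≠ 0) {k : ℕ} (hk : 3 ^ k ∣ Nat.card F ^ 2 - 1) :
    3 ^ k ≤ Nat.card (P3 F) := by
  have hfin := finite_LL (F := F)
  have hc1 : 1 < Nat.card F := Finite.one_lt_card
  have h4 : Nat.card F ^ 2 - 1 = (Nat.card F + 1) * (Nat.card F - 1) := by
    have := Nat.sq_sub_sq (Nat.card F) 1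
    rwa [one_pow] at this
  have h5 : 3 ^ k ∣ Nat.card (unitary (LL F)) := by
    rw [h4] at hk
    rcases mod_three h3 with h | h
    · refine dvd_trans ?_ (dvd_card_split h)
      refine (Nat.Coprime.dvd_of_dvd_mul_left ?_ hk)
      apply Nat.Coprime.pow_left
      rw [Nat.Prime.coprime_iff_not_dvd Nat.prime_three]
      omega
    · refine dvd_trans ?_ (dvd_card_nonsplit h h3)
      refine (Nat.Coprime.dvd_of_dvd_mul_right ?_ hk)
      apply Nat.Coprime.pow_left
      rw [Nat.Prime.coprime_iff_not_dvd Nat.prime_three]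
      omega
  have : Fact (Nat.Prime 3) := ⟨Nat.prime_three⟩
  obtain ⟨K, hK⟩ := Sylow.exists_subgroup_card_pow_prime 3 h5
  rw [← hK]
  have hle : K ≤ P3 F := by
    intro x hx
    refine ⟨k, ?_⟩
    have h6 := pow_card_eq_one' (x := (⟨x, hx⟩ : K))
    rw [hK] at h6
    exact congrArg Subtype.val h6
  exact Nat.card_le_card_of_injective _ (Subgroup.inclusion_injective hle)

theorem card_DD [Finite F] : Nat.card (DD F) = Nat.card (P3 F) * Nat.card (P3 F) := by
  rw [← Nat.card_prod]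
  exact (Nat.card_congr (MonoidHom.ofInjective (dl_injective (F := F))).toEquiv).symm

theorem card_SS_ge [Finite F] : 3 * (Nat.card (P3 F) * Nat.card (P3 F)) ∣ Nat.card (SS F) := by
  have hfin := finite_LL (F := F)
  have : Fact (Nat.Prime 3) := ⟨Nat.prime_three⟩
  rw [← card_DD]
  have h1 := Subgroup.card_mul_index ((DD F).subgroupOf (SS F))
  rw [Nat.card_congr (subgroupOfEquivOfLe (DD_le (F := F))).toEquiv] at h1
  have h2 : ((DD F).subgroupOf (SS F)).index ≠ 1 := by
    intro h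
    rw [Subgroup.index_eq_one, subgroupOf_eq_top] at h
    exact c0_not_mem (h c0_mem)
  have h3 : 3 ∣ ((DD F).subgroupOf (SS F)).index := by
    obtain ⟨n, hn⟩ := IsPGroup.iff_card.1 (isPGroup_SS (F := F))
    have h4 : ((DD F).subgroupOf (SS F)).index ∣ 3 ^ n := by
      rw [← hn, ← h1]; exact Dvd.intro_left _ rfl
    obtain ⟨m, -, hm⟩ := (Nat.dvd_prime_pow Nat.prime_three).1 h4
    rw [hm]
    apply dvd_pow_self
    rintro rfl
    exact h2 (by rw [hm, pow_zero])
  rw [← h1, mul_comm]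
  exact Nat.mul_dvd_mul_left _ h3

/-- arithmetic: the 3-part of the order of `G₂(q)` -/
theorem arith {q : ℕ} (hq1 : 1 < q) (hq : q % 3 = 1 ∨ q % 3 = 2) : ∃ k m r : ℕ, 1 ≤ k ∧ q ^ 2 - 1 = 3 ^ k * m ∧ ¬ 3 ∣ m ∧
    q ^ 6 * (q ^ 2 - 1) * (q ^ 6 - 1) = 3 * (3 ^ k * 3 ^ k) * r ∧ ¬ 3 ∣ r := by
  have hq2 : q ^ 2 % 3 = 1 := by
    rcases hq with h | h <;> rw [pow_two, Nat.mul_mod, h]
  have hpos : 0 < q ^ 2 - 1 := by
    have : 2 ^ 2 ≤ q ^ 2 := Nat.pow_le_pow_left (by omega) 2
    omega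
  obtain ⟨k, m, hm, hkm⟩ := Nat.exists_eq_pow_mul_and_not_dvd hpos.ne' 3 (by norm_num)
  have hk : 1 ≤ k := by
    by_contra h
    have : k = 0 := by omega
    subst this
    rw [pow_zero, one_mul] at hkm
    apply hm
    rw [← hkm]
    omega
  obtain ⟨j, hj⟩ : ∃ j, q ^ 2 = 1 + 3 * j := ⟨(q ^ 2 - 1) / 3, by omega⟩
  have h6 : q ^ 6 - 1 = (q ^ 2 - 1) * (3 * (1 + 3 * j + 3 * j ^ 2)) := by
    have e1 : q ^ 6 = (q ^ 2) ^ 3 := by rw [← pow_mul]
    rw [e1, hj]
    have e2 : (1 + 3 * j) ^ 3 = 3 * j * (3 * (1 + 3 * j + 3 * j ^ 2)) + 1 := by ring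
    rw [e2, Nat.add_sub_cancel]
    congr 1
    omega
  refine ⟨k, m, q ^ 6 * m * m * (1 + 3 * j + 3 * j ^ 2), hk, hkm, hm, ?_, ?_⟩
  · rw [h6, hkm]; ring
  · intro h
    rcases (Nat.Prime.dvd_mul Nat.prime_three).1 h with h | h
    · rcases (Nat.Prime.dvd_mul Nat.prime_three).1 h with h | h
      · rcases (Nat.Prime.dvd_mul Nat.prime_three).1 h with h | h
        · have := Nat.prime_three.dvd_of_dvd_pow h
          omega
        · exact hm h
      · exact hm h
    · omega

/-- the numbers: `|GG κ| = 3 A² r`, `3 ∤ r`, `|P3| = A`, `|SS| = 3 A²` -/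
theorem cards [Finite F] (h3 : (3 : F) ≠ 0) {κ : LL F} (hκ : κ * star κ = -1) :
    ∃ k r : ℕ, 1 ≤ k ∧ Nat.card (GG κ) = 3 * (3 ^ k * 3 ^ k) * r ∧ ¬ 3 ∣ r ∧ 3 ^ k ∣ Nat.card F ^ 2 - 1 ∧
      ¬ 3 ^ (k + 1) ∣ Nat.card F ^ 2 - 1 ∧
      Nat.card (P3 F) = 3 ^ k ∧ Nat.card (SS F) = 3 * (3 ^ k * 3 ^ k) := by
  have hfin := finite_LL (F := F)
  have : Fact (Nat.Prime 3) := ⟨Nat.prime_three⟩
  obtain ⟨e⟩ := nonempty_equiv h3 κ hκ
  have hc := Cfsg.Agent.H638.G2Iso.card_G2 (F := F)
  rw [Nat.card_congr e.toEquiv] at hc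
  obtain ⟨k, m, r, hk, hkm, hm, hN, hr⟩ := arith (Finite.one_lt_card (α := F)) (mod_three h3)
  rw [hN] at hc
  have h5 := pow_le_card_P3 h3 (Dvd.intro _ hkm.symm : 3 ^ k ∣ Nat.card F ^ 2 - 1)
  have h6 := card_SS_ge (F := F)
  obtain ⟨n, hn⟩ := IsPGroup.iff_card.1 (isPGroup_SS (F := F))
  have h7 : Nat.card (SS F) ∣ 3 * (3 ^ k * 3 ^ k) := by
    have h8 : Nat.card (SS F) ∣ Nat.card (GG κ) := by
      have : Nat.card ((SS F).map (rho κ)) = Nat.card (SS F) :=
        Subgroup.card_map_of_injective (rho_injective κ)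
      rw [← this]
      exact Subgroup.card_subgroup_dvd_card _
    rw [hc] at h8
    refine Nat.Coprime.dvd_of_dvd_mul_right ?_ h8
    rw [hn]
    exact Nat.Coprime.pow_left _ ((Nat.Prime.coprime_iff_not_dvd Nat.prime_three).2 hr)
  have hpos : 0 < 3 * (3 ^ k * 3 ^ k) := by positivity
  have h8 : 3 * (Nat.card (P3 F) * Nat.card (P3 F)) ≤ 3 * (3 ^ k * 3 ^ k) := Nat.le_of_dvd hpos (h6.trans h7)
  have h9 : Nat.card (P3 F) = 3 ^ k := by
    apply le_antisymm _ h5
    by_contra hlt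
    push Not at hlt
    have := Nat.mul_lt_mul_of_lt_of_lt hlt hlt
    omega
  refine ⟨k, r, hk, hc, hr, Dvd.intro _ hkm.symm, ?_, h9, ?_⟩
  · rintro ⟨m', hm'⟩
    apply hm
    rw [hkm, pow_succ, mul_assoc] at hm'
    have := Nat.eq_of_mul_eq_mul_left (pow_pos (by norm_num) k) hm'
    exact ⟨m', this⟩
  · rw [h9] at h6
    exact Nat.dvd_antisymm h7 h6

/-- the Sylow 3-subgroup of the automorphism group of the octonions -/
theorem exists_sylow [Finite F] (h3 : (3 : F) ≠ 0) {κ : LL F} (hκ : κ * star κ = -1) :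
    ∃ P : Sylow 3 (GG κ), (P : Subgroup (GG κ)) = (SS F).map (rho κ) := by
  have hfin := finite_LL (F := F)
  have : Fact (Nat.Prime 3) := ⟨Nat.prime_three⟩
  obtain ⟨k, r, -, hc, hr, -, -, -, hS⟩ := cards h3 hκ
  have hcard : Nat.card ((SS F).map (rho κ)) = 3 * (3 ^ k * 3 ^ k) := by
    rw [Subgroup.card_map_of_injective (rho_injective κ), hS]
  have hidx : ((SS F).map (rho κ)).index = r := by
    have h1 := Subgroup.card_mul_index ((SS F).map (rho κ))
    rw [hcard, hc] at h1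
    exact Nat.eq_of_mul_eq_mul_left (by positivity) h1
  have hfinG : Finite (GG κ) := Nat.finite_of_card_ne_zero (by
    rw [hc]
    have : r ≠ 0 := by rintro rfl; exact hr (dvd_zero _)
    positivity)
  exact ⟨((isPGroup_SS (F := F)).map (rho κ)).toSylow (by rw [hidx]; exact hr), rfl⟩

end Cfsg.Agent.H181.OctHerm
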