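import Mathlib
import Cfsg.Agent.H181.OctOrd

/-!
# Strongly closed subgroups of a Sylow 3-subgroup of `G₂(q)`, `3 ∤ q` (helper181)

`G ≃* G₂(F)`, `3 ≠ 0` in `F`, `S` a Sylow 3-subgroup of `G`.
* `closed` : `9 ∣ q² - 1`, `T` strongly closed in `S`, `T ≠ 1, S`: `T = Z(S)` has order 3;
* `exists_abelian` : `S` has an abelian subgroup `D` of index 3, `|D| ≥ 81` if `9 ∣ q² - 1`;
* `card_center` : `|Z(S)| = 3`;
* `card_sylow`, `center_closed` : if `9 ∤ q² - 1` then `|S| = 27` and `Z(S)` is strongly closed.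
-/

set_option autoImplicit false

namespace Cfsg.Agent.H181.OctHerm

open Cfsg.Lie QuadraticAlgebra Subgroup

variable {F : Type*} [Field F]

section transport

variable {G H : Type*} [Group G] [Group H]

theorem closed_map (e : G ≃* H) {T S : Subgroup G} (h : Cfsg.IsStronglyClosed T S) :
    Cfsg.IsStronglyClosed (T.map e.toMonoidHom) (S.map e.toMonoidHom) := by
  refine ⟨Subgroup.map_mono h.1, ?_⟩
  rintro _ ⟨x, hx, rfl⟩ g hg
  obtain ⟨g, rfl⟩ := e.surjective g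
  obtain ⟨s, hs, hse⟩ := hg
  have h1 : s = g * x * g⁻¹ := e.injective (by
    rw [map_mul, map_mul, map_inv]; exact hse)
  refine ⟨g * x * g⁻¹, h.2 x hx g (by rw [← h1]; exact hs), ?_⟩
  change e _ = _
  rw [map_mul, map_mul, map_inv]
  rfl

theorem map_inf_centralizer (e : G ≃* H) (S : Subgroup G) :
    (S ⊓ centralizer (S : Set G)).map e.toMonoidHom =
      S.map e.toMonoidHom ⊓ centralizer ((S.map e.toMonoidHom : Subgroup H) : Set H) := by
  ext y
  constructor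
  · rintro ⟨x, ⟨hx, hc⟩, rfl⟩
    refine mem_inf.2 ⟨⟨x, hx, rfl⟩, ?_⟩
    rw [mem_centralizer_iff]
    rintro _ ⟨s, hs, rfl⟩
    change e s * e x = e x * e s
    rw [← map_mul, mem_centralizer_iff.1 hc s hs, map_mul]
  · rintro ⟨⟨x, hx, rfl⟩, hc⟩
    refine ⟨x, mem_inf.2 ⟨hx, ?_⟩, rfl⟩
    rw [mem_centralizer_iff]
    intro s hs
    apply e.injective
    rw [map_mul, map_mul]
    exact mem_centralizer_iff.1 hc (e s) ⟨s, hs, rfl⟩

theorem map_injective (e : G ≃* H) {A B : Subgroup G} (h : A.map e.toMonoidHom = B.map e.toMonoidHom) : A = B :=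
  Subgroup.map_injective e.injective h

theorem card_map_equiv (e : G ≃* H) (A : Subgroup G) : Nat.card (A.map e.toMonoidHom) = Nat.card A :=
  Subgroup.card_map_of_injective e.injective

end transport

/-- an isomorphism with the octonion automorphism group carrying `S` to the standard Sylow subgroup -/
theorem exists_phi [Finite F] (h3 : (3 : F) ≠ 0) {G : Type*} [Group G] [Finite G] (e : G ≃* Cfsg.Lie.G2 F)
    (S : Sylow 3 G) : ∃ (κ : LL F) (_ : κ * star κ = -1) (φ : G ≃* GG κ),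
      (S : Subgroup G).map φ.toMonoidHom = (SS F).map (rho κ) := by
  have : Fact (Nat.Prime 3) := ⟨Nat.prime_three⟩
  obtain ⟨κ, hκ⟩ := exists_kappa h3
  obtain ⟨f⟩ := nonempty_equiv h3 κ hκ
  obtain ⟨P, hP⟩ := exists_sylow h3 hκ
  let ψ : G ≃* GG κ := e.trans f
  have hfin : Finite (GG κ) := Finite.of_equiv G ψ.toEquiv
  have hcard : Nat.card ((S : Subgroup G).map ψ.toMonoidHom) = Nat.card (P : Subgroup (GG κ)) := by
    rw [Subgroup.card_map_of_injective ψ.injective, S.card_eq_multiplicity, P.card_eq_multiplicity,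
      Nat.card_congr ψ.toEquiv]
  have hS' : IsPGroup 3 ((S : Subgroup G).map ψ.toMonoidHom) := S.isPGroup'.map _
  obtain ⟨Q, hQ⟩ := hS'.exists_le_sylow
  have hQ' : (S : Subgroup G).map ψ.toMonoidHom = Q := by
    apply Subgroup.eq_of_le_of_card_ge hQ
    rw [hcard, P.card_eq_multiplicity, Q.card_eq_multiplicity]
  obtain ⟨g, hg⟩ := MulAction.exists_smul_eq (GG κ) Q P
  refine ⟨κ, hκ, ψ.trans (MulAut.conj g), ?_⟩
  rw [← hP, ← hg, Sylow.coe_subgroup_smul, ← hQ']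
  ext y
  rw [Subgroup.mem_pointwise_smul_iff_inv_smul_mem]
  constructor
  · rintro ⟨x, hx, rfl⟩
    refine ⟨x, hx, ?_⟩
    rw [eq_inv_smul_iff]
    rfl
  · rintro ⟨x, hx, hxy⟩
    refine ⟨x, hx, ?_⟩
    rw [eq_inv_smul_iff] at hxy
    exact hxy

/-- the centre of `SS` -/
theorem center_SS (h3 : (3 : F) ≠ 0) : SS F ⊓ centralizer (SS F : Set (SU F)) = zpowers (zz F) := by
  apply le_antisymm
  · intro n hn
    exact mem_zz_of_comm h3 hn.1 (mem_centralizer_iff.1 hn.2 _ (DD_le t0_mem))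
      (mem_centralizer_iff.1 hn.2 _ c0_mem)
  · intro n hn
    refine mem_inf.2 ⟨DD_le ((Subgroup.zpowers_le.2 zz_mem_DD) hn), ?_⟩
    obtain ⟨x, -, hx⟩ := mem_zpowers_zz.1 hn
    rw [mem_centralizer_iff]
    intro g hg
    apply Subtype.ext
    rw [Subgroup.coe_mul, Subgroup.coe_mul, hx, ← mul_inv_eq_iff_eq_mul]
    obtain ⟨d, hd, rfl | rfl | rfl⟩ := mem_SS hg
    · exact conj_d g hd x x x
    · exact conj_c d hd x x x
    · exact conj_cc d hd x x x

theorem card_zz : Nat.card (zpowers (zz F)) = 3 := by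
  rw [Nat.card_zpowers]
  apply orderOf_eq_prime
  · apply Subtype.ext
    rw [pow_succ, pow_two]
    change dg _ _ _ * dg _ _ _ * dg _ _ _ = (1 : U3 F)
    rw [dg_mul, dg_mul, omU_cube, dg_one]
  · intro h
    have h1 := congrArg Subtype.val h
    change dg omU omU omU = (1 : U3 F) at h1
    rw [← dg_one] at h1
    exact om_ne_one (congrArg Subtype.val (dg_inj h1).1)

theorem map_center (h3 : (3 : F) ≠ 0) (κ : LL F) : (SS F).map (rho κ) ⊓ centralizer (((SS F).map (rho κ) : Subgroup (GG κ)) : Set (GG κ)) =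
    (zpowers (zz F)).map (rho κ) := by
  rw [← center_SS h3]
  ext y
  constructor
  · rintro ⟨⟨x, hx, rfl⟩, hc⟩
    refine ⟨x, mem_inf.2 ⟨hx, ?_⟩, rfl⟩
    rw [mem_centralizer_iff]
    intro s hs
    apply rho_injective κ
    rw [map_mul, map_mul]
    exact mem_centralizer_iff.1 hc _ ⟨s, hs, rfl⟩
  · rintro ⟨x, ⟨hx, hc⟩, rfl⟩
    refine mem_inf.2 ⟨⟨x, hx, rfl⟩, ?_⟩
    rw [mem_centralizer_iff]
    rintro _ ⟨s, hs, rfl⟩
    rw [← map_mul, mem_centralizer_iff.1 hc s hs, map_mul]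

section main

variable {G : Type*} [Group G] [Finite G] [Finite F]

theorem card_center (h3 : (3 : F) ≠ 0) (e : G ≃* Cfsg.Lie.G2 F) (S : Sylow 3 G) :
    Nat.card ((S : Subgroup G) ⊓ centralizer ((S : Subgroup G) : Set G) : Subgroup G) = 3 := by
  obtain ⟨κ, hκ, φ, hφ⟩ := exists_phi h3 e S
  have h1 := map_inf_centralizer φ (S : Subgroup G)
  rw [hφ, map_center h3 κ] at h1
  rw [← card_map_equiv φ, h1, Subgroup.card_map_of_injective (rho_injective κ), card_zz]

theorem cards' (h3 : (3 : F) ≠ 0) : ∃ k : ℕ, 1 ≤ k ∧ 3 ^ k ∣ Nat.card F ^ 2 - 1 ∧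
      ¬ 3 ^ (k + 1) ∣ Nat.card F ^ 2 - 1 ∧
      Nat.card (P3 F) = 3 ^ k ∧ Nat.card (SS F) = 3 * (3 ^ k * 3 ^ k) := by
  obtain ⟨κ, hκ⟩ := exists_kappa h3
  obtain ⟨k, r, h1, -, -, h2, h3, h4, h5⟩ := cards h3 hκ
  exact ⟨k, h1, h2, h3, h4, h5⟩

theorem exists_xi (h3 : (3 : F) ≠ 0) (h9 : 9 ∣ Nat.card F ^ 2 - 1) : ∃ ξ ∈ P3 F, ξ * ξ * ξ ≠ 1 := by
  by_contra hcon
  push Not at hcon
  have h1 := pow_le_card_P3 h3 (k := 2) h9
  have hfin := finite_LL (F := F)
  have h2 : ((P3 F : Subgroup (unitary (LL F))) : Set (unitary (LL F))) ⊆ {1, omU, omU * omU} := by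
    intro x hx
    rcases cube_root h3 (hcon x hx) with h | h | h
    · exact Or.inl h
    · exact Or.inr (Or.inl h)
    · exact Or.inr (Or.inr h)
  have h4 : Nat.card (P3 F) ≤ Set.ncard ({1, omU, omU * omU} : Set (unitary (LL F))) :=
    Set.ncard_le_ncard h2 (Set.toFinite _)
  have h5 : Set.ncard ({1, omU, omU * omU} : Set (unitary (LL F))) ≤ 3 := by
    refine (Set.ncard_insert_le _ _).trans ?_
    have := Set.ncard_insert_le (omU : unitary (LL F)) {omU * omU}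
    rw [Set.ncard_singleton] at this
    omega
  omega

/-- **strongly closed subgroups** -/
theorem closed (h3 : (3 : F) ≠ 0) (e : G ≃* Cfsg.Lie.G2 F) (S : Sylow 3 G) (h9 : 9 ∣ Nat.card F ^ 2 - 1)
    {T : Subgroup G} (hT : Cfsg.IsStronglyClosed T (S : Subgroup G)) (hne : T ≠ ⊥) (hTS : T ≠ S) :
    T = (S : Subgroup G) ⊓ centralizer ((S : Subgroup G) : Set G) ∧ Nat.card T = 3 := by
  obtain ⟨κ, hκ, φ, hφ⟩ := exists_phi h3 e S
  have h1 := closed_map φ hT
  rw [hφ] at h1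
  -- pull back to `SU F`
  set T' : Subgroup (SU F) := (T.map φ.toMonoidHom).comap (rho κ) with hT'
  have hT'map : T'.map (rho κ) = T.map φ.toMonoidHom := by
    rw [hT', Subgroup.map_comap_eq, inf_eq_right]
    intro x hx
    obtain ⟨s, -, hs⟩ := h1.1 hx
    exact ⟨s, hs⟩
  have h2 : Cfsg.IsStronglyClosed T' (SS F) := by
    refine ⟨?_, ?_⟩
    · intro x hx
      obtain ⟨s, hs, hsx⟩ := h1.1 (show rho κ x ∈ T.map φ.toMonoidHom from hx)
      rwa [← rho_injective κ hsx]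
    · intro x hx g hg
      change rho κ (g * x * g⁻¹) ∈ T.map φ.toMonoidHom
      have := h1.2 (rho κ x) hx (rho κ g) (by
        rw [← map_inv, ← map_mul, ← map_mul]
        exact ⟨_, hg, rfl⟩)
      rwa [← map_inv, ← map_mul, ← map_mul] at this
  have h4 : T' ≠ ⊥ := by
    intro h
    rw [h, Subgroup.map_bot] at hT'map
    apply hne
    apply map_injective φ
    rw [← hT'map, Subgroup.map_bot]
  rcases closed_cases h3 h2 h4 (exists_xi h3 h9) with h | h
  · have h5 : T = (S : Subgroup G) ⊓ centralizer ((S : Subgroup G) : Set G) := by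
      apply map_injective φ
      rw [map_inf_centralizer, hφ, map_center h3 κ, ← hT'map, h]
    refine ⟨h5, ?_⟩
    rw [h5]
    exact card_center h3 e S
  · exfalso
    apply hTS
    apply map_injective φ
    rw [hφ, ← hT'map, h]

theorem card_sylow (h3 : (3 : F) ≠ 0) (e : G ≃* Cfsg.Lie.G2 F) (S : Sylow 3 G) :
    Nat.card (S : Subgroup G) = Nat.card (SS F) := by
  obtain ⟨κ, hκ, φ, hφ⟩ := exists_phi h3 e S
  rw [← card_map_equiv φ, hφ, Subgroup.card_map_of_injective (rho_injective κ)]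

theorem card_sylow_27 (h3 : (3 : F) ≠ 0) (e : G ≃* Cfsg.Lie.G2 F) (S : Sylow 3 G) (h9 : ¬ 9 ∣ Nat.card F ^ 2 - 1) :
    Nat.card (S : Subgroup G) = 27 := by
  rw [card_sylow h3 e S]
  obtain ⟨k, h1, h2, h4, h5, h6⟩ := cards' (F := F) h3
  have : k = 1 := by
    by_contra h
    apply h9
    exact (pow_dvd_pow 3 (show 2 ≤ k by omega)).trans h2
  rw [h6, this]
  norm_num

theorem exists_abelian (h3 : (3 : F) ≠ 0) (e : G ≃* Cfsg.Lie.G2 F) (S : Sylow 3 G) :
    ∃ D : Subgroup G, D ≤ S ∧ (∀ a ∈ D, ∀ b ∈ D, a * b = b * a) ∧ Nat.card (S : Subgroup G) = 3 * Nat.card D ∧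
      (9 ∣ Nat.card F ^ 2 - 1 → 81 ≤ Nat.card D) := by
  obtain ⟨κ, hκ, φ, hφ⟩ := exists_phi h3 e S
  obtain ⟨k, h1, h2, h4, h5, h6⟩ := cards' (F := F) h3
  set D : Subgroup G := ((DD F).map (rho κ)).map φ.symm.toMonoidHom with hD
  have hcD : Nat.card D = 3 ^ k * 3 ^ k := by
    rw [hD, Subgroup.card_map_of_injective φ.symm.injective, Subgroup.card_map_of_injective (rho_injective κ),
      card_DD, h5]
  refine ⟨D, ?_, ?_, ?_, ?_⟩
  · have : D ≤ ((SS F).map (rho κ)).map φ.symm.toMonoidHom := Subgroup.map_mono (Subgroup.map_mono DD_le)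
    refine this.trans ?_
    rw [← hφ]
    rintro _ ⟨_, ⟨s, hs, rfl⟩, rfl⟩
    have : φ.symm.toMonoidHom (φ.toMonoidHom s) = s := φ.symm_apply_apply s
    rw [this]
    exact hs
  · rintro _ ⟨_, ⟨a, ha, rfl⟩, rfl⟩ _ ⟨_, ⟨b, hb, rfl⟩, rfl⟩
    rw [← map_mul, ← map_mul, ← map_mul, ← map_mul]
    congr 2
    obtain ⟨x, y, w, -, -, -, -, hb'⟩ := mem_DD.1 hb
    apply Subtype.ext
    rw [Subgroup.coe_mul, Subgroup.coe_mul, hb', ← mul_inv_eq_iff_eq_mul]
    exact conj_d a ha x y w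
  · rw [card_sylow h3 e S, h6, hcD]
  · intro h9
    rw [hcD]
    have hk : 2 ≤ k := by
      by_contra h
      have : k = 1 := by omega
      subst this
      exact h4 h9
    have h7 : 3 ^ 2 ≤ 3 ^ k := Nat.pow_le_pow_right (by norm_num) hk
    calc 81 = 3 ^ 2 * 3 ^ 2 := by norm_num
      _ ≤ _ := Nat.mul_le_mul h7 h7

/-! ### The case `9 ∤ q² - 1` -/

theorem cube_of_not_nine (h3 : (3 : F) ≠ 0) (h9 : ¬ 9 ∣ Nat.card F ^ 2 - 1) {x : unitary (LL F)} (hx : x ∈ P3 F) :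
    x * x * x = 1 := by
  obtain ⟨k, h1, h2, h4, h5, h6⟩ := cards' (F := F) h3
  have hk : k = 1 := by
    by_contra h
    apply h9
    exact (pow_dvd_pow 3 (show 2 ≤ k by omega)).trans h2
  rw [hk, pow_one] at h5
  have h7 := pow_card_eq_one' (x := (⟨x, hx⟩ : P3 F))
  rw [h5] at h7
  have h8 := congrArg Subtype.val h7
  rw [Subgroup.coe_pow, pow_succ, pow_two] at h8
  exact h8

/-- noncentral elements of `SS` have a fixed vector -/
theorem exists_fixed (h3 : (3 : F) ≠ 0) (h9 : ¬ 9 ∣ Nat.card F ^ 2 - 1) {n : SU F} (hn : n ∈ SS F)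
    (hnz : n ∉ zpowers (zz F)) : ∃ v : LL F × LL F × LL F, v ≠ 0 ∧ act (n : U3 F) ((0, v) : AA F) = (0, v) := by
  have hconj : ∀ d ∈ DD F, ∃ v : LL F × LL F × LL F, v ≠ 0 ∧
      act ((d * c0 F : SU F) : U3 F) ((0, v) : AA F) = (0, v) := by
    intro d hd
    obtain ⟨x', y', w', -, -, -, h7, h8⟩ := mem_DD.1 hd
    obtain ⟨g, hg, hgt⟩ := exists_conj h3 x' y' w' h7
    set v : LL F × LL F × LL F := (act (g : Matrix (Fin 3) (Fin 3) (LL F)) ((0, 1, 0, 0) : AA F)).2 with hv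
    have hgv : act (g : Matrix (Fin 3) (Fin 3) (LL F)) ((0, 1, 0, 0) : AA F) = (0, v) := rfl
    have ht : act ((tt F : U3 F) : Matrix (Fin 3) (Fin 3) (LL F)) ((0, 1, 0, 0) : AA F) = (0, 1, 0, 0) := by
      simp [act, tt, dg_coe]
    refine ⟨v, ?_, ?_⟩
    · intro h0
      rw [h0] at hgv
      have h10 := congrArg (act ((g⁻¹ : U3 F) : Matrix (Fin 3) (Fin 3) (LL F))) hgv
      rw [← act_mul] at h10
      have h11 : ((g⁻¹ : U3 F) : Matrix (Fin 3) (Fin 3) (LL F)) * (g : Matrix (Fin 3) (Fin 3) (LL F)) = 1 :=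
        congrArg Subtype.val (inv_mul_cancel g)
      rw [h11, act_one] at h10
      simp [act] at h10
    · have h12 : ((d * c0 F : SU F) : U3 F) = g * tt F * g⁻¹ := by
        rw [hgt, ← h8]; rfl
      rw [h12]
      change act ((g : Matrix (Fin 3) (Fin 3) (LL F)) * ((tt F : U3 F) : Matrix (Fin 3) (Fin 3) (LL F)) * ((g⁻¹ : U3 F) : Matrix (Fin 3) (Fin 3) (LL F)))
        (0, v) = (0, v)
      rw [act_mul, act_mul, ← hgv, ← act_mul _ (g : Matrix (Fin 3) (Fin 3) (LL F))]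
      have h11 : ((g⁻¹ : U3 F) : Matrix (Fin 3) (Fin 3) (LL F)) * (g : Matrix (Fin 3) (Fin 3) (LL F)) = 1 :=
        congrArg Subtype.val (inv_mul_cancel g)
      rw [h11, act_one, ht]
  obtain ⟨d, hd, rfl | rfl | rfl⟩ := mem_SS hn
  · obtain ⟨x, y, w, hx, hy, hw, hxyw, h⟩ := mem_DD.1 hd
    have cx := cube_root h3 (cube_of_not_nine h3 h9 hx)
    have cy := cube_root h3 (cube_of_not_nine h3 h9 hy)
    have cw := cube_root h3 (cube_of_not_nine h3 h9 hw)
    have hom : (omU : unitary (LL F)) ≠ 1 := fun h => om_ne_one (F := F) (congrArg Subtype.val h)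
    have key : x = 1 ∨ y = 1 ∨ w = 1 := by
      by_contra hcon
      push Not at hcon
      obtain ⟨k1, k2, k3⟩ := hcon
      have o3 : (omU : unitary (LL F)) * omU * omU = 1 := omU_cube
      rcases cx with cx | cx | cx
      · exact k1 cx
      · rcases cy with cy | cy | cy
        · exact k2 cy
        · rcases cw with cw | cw | cw
          · exact k3 cw
          · exact hnz (mem_zpowers_zz.2 ⟨omU, Or.inr (Or.inl rfl), by rw [h, cx, cy, cw]⟩)
          · apply hom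
            rw [cx, cy, cw, ← mul_assoc, o3, one_mul] at hxyw
            exact hxyw
        · rcases cw with cw | cw | cw
          · exact k3 cw
          · apply hom
            rw [cx, cy, cw, ← mul_assoc, o3, one_mul] at hxyw
            exact hxyw
          · apply k3
            rw [cx, cy, ← mul_assoc, o3, one_mul] at hxyw
            exact hxyw
      · rcases cy with cy | cy | cy
        · exact k2 cy
        · rw [cx, cy, o3, one_mul] at hxyw
          exact k3 hxyw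
        · rcases cw with cw | cw | cw
          · exact k3 cw
          · apply k1
            rw [cy, cw, mul_assoc, o3, mul_one] at hxyw
            exact hxyw
          · exact hnz (mem_zpowers_zz.2 ⟨omU * omU, Or.inr (Or.inr rfl), by rw [h, cx, cy, cw]⟩)
    rw [h]
    rcases key with k | k | k
    · refine ⟨(1, 0, 0), by simp, ?_⟩
      simp [act, dg_coe, k]
    · refine ⟨(0, 1, 0), by simp, ?_⟩
      simp [act, dg_coe, k]
    · refine ⟨(0, 0, 1), by simp, ?_⟩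
      simp [act, dg_coe, k]
  · exact hconj d hd
  · -- the inverse is of the second kind
    have hd' : c0 F * d⁻¹ * (c0 F)⁻¹ ∈ DD F := (mem_normalizer_iff.1 c0_normalizer _).1 (inv_mem hd)
    obtain ⟨v, hv, hfix⟩ := hconj _ hd'
    refine ⟨v, hv, ?_⟩
    have h4 : (c0 F * d⁻¹ * (c0 F)⁻¹ * c0 F) * (d * (c0 F * c0 F)) = 1 := by
      calc (c0 F * d⁻¹ * (c0 F)⁻¹ * c0 F) * (d * (c0 F * c0 F)) = c0 F * c0 F * c0 F := by group
        _ = 1 := c0_cube
    have h5 : (d * (c0 F * c0 F)) * (c0 F * d⁻¹ * (c0 F)⁻¹ * c0 F) = 1 := mul_eq_one_comm.1 h4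
    have h6 : (((d * (c0 F * c0 F) : SU F) : U3 F) : Matrix (Fin 3) (Fin 3) (LL F)) *
        (((c0 F * d⁻¹ * (c0 F)⁻¹ * c0 F : SU F) : U3 F) : Matrix (Fin 3) (Fin 3) (LL F)) = 1 :=
      congrArg (fun g : SU F => ((g : U3 F) : Matrix (Fin 3) (Fin 3) (LL F))) h5
    nth_rewrite 1 [← hfix]
    rw [← act_mul, h6, act_one]

/-- if `9 ∤ q² - 1`, the centre of the Sylow 3-subgroup is strongly closed -/
theorem center_closed (h3 : (3 : F) ≠ 0) (h9 : ¬ 9 ∣ Nat.card F ^ 2 - 1) (e : G ≃* Cfsg.Lie.G2 F) (S : Sylow 3 G) :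
    Cfsg.IsStronglyClosed ((S : Subgroup G) ⊓ centralizer ((S : Subgroup G) : Set G)) (S : Subgroup G) := by
  obtain ⟨κ, hκ, φ, hφ⟩ := exists_phi h3 e S
  have hfin := finite_LL (F := F)
  refine ⟨inf_le_left, ?_⟩
  intro x hx g hg
  by_cases hx1 : x = 1
  · rw [hx1, mul_one, mul_inv_cancel]; exact one_mem _
  have hmap := map_inf_centralizer φ (S : Subgroup G)
  rw [hφ, map_center h3 κ] at hmap
  obtain ⟨z, hz, hzx⟩ : φ x ∈ (zpowers (zz F)).map (rho κ) := by
    rw [← hmap]; exact ⟨x, hx, rfl⟩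
  obtain ⟨n, hn, hnx⟩ : φ (g * x * g⁻¹) ∈ (SS F).map (rho κ) := by
    rw [← hφ]; exact ⟨_, hg, rfl⟩
  by_cases hnz : n ∈ zpowers (zz F)
  · have h4 : φ (g * x * g⁻¹) ∈ ((S : Subgroup G) ⊓ centralizer ((S : Subgroup G) : Set G)).map φ.toMonoidHom := by
      rw [hmap, ← hnx]
      exact ⟨n, hnz, rfl⟩
    obtain ⟨y, hy, hy'⟩ := h4
    rwa [← φ.injective hy']
  exfalso
  -- fixed points
  let fx : GG κ → Set (AA F) := fun f => {v | (f : AA F ≃ₗ[F] AA F) v = v}
  have hconj : (fx (φ (g * x * g⁻¹))).ncard = (fx (φ x)).ncard := by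
    symm
    refine Set.ncard_congr (fun v _ => (φ g : AA F ≃ₗ[F] AA F) v) ?_ ?_ ?_
    · intro v hv
      change ((φ (g * x * g⁻¹) : GG κ) : AA F ≃ₗ[F] AA F) _ = _
      rw [map_mul, map_mul, map_inv]
      change (φ g : AA F ≃ₗ[F] AA F) ((φ x : AA F ≃ₗ[F] AA F) ((φ g : AA F ≃ₗ[F] AA F).symm
        ((φ g : AA F ≃ₗ[F] AA F) v))) = _
      rw [LinearEquiv.symm_apply_apply]
      exact congrArg _ hv
    · intro a b _ _ h
      exact (φ g : AA F ≃ₗ[F] AA F).injective h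
    · intro v hv
      refine ⟨(φ g : AA F ≃ₗ[F] AA F).symm v, ?_, LinearEquiv.apply_symm_apply _ _⟩
      have hv' : ((φ (g * x * g⁻¹) : GG κ) : AA F ≃ₗ[F] AA F) v = v := hv
      rw [map_mul, map_mul, map_inv] at hv'
      change (φ g : AA F ≃ₗ[F] AA F) ((φ x : AA F ≃ₗ[F] AA F) ((φ g : AA F ≃ₗ[F] AA F).symm v)) = v at hv'
      change (φ x : AA F ≃ₗ[F] AA F) ((φ g : AA F ≃ₗ[F] AA F).symm v) = (φ g : AA F ≃ₗ[F] AA F).symm v
      rw [LinearEquiv.eq_symm_apply]
      exact hv'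
  -- fixed points of `x`
  have hfx : fx (φ x) ⊆ Set.range (fun a : LL F => ((a, 0, 0, 0) : AA F)) := by
    intro v hv
    have hv' : (rho κ z : AA F ≃ₗ[F] AA F) v = v := by rw [hzx]; exact hv
    rw [rho_apply] at hv'
    obtain ⟨s, hs, hsz⟩ := mem_zpowers_zz.1 hz
    rw [hsz] at hv'
    have hs1 : s ≠ 1 := by
      rintro rfl
      apply hx1
      apply φ.injective
      rw [map_one, ← hzx]
      have : z = 1 := by
        apply Subtype.ext
        rw [hsz, dg_one]; rfl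
      rw [this, map_one]
    -- `s - 1` is invertible
    obtain ⟨u, hu⟩ : ∃ u : LL F, u * ((s : LL F) - 1) = 1 := by
      have hthree : (⟨3⁻¹, 0⟩ : LL F) * 3 = 1 := by
        have : (3 : LL F) = ⟨3, 0⟩ := by
          ext <;> rfl
        rw [this]
        ext <;> simp [h3]
      rcases hs with h | h | h
      · exact absurd h hs1
      · refine ⟨(⟨3⁻¹, 0⟩ : LL F) * (om * om - 1), ?_⟩
        rw [h]
        change (⟨3⁻¹, 0⟩ : LL F) * (om * om - 1) * (om - 1) = 1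
        linear_combination (⟨3⁻¹, 0⟩ : LL F) * (om - 2) * (om_sq (F := F)) + hthree
      · refine ⟨(⟨3⁻¹, 0⟩ : LL F) * (om - 1), ?_⟩
        rw [h]
        change (⟨3⁻¹, 0⟩ : LL F) * (om - 1) * (om * om - 1) = 1
        linear_combination (⟨3⁻¹, 0⟩ : LL F) * (om - 2) * (om_sq (F := F)) + hthree
    obtain ⟨a, v1, v2, v3⟩ := v
    simp [act, dg_coe] at hv'
    obtain ⟨e1, e2, e3⟩ := hv'
    have k1 : v1 = 0 := by linear_combination u * e1 - v1 * hu
    have k2 : v2 = 0 := by linear_combination u * e2 - v2 * hu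
    have k3 : v3 = 0 := by linear_combination u * e3 - v3 * hu
    exact ⟨a, by rw [k1, k2, k3]⟩
  obtain ⟨v, hv0, hv⟩ := exists_fixed h3 h9 hn hnz
  have hfy : Set.range (fun a : LL F => ((a, 0, 0, 0) : AA F)) ⊂ fx (φ (g * x * g⁻¹)) := by
    rw [Set.ssubset_iff_exists]
    refine ⟨?_, (0, v), ?_, ?_⟩
    · rintro _ ⟨a, rfl⟩
      change ((φ (g * x * g⁻¹) : GG κ) : AA F ≃ₗ[F] AA F) _ = _
      rw [← hnx, rho_apply]
      simp [act]
    · change ((φ (g * x * g⁻¹) : GG κ) : AA F ≃ₗ[F] AA F) _ = _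
      rw [← hnx, rho_apply]
      exact hv
    · rintro ⟨a, ha⟩
      exact hv0 (congrArg Prod.snd ha).symm
  have h10 := Set.ncard_lt_ncard hfy (Set.toFinite _)
  have h11 := Set.ncard_le_ncard hfx (Set.toFinite _)
  omega

end main

end Cfsg.Agent.H181.OctHerm
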