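import Mathlib
import Cfsg.Agent.H181.OctMain
import Cfsg.Agent.H792.SpCube

/-!
# The row `G₂(q)`, `p = 3` of the Flores–Foote theorem (helper181)
-/

set_option autoImplicit false

namespace Cfsg.Agent.H181.OctHerm

open Cfsg.Lie Subgroup

variable {F : Type*} [Field F] [Finite F] {G : Type*} [Group G] [Finite G]

/-- `9 ∤ q² - 1` : the normaliser of the Sylow 3-subgroup controls fusion -/
theorem nfus (h3 : (3 : F) ≠ 0) (h9 : ¬ 9 ∣ Nat.card F ^ 2 - 1) (e : G ≃* Cfsg.Lie.G2 F) :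
    Cfsg.Agent.H794.NFus 3 G := by
  have : Fact (Nat.Prime 3) := ⟨Nat.prime_three⟩
  obtain ⟨S⟩ : Nonempty (Sylow 3 G) := inferInstance
  have hcl := center_closed h3 h9 e S
  have hc := card_center h3 e S
  have hS := card_sylow_27 h3 e S h9
  set T := (S : Subgroup G) ⊓ centralizer ((S : Subgroup G) : Set G) with hT
  refine H792.SpCube.nfus_of_one S fun B hB g hg =>
    H792.SpCube.controls_of_card_cube S (by rw [hS]; norm_num) hcl hc ?_ ?_ hB hg
  · intro x
    rw [hT, mem_inf, mem_centralizer_iff]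
    rfl
  · -- `S / Z(S)` has order 9
    have hn : (T.subgroupOf (S : Subgroup G)).Normal := by
      refine ⟨fun n hn g => ?_⟩
      rw [mem_subgroupOf] at hn ⊢
      have h1 := mem_centralizer_iff.1 (mem_inf.1 hn).2 (g : G) g.2
      have h2 : ((g * n * g⁻¹ : (S : Subgroup G)) : G) = n := by
        rw [Subgroup.coe_mul, Subgroup.coe_mul, h1, Subgroup.coe_inv]
        group
      rw [h2]
      exact hn
    have hcq : Nat.card ((S : Subgroup G) ⧸ T.subgroupOf (S : Subgroup G)) = 3 ^ 2 := by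
      have h1 := Subgroup.card_mul_index (T.subgroupOf (S : Subgroup G))
      rw [Nat.card_congr (subgroupOfEquivOfLe (inf_le_left : T ≤ (S : Subgroup G))).toEquiv, hc, hS] at h1
      change Nat.card ((S : Subgroup G) ⧸ T.subgroupOf (S : Subgroup G)) = 9
      change 3 * Nat.card ((S : Subgroup G) ⧸ T.subgroupOf (S : Subgroup G)) = 27 at h1
      omega
    have hcomm := (IsPGroup.isMulCommutative_of_card_eq_prime_sq hcq).is_comm.comm
    intro a ha b hb
    have h1 := hcomm (QuotientGroup.mk (⟨a, ha⟩ : (S : Subgroup G))) (QuotientGroup.mk ⟨b, hb⟩)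
    rw [← QuotientGroup.mk_mul, ← QuotientGroup.mk_mul, eq_comm, QuotientGroup.eq, mem_subgroupOf] at h1
    have h2 : a * b * a⁻¹ * b⁻¹ ∈ T := by
      have h3 : (a * b) * ((b * a)⁻¹ * (a * b)) * (a * b)⁻¹ ∈ T := by
        have h4 := hn.conj_mem _ (mem_subgroupOf.2 h1) (⟨a, ha⟩ * ⟨b, hb⟩)
        exact h4
      have h5 : a * b * a⁻¹ * b⁻¹ = (a * b) * ((b * a)⁻¹ * (a * b)) * (a * b)⁻¹ := by group
      rw [h5]
      exact h3
    exact h2

/-- **The row `G₂(q)`, `p = 3`.** -/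
theorem row (h3 : (3 : F) ≠ 0) (e : G ≃* Cfsg.Lie.G2 F) :
    (9 ∣ Nat.card F ^ 2 - 1 ∧ ∀ (S : Sylow 3 G) (T : Subgroup G), Cfsg.IsStronglyClosed T (S : Subgroup G) →
      T = ⊥ ∨ T = S ∨ (T = (S : Subgroup G) ⊓ centralizer ((S : Subgroup G) : Set G) ∧ Nat.card T = 3)) ∨
    (¬ 9 ∣ Nat.card F ^ 2 - 1 ∧ Cfsg.Agent.H794.NFus 3 G) := by
  by_cases h9 : 9 ∣ Nat.card F ^ 2 - 1
  · left
    refine ⟨h9, fun S T hT => ?_⟩
    by_cases h1 : T = ⊥
    · exact Or.inl h1
    by_cases h2 : T = S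
    · exact Or.inr (Or.inl h2)
    exact Or.inr (Or.inr (closed h3 e S h9 hT h1 h2))
  · exact Or.inr ⟨h9, nfus h3 h9 e⟩

end Cfsg.Agent.H181.OctHerm
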