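import Cfsg.Agent.H181.AgemoFusion
import Cfsg.Agent.H181.OctRow
import Cfsg.Agent.H794.Full
import Cfsg.Agent.PLocal.ThompsonJA
import Cfsg.Agent.S3081
import Cfsg.Prelude.Def_Sporadic

/-!
# Reductions of S2229 and S2230 to the rows of the Flores–Foote theorem (helper181)

* `Exc p G` : the exceptions of S2229; `GTwo p G` : `p = 3`, `G ≅ G₂(q)`, `9 ∣ q² - 1`;
* `qd_of` : S2229 from `Full p G ∨ Exc p G ∨ GTwo p G`;
* `ExpZ p G` : the centres of Sylow `p`-subgroups have exponent dividing `p`;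
* `exp_of` : S2230 from `Full p G ∨ ExpZ p G`.
-/

set_option autoImplicit false

namespace Cfsg.Agent.H181.FFReduce

open Cfsg Subgroup Cfsg.Agent.H794 Cfsg.Agent.PLocal.ThompsonJA Cfsg.Agent.H181.AgemoFusion

variable {G : Type*} [Group G]

/-- The exceptions of S2229. -/
def Exc (p : ℕ) (G : Type*) [Group G] : Prop :=
  (∃ (K : Type) (_ : Field K) (_ : Fintype K) (n : ℕ), Fintype.card K = (p ^ n) ^ 2 ∧ Nonempty (G ≃* Cfsg.PSU 3 K (p ^ n))) ∨ (p = 3 ∧ Cfsg.IsRee G) ∨ (p = 3 ∧ ∃ (K : Type) (_ : Field K) (_ : Fintype K) (q : ℕ), Fintype.card K = q ∧ ((q ^ 2 - 1) % 9 = 3 ∨ (q ^ 2 - 1) % 9 = 6) ∧ Nonempty (G ≃* ↥(Cfsg.Lie.G2 K))) ∨ (p = 3 ∧ (Cfsg.IsJ2 G ∨ Cfsg.IsJ3 G)) ∨ (p = 5 ∧ (Cfsg.IsHS G ∨ Cfsg.IsMcL G ∨ Cfsg.IsCo2 G ∨ Cfsg.IsCo3 G)) ∨ (p = 11 ∧ Cfsg.IsJ4 G)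

/-- `p = 3` and `G ≅ G₂(q)` with `9 ∣ q² - 1`. -/
def GTwo (p : ℕ) (G : Type*) [Group G] : Prop :=
  p = 3 ∧ ∃ (F : Type) (_ : Field F) (_ : Fintype F), (3 : F) ≠ 0 ∧ 9 ∣ Nat.card F ^ 2 - 1 ∧
    Nonempty (G ≃* Cfsg.Lie.G2 F)

/-- The centres of nonabelian Sylow `p`-subgroups have exponent dividing `p`. -/
def ExpZ (p : ℕ) (G : Type*) [Group G] : Prop :=
  ∀ P : Sylow p G, ¬ IsMulCommutative (P : Subgroup G) →
    ∀ z ∈ (P : Subgroup G) ⊓ centralizer ((P : Subgroup G) : Set G), z ^ p = 1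

theorem conj_mem_center {P : Subgroup G} {m z : G} (hm : m ∈ normalizer (P : Set G))
    (hz : z ∈ P ⊓ centralizer (P : Set G)) : m * z * m⁻¹ ∈ P ⊓ centralizer (P : Set G) := by
  refine ⟨(mem_normalizer_iff.1 hm z).1 hz.1, mem_centralizer_iff.2 fun x hx => ?_⟩
  have h1 : m⁻¹ * x * m ∈ P := by
    have := (mem_normalizer_iff.1 (inv_mem hm) x).1 hx
    rwa [inv_inv] at this
  have h2 := mem_centralizer_iff.1 hz.2 _ h1
  calc x * (m * z * m⁻¹) = m * (m⁻¹ * x * m * z) * m⁻¹ := by group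
    _ = m * (z * (m⁻¹ * x * m)) * m⁻¹ := by rw [h2]
    _ = m * z * m⁻¹ * x := by group

variable [Finite G] {p : ℕ} [hp : Fact p.Prime]

theorem closed_agemoCenter (n : ℕ) (P : Sylow p G)
    (hcl : Subgroup.lowerCentralSeries (P : Subgroup G) (n * (p - 1) + 1) = ⊥) :
    IsStronglyClosed (agemoCenter n (P : Subgroup G) p) (P : Subgroup G) := by
  refine ⟨?_, ?_⟩
  · rintro _ ⟨z, hz, rfl⟩
    exact pow_mem hz.1 _
  · rintro _ ⟨z, hz, rfl⟩ g hg
    obtain ⟨m, hm, h⟩ := conj_agemo n P hcl hz hg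
    rw [h]
    refine ⟨m * z * m⁻¹, conj_mem_center hm hz, ?_⟩
    rw [conj_pow]

theorem one_le_of_nonab {n : ℕ} {P : Subgroup G} (hna : ¬ IsMulCommutative P)
    (hcl : Subgroup.lowerCentralSeries P (n * (p - 1) + 1) = ⊥) : 1 ≤ n := by
  by_contra h
  have h0 : n = 0 := by omega
  subst h0
  rw [zero_mul, zero_add] at hcl
  apply hna
  rw [PLocal.ThompsonJA.isMulCommutative_iff]
  intro x hx y hy
  have h1 : x * y * x⁻¹ * y⁻¹ ∈ Subgroup.lowerCentralSeries P 1 := by
    exact Subgroup.commutator_mem_commutator hx hy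
  rw [hcl, mem_bot] at h1
  have h2 : x * y * x⁻¹ = y := mul_inv_eq_one.1 h1
  exact mul_inv_eq_iff_eq_mul.1 h2

/-- If `Z(P)^{p^n} = Z(P)`, `n ≥ 1`, then `P = 1`. -/
theorem agemoCenter_ne {n : ℕ} (hn : 1 ≤ n) (P : Sylow p G) (hP : (P : Subgroup G) ≠ ⊥)
    (h : (P : Subgroup G) ⊓ centralizer ((P : Subgroup G) : Set G) ≤ agemoCenter n (P : Subgroup G) p) : False := by
  set Z := (P : Subgroup G) ⊓ centralizer ((P : Subgroup G) : Set G) with hZ
  have hsurj : Function.Surjective (fun z : Z => (⟨(z : G) ^ p ^ n, pow_mem z.2 _⟩ : Z)) := by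
    intro w
    obtain ⟨z, hz, hw⟩ := h w.2
    exact ⟨⟨z, hz⟩, Subtype.ext hw.symm⟩
  have hinj := Finite.injective_iff_surjective.2 hsurj
  have hZne : Z ≠ ⊥ := by
    intro h0
    have := centerThompsonAOf_ne_bot (P : Subgroup G) P.isPGroup' hP
    have : Nontrivial (P : Subgroup G) := (Subgroup.nontrivial_iff_ne_bot _).2 hP
    obtain ⟨z, hz, hz1⟩ := SetLike.exists_of_lt P.isPGroup'.bot_lt_center
    apply hz1
    have h2 : (z : G) ∈ Z := by
      refine ⟨z.2, mem_centralizer_iff.2 fun y hy => ?_⟩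
      exact congrArg Subtype.val (mem_center_iff.1 hz ⟨y, hy⟩)
    rw [h0, mem_bot] at h2
    rw [mem_bot]
    exact Subtype.ext h2
  have hZp : IsPGroup p Z := P.isPGroup'.to_le inf_le_left
  have hdvd : p ∣ Nat.card Z := by
    obtain ⟨k, hk⟩ := IsPGroup.iff_card.1 hZp
    rw [hk]
    refine dvd_pow_self p ?_
    rintro rfl
    rw [pow_zero, Subgroup.card_eq_one] at hk
    exact hZne hk
  obtain ⟨z, hz⟩ := exists_prime_orderOf_dvd_card' p hdvd
  have h1 : z = 1 := by
    apply hinj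
    apply Subtype.ext
    have h3 : (z : G) ^ p = 1 := by
      rw [← Subgroup.coe_pow, ← hz, pow_orderOf_eq_one]
      rfl
    obtain ⟨j, rfl⟩ : ∃ j, n = j + 1 := ⟨n - 1, by omega⟩
    simp only [pow_succ', pow_mul, h3, one_pow, OneMemClass.coe_one]
  rw [h1, orderOf_one] at hz
  exact hp.out.one_lt.ne hz

theorem ne_bot_of_nonab {P : Subgroup G} (hna : ¬ IsMulCommutative P) : P ≠ ⊥ := by
  rintro rfl
  apply hna
  rw [PLocal.ThompsonJA.isMulCommutative_iff]
  intro x hx y hy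
  rw [mem_bot] at hx hy
  rw [hx, hy]

/-- **S2230** for groups with `Full p G` or `ExpZ p G`. -/
theorem exp_of (hrow : Full p G ∨ ExpZ p G) (n : ℕ) (P : Sylow p G)
    (hna : ¬ IsMulCommutative ↥(P : Subgroup G))
    (hcl : Subgroup.lowerCentralSeries (P : Subgroup G) (n * (p - 1) + 1) = ⊥) :
    ∀ z ∈ (P : Subgroup G) ⊓ Subgroup.centralizer ((P : Subgroup G) : Set G), z ^ (p ^ n) = 1 := by
  intro z hz
  have hn := one_le_of_nonab hna hcl
  rcases hrow with h | h
  · rcases h P _ (closed_agemoCenter n P hcl) with h1 | h1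
    · have h2 : z ^ p ^ n ∈ agemoCenter n (P : Subgroup G) p := ⟨z, hz, rfl⟩
      rw [h1, mem_bot] at h2
      exact h2
    · exact (agemoCenter_ne hn P (ne_bot_of_nonab hna) (by rw [h1]; exact inf_le_left)).elim
  · obtain ⟨j, rfl⟩ : ∃ j, n = j + 1 := ⟨n - 1, by omega⟩
    rw [pow_succ', pow_mul, h P hna z hz, one_pow]

theorem closed_zj (hp2 : p ≠ 2) (P : Sylow p G) (hqd : ¬ Cfsg.Involves ↥(Cfsg.qd p) G) :
    IsStronglyClosed (centerThompsonAOf (P : Subgroup G)) (P : Subgroup G) := by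
  refine ⟨centerThompsonAOf_le _, fun x hx g hg => ?_⟩
  obtain ⟨-, h⟩ := (Cfsg.Agent.S3081.result hp2 P (P : Subgroup G) ⟨le_rfl, fun _ _ _ h => h⟩ hqd).1 {x}
    (by
      intro y hy
      rw [Set.mem_singleton_iff] at hy
      subst hy
      exact centerThompsonAOf_le _ hx)
  obtain ⟨m, hm, h1⟩ := h g (by
    rintro _ ⟨y, hy, rfl⟩
    rw [Set.mem_singleton_iff] at hy
    subst hy
    exact hg)
  rw [h1 x (Set.mem_singleton x)]
  exact (mem_normalizer_iff.1 hm x).1 hx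

/-- If the `3`-group `S` has an abelian subgroup of index `3` and order at least `81`, then `Z(J(S))` has order at
least `27`. -/
theorem card_zj {S D : Subgroup G} (hS3 : IsPGroup 3 S) (hS : ¬ IsMulCommutative S) (hDS : D ≤ S)
    (hD : IsMulCommutative D) (hi : Nat.card S = 3 * Nat.card D) (hc : 81 ≤ Nat.card D) :
    27 ≤ Nat.card (centerThompsonAOf S) := by
  have h3 : Fact (Nat.Prime 3) := ⟨Nat.prime_three⟩
  have hrel : ∀ B : Subgroup G, B ≤ S → B ≠ S → 3 ≤ B.relIndex S := by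
    intro B hB hne
    obtain ⟨k, hk⟩ := IsPGroup.iff_card.1 hS3
    have h1 : B.relIndex S ∣ 3 ^ k := by
      rw [← hk]
      exact relIndex_dvd_card _ _
    obtain ⟨j, -, hj⟩ := (Nat.dvd_prime_pow Nat.prime_three).1 h1
    rw [hj]
    rcases Nat.eq_zero_or_pos j with rfl | h
    · rw [pow_zero, relIndex_eq_one] at hj
      exact (hne (le_antisymm hB hj)).elim
    · calc 3 = 3 ^ 1 := rfl
        _ ≤ 3 ^ j := Nat.pow_le_pow_right (by norm_num) h
  have hcard : ∀ B : Subgroup G, B ≤ S → Nat.card B * B.relIndex S = Nat.card S := by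
    intro B hB
    rw [← relIndex_bot_left B, relIndex_mul_relIndex _ _ _ bot_le hB, relIndex_bot_left]
  have hmax : D ∈ maxAbelianIn S := by
    refine ⟨hDS, hD, fun B hB hBc => ?_⟩
    have h1 := hrel B hB (by rintro rfl; exact hS hBc)
    have h2 := hcard B hB
    nlinarith [Nat.mul_le_mul_left (Nat.card B) h1]
  by_cases hall : ∀ A ∈ maxAbelianIn S, A = D
  · have h1 : thompsonSubgroupAOf S = D := by
      rw [thompsonSubgroupAOf_eq_sSup]
      apply le_antisymm
      · exact sSup_le fun A hA => (hall A hA).le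
      · exact le_sSup hmax
    have h2 : centerThompsonAOf S = D := by
      change thompsonSubgroupAOf S ⊓ centralizer (thompsonSubgroupAOf S : Set G) = D
      rw [h1]
      refine inf_eq_left.2 fun x hx => mem_centralizer_iff.2 fun y hy => ?_
      exact (PLocal.ThompsonJA.isMulCommutative_iff D).1 hD y hy x hx
    rw [h2]
    omega
  · push Not at hall
    obtain ⟨A, hA, hne⟩ := hall
    have hAD : Nat.card A = Nat.card D := le_antisymm (hmax.2.2 A hA.1 hA.2.1) (hA.2.2 D hDS hD)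
    have hsup : A ⊔ D = S := by
      by_contra hcon
      have h1 : A ⊔ D ≤ S := sup_le hA.1 hDS
      have h2 := hrel _ h1 hcon
      have h4 := hcard _ h1
      have h5 : Nat.card (A ⊔ D : Subgroup G) ≤ Nat.card D := by
        nlinarith [Nat.mul_le_mul_left (Nat.card (A ⊔ D : Subgroup G)) h2]
      have h6 : D = A ⊔ D := Subgroup.eq_of_le_of_card_ge le_sup_right h5
      have h7 : A ≤ D := h6 ▸ le_sup_left
      exact hne (Subgroup.eq_of_le_of_card_ge h7 hAD.ge)
    have hz : A ⊓ D ≤ centerThompsonAOf S := by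
      refine le_trans ?_ (inf_centralizer_le_centerThompsonAOf S)
      refine le_inf (inf_le_left.trans hA.1) ?_
      rw [← hsup, Subgroup.le_centralizer_iff]
      refine sup_le ?_ ?_
      · intro x hx
        exact mem_centralizer_iff.2 fun y hy => (PLocal.ThompsonJA.isMulCommutative_iff A).1 hA.2.1 y hy.1 x hx
      · intro x hx
        exact mem_centralizer_iff.2 fun y hy => (PLocal.ThompsonJA.isMulCommutative_iff D).1 hD y hy.2 x hx
    have h1 : 27 ≤ Nat.card (A ⊓ D : Subgroup G) := by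
      have h2 : Nat.card (A ⊓ D : Subgroup G) * (A ⊓ D).relIndex D = Nat.card D := by
        rw [← relIndex_bot_left (A ⊓ D), relIndex_mul_relIndex _ _ _ bot_le inf_le_right, relIndex_bot_left]
      rw [inf_relIndex_right] at h2
      have h4 : A.relIndex D ≤ A.relIndex S := relIndex_le_of_le_right hDS (by
        have := hcard A hA.1
        intro h0
        rw [h0, mul_zero] at this
        exact Nat.card_pos.ne this)
      have h5 : A.relIndex S = 3 := by
        have := hcard A hA.1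
        rw [hAD, hi, mul_comm 3] at this
        exact Nat.eq_of_mul_eq_mul_left (by omega) this
      rw [h5] at h4
      nlinarith [Nat.mul_le_mul_left (Nat.card (A ⊓ D : Subgroup G)) h4]
    exact h1.trans (Nat.card_le_card_of_injective _ (Subgroup.inclusion_injective hz))

/-- **S2229** from the rows. -/
theorem qd_of (hp2 : p ≠ 2) (hrow : Full p G ∨ Exc p G ∨ GTwo p G) (P : Sylow p G)
    (hP : ¬ IsMulCommutative ↥(P : Subgroup G)) : Cfsg.Involves ↥(Cfsg.qd p) G ∨ Exc p G := by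
  by_contra hcon
  push Not at hcon
  obtain ⟨hqd, hexc⟩ := hcon
  have hcl := closed_zj hp2 P hqd
  have hb : centerThompsonAOf (P : Subgroup G) ≠ ⊥ :=
    centerThompsonAOf_ne_bot _ P.isPGroup' (ne_bot_of_nonab hP)
  have hne : centerThompsonAOf (P : Subgroup G) ≠ (P : Subgroup G) := by
    intro h
    apply hP
    rw [← h]
    exact isMulCommutative_centerThompsonAOf _
  rcases hrow with h | h | ⟨rfl, F, _, _, h3, h9, ⟨e⟩⟩
  · rcases h P _ hcl with h | h
    · exact hb h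
    · exact hne h
  · exact hexc h
  · obtain ⟨-, h1⟩ := OctHerm.closed h3 e P h9 hcl hb hne
    obtain ⟨D, hD1, hD2, hD3, hD4⟩ := OctHerm.exists_abelian h3 e P
    have h2 := card_zj P.isPGroup' hP hD1 ((PLocal.ThompsonJA.isMulCommutative_iff D).2 hD2) hD3 (hD4 h9)
    rw [h1] at h2
    norm_num at h2

/-- `G₂(q)` : the centre of a Sylow `3`-subgroup has order `3`. -/
theorem expZ_g2 {F : Type*} [Field F] [Finite F] (h3 : (3 : F) ≠ 0) (e : G ≃* Cfsg.Lie.G2 F) : ExpZ 3 G := by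
  intro P _ z hz
  have h1 := OctHerm.card_center h3 e P
  have h2 := pow_card_eq_one' (G := ((P : Subgroup G) ⊓ centralizer ((P : Subgroup G) : Set G) : Subgroup G))
    (x := ⟨z, hz⟩)
  have h4 := congrArg Subtype.val h2
  rw [h1] at h4
  exact h4

theorem expZ_gTwo (h : GTwo p G) : ExpZ p G := by
  obtain ⟨rfl, F, _, _, h3, h9, ⟨e⟩⟩ := h
  exact expZ_g2 h3 e

end Cfsg.Agent.H181.FFReduce
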