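import Cfsg.Agent.H181.FFExc
import Cfsg.Agent.H792.FF
import Cfsg.Agent.H790.RestFive

/-!
# The rows of S2229 and S2230 for all known simple groups (helper181)

`odd_row` : `G` a known simple group, `p` odd: `Row p G` (every strongly closed subgroup is trivial, or `G` is one of the
exceptions), or the Sylow `p`-subgroups are abelian, or `p = 13` and `G` is the Monster.
-/

set_option autoImplicit false
set_option linter.unusedSectionVars false

namespace Cfsg.Agent.H181.FFReduce

open Cfsg Subgroup Cfsg.Agent.H794 Cfsg.Agent.H749 Cfsg.Agent.H792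

universe u

/-- the outcome -/
def ROut (p : ℕ) (G : Type*) [Group G] : Prop :=
  Row p G ∨ (∀ S : Sylow p G, IsMulCommutative (S : Subgroup G)) ∨ (p = 13 ∧ Cfsg.Spor.IsoM G)

section
variable {p : ℕ} [hp : Fact p.Prime] {G : Type u} [Group G] [Finite G]

theorem ROut.full (h : FullP p G) : ROut p G := Or.inl (Or.inl (SpTool.full_of_fullP h))

theorem ROut.exc (h : ExcS p G) : ROut p G := Or.inl (Or.inr (Or.inl h))

theorem ROut.ab (h : ∀ P : Subgroup G, IsPGroup p P → ∀ a ∈ P, ∀ b ∈ P, a * b = b * a) : ROut p G :=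
  Or.inr (Or.inl fun S => ⟨⟨fun a b => Subtype.ext (h S S.isPGroup' a a.2 b b.2)⟩⟩)

theorem ROut.dich (h : Dich p G) : ROut p G := by
  rcases h with h | h
  · exact ROut.full h
  · exact ROut.ab h

theorem ROut.char [IsSimpleGroup G] (hp2 : p ≠ 2) (hna : ¬ IsMulCommutative G) (h : IsLieTypeChar p G) : ROut p G := by
  rcases H794.DefAb.def_row hp2 hna h with h | ⟨-, ⟨F, i1, i2, i3, q, hF, -, ⟨e⟩⟩ | ⟨rfl, hr⟩⟩
  · exact Or.inl (Or.inl h)
  · refine ROut.exc (Or.inl ?_)
    obtain ⟨n, hpn, hn⟩ := FiniteField.card F p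
    have h1 : ∃ m, q = p ^ m := by
      have h2 : q ∣ p ^ (n : ℕ) := by
        rw [← hn, hF]
        exact dvd_pow_self q (by norm_num)
      obtain ⟨m, -, hm⟩ := (Nat.dvd_prime_pow hp.out).1 h2
      exact ⟨m, hm⟩
    obtain ⟨m, rfl⟩ := h1
    exact ⟨F, i1, i2, m, hF, ⟨e⟩⟩
  · exact ROut.exc (Or.inr (Or.inl ⟨rfl, hr⟩))

theorem ROut.exceptional [IsSimpleGroup G] (hp2 : p ≠ 2) (hna : ¬ IsMulCommutative G) (h : IsExceptionalLieType G) :
    ROut p G := by
  by_cases hp3 : p = 3
  · subst hp3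
    rcases H629.ExcFinal.exc_three h with h | h | h | h
    · exact ROut.full h
    · exact ROut.char hp2 hna (FF.isLieTypeChar_of_excChar h)
    · exact ROut.full (SpTool.fullP_of_card fun h9 =>
        Omega.EH3.Rank1.not_three_dvd h ((by norm_num : (3 : ℕ) ∣ 3 ^ 2).trans h9))
    · rcases h with ⟨F, h3, h, ⟨e⟩⟩ | ⟨K, q, hq, hK, h, ⟨e⟩⟩ | h | h | h
      · obtain ⟨f⟩ := H638.G2Iso.equiv (F := F)
        have h30 : (3 : F) ≠ 0 := H629.ExcFinal.ne_zero_of_not_dvd h
        by_cases h9 : 9 ∣ Nat.card F ^ 2 - 1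
        · exact Or.inl (Or.inr (Or.inr ⟨rfl, F, inferInstance, inferInstance, h30, h9, ⟨e.trans f.symm⟩⟩))
        · exact ROut.exc (Or.inr (Or.inr (Or.inl ⟨rfl, F, inferInstance, inferInstance, h30, h9, ⟨e.trans f.symm⟩⟩)))
      · have h30 : (3 : K) ≠ 0 := by
          refine H629.ExcFinal.ne_zero_of_not_dvd fun hd => h ?_
          rw [hK] at hd
          exact Nat.prime_three.dvd_of_dvd_pow hd
        exact ROut.full ((H790.TriMain.fullP_twD4 h30 hq hK).of_mulEquiv e.symm)
      · exact ROut.char hp2 hna (by unfold IsLieTypeChar; tauto)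
      · exact ROut.full (H760.TwFFull.fullP_twF4_three h)
      · exact ROut.full (H761.TitsFull.fullP_tits_three h)
  · have h5 : 5 ≤ p := by
      have h2 := hp.out.two_le
      have h4 : p ≠ 4 := by
        rintro rfl
        exact absurd hp.out (by norm_num)
      omega
    rcases H629.ExcFinal.exc_five h h5 with h | h | h | h
    · exact ROut.ab h
    · exact ROut.char hp2 hna (FF.isLieTypeChar_of_excChar h)
    · exact ROut.full h
    · exact ROut.full (H790.RestFive.rest_five h)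

theorem ROut.spor [IsSimpleGroup G] (hp2 : p ≠ 2) (h : IsSporadicGroup G) : ROut p G := by
  rcases SpAll.spor_rows_odd h hp2 with h | ⟨h, -⟩ | ⟨rfl, h, -⟩ | h
  · exact ROut.full h
  · rcases h with ⟨rfl, h⟩ | ⟨rfl, h⟩ | ⟨rfl, h⟩ | h
    · exact ROut.exc (Or.inr (Or.inr (Or.inr (Or.inl ⟨rfl, Or.inl ⟨inferInstance, NotCT.Orders.j2 h⟩⟩))))
    · refine ROut.exc (Or.inr (Or.inr (Or.inr (Or.inr (Or.inl ⟨rfl, ?_⟩)))))
      rcases h with h | h | h | h
      · exact Or.inr (Or.inr (Or.inl ⟨inferInstance, NotCT.Orders.co2 h⟩))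
      · exact Or.inr (Or.inr (Or.inr ⟨inferInstance, NotCT.Orders.co3 h⟩))
      · exact Or.inl ⟨inferInstance, NotCT.Orders.hs h⟩
      · exact Or.inr (Or.inl ⟨inferInstance, NotCT.Orders.mcl h⟩)
    · exact ROut.exc (Or.inr (Or.inr (Or.inr (Or.inr (Or.inr ⟨rfl, inferInstance, NotCT.Orders.j4 h⟩)))))
    · exact Or.inr (Or.inr h)
  · exact ROut.exc (Or.inr (Or.inr (Or.inr (Or.inl ⟨rfl, Or.inr h⟩))))
  · exact Or.inr (Or.inl h)

/-- **The rows, `p` odd.** -/
theorem odd_row [IsSimpleGroup G] (hp2 : p ≠ 2) (hna : ¬ IsMulCommutative G) (hK : IsKnownSimple' G) : ROut p G := by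
  rcases hK with h | h | h | h | h | h | h | h | h | h
  · have hf : Fact (Nat.card G).Prime := ⟨h⟩
    have hc : IsCyclic G := isCyclic_of_prime_card rfl
    exact absurd (IsCyclic.isMulCommutative (α := G)) hna
  · exact Or.inl (Or.inl (H794.full_alt hp2 h))
  · rcases row_classical hp2 (Or.inl h) with h | h
    · exact ROut.char hp2 hna h
    · exact ROut.dich h
  · rcases row_classical hp2 (Or.inr (Or.inl h)) with h | h
    · exact ROut.char hp2 hna h
    · exact ROut.dich h
  · rcases row_classical hp2 (Or.inr (Or.inr (Or.inl h))) with h | h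
    · exact ROut.char hp2 hna h
    · exact ROut.dich h
  · rcases row_classical hp2 (Or.inr (Or.inr (Or.inr (Or.inl h)))) with h | h
    · exact ROut.char hp2 hna h
    · exact ROut.dich h
  · rcases row_classical hp2 (Or.inr (Or.inr (Or.inr (Or.inr (Or.inl h))))) with h | h
    · exact ROut.char hp2 hna h
    · exact ROut.dich h
  · rcases row_classical hp2 (Or.inr (Or.inr (Or.inr (Or.inr (Or.inr h))))) with h | h
    · exact ROut.char hp2 hna h
    · exact ROut.dich h
  · exact ROut.exceptional hp2 hna h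
  · exact ROut.spor hp2 h

end

end Cfsg.Agent.H181.FFReduce
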