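import Mathlib

/-!
# An element of prime order `r` larger than the dimension centralises the abelian groups it normalises

`ρ` a representation of `G` on a space of dimension `< r`, `A` a finite abelian subgroup of `G` of order not divisible
by the characteristic, `x` of prime order `r` normalising `A`: then `ρ (x⁻¹ a x) = ρ a` for `a ∈ A`.
-/

set_option autoImplicit false

namespace Cfsg.Agent.H181.LinComm

open Module

/-- A map of prime order `r` on a set of fewer than `r` elements is the identity. -/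
theorem eq_self_of_iterate {T : Type*} [Finite T] {r : ℕ} (hr : r.Prime) (hT : Nat.card T < r)
    (F : T → T) (hF : ∀ t, F^[r] t = t) (t : T) : F t = t := by
  classical
  have := Fintype.ofFinite T
  have hbij : Function.Bijective F := by
    have hinj : Function.Injective F := by
      intro a b hab
      have h1 : F^[r - 1] (F a) = F^[r - 1] (F b) := by rw [hab]
      rw [← Function.iterate_succ_apply, ← Function.iterate_succ_apply] at h1
      have h2 : (r - 1).succ = r := by have := hr.pos; omega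
      rwa [h2, hF, hF] at h1
    exact ⟨hinj, Finite.surjective_of_injective hinj⟩
  set σ : Equiv.Perm T := Equiv.ofBijective F hbij with hσ
  have hpow : ∀ (n : ℕ) (s : T), (σ ^ n) s = F^[n] s := by
    intro n
    induction n with
    | zero => intro s; rfl
    | succ n ih =>
      intro s
      rw [pow_succ, Equiv.Perm.mul_apply, ih, Function.iterate_succ_apply]
      rfl
  have h1 : σ ^ r = 1 := by
    ext s
    rw [hpow, hF]; rfl
  have h2 : orderOf σ ∣ r := orderOf_dvd_of_pow_eq_one h1
  rcases (Nat.dvd_prime hr).1 h2 with h3 | h3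
  · have h4 : σ = 1 := orderOf_eq_one_iff.1 h3
    have : σ t = t := by rw [h4]; rfl
    exact this
  · exfalso
    have h4 : orderOf σ ∣ Fintype.card (Equiv.Perm T) := orderOf_dvd_card
    rw [h3, Fintype.card_perm] at h4
    have h5 := (hr.dvd_factorial).1 h4
    rw [Nat.card_eq_fintype_card] at hT
    omega

theorem main {K V G : Type*} [Field K] [IsAlgClosed K] [AddCommGroup V] [Module K V]
    [FiniteDimensional K V] [Group G] (ρ : G →* Module.End K V) (A : Subgroup G) [Finite A]
    (hcomm : ∀ a ∈ A, ∀ b ∈ A, a * b = b * a) (hcop : ((Nat.card A : ℕ) : K) ≠ 0) {x : G} {r : ℕ}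
    (hr : r.Prime) (hxr : x ^ r = 1) (hdim : finrank K V < r) (hx : ∀ a ∈ A, x⁻¹ * a * x ∈ A) :
    ∀ a ∈ A, ρ (x⁻¹ * a * x) = ρ a := by
  classical
  set f : A → Module.End K V := fun a => ρ a with hf
  have hss : ∀ a : A, (f a).IsSemisimple := by
    intro a
    have hN : (a : G) ^ Nat.card A = 1 := by
      have := pow_card_eq_one' (x := a)
      rw [← Subgroup.coe_pow, this, Subgroup.coe_one]
    have h1 : (Polynomial.X ^ Nat.card A - 1 : Polynomial K).Separable :=
      Polynomial.X_pow_sub_one_separable_iff.2 hcop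
    refine Module.End.isSemisimple_of_squarefree_aeval_eq_zero h1.squarefree ?_
    rw [map_sub, map_pow, Polynomial.aeval_X, map_one, ← map_pow, hN, map_one, sub_self]
  set W : (A → K) → Submodule K V := fun χ => ⨅ a, (f a).maxGenEigenspace (χ a) with hW
  have hmem : ∀ (χ : A → K) (v : V), v ∈ W χ ↔ ∀ a : A, ρ a v = χ a • v := by
    intro χ v
    simp only [hW, Submodule.mem_iInf]
    refine forall_congr' fun a => ?_
    rw [(hss a).isFinitelySemisimple.maxGenEigenspace_eq_eigenspace, Module.End.mem_eigenspace_iff]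
  have hcm : ∀ a b : A, Commute (f a) (f b) := by
    intro a b
    show ρ a * ρ b = ρ b * ρ a
    rw [← map_mul, ← map_mul, hcomm a a.2 b b.2]
  have htop : ⨆ χ, W χ = ⊤ :=
    Module.End.iSup_iInf_maxGenEigenspace_eq_top_of_iSup_maxGenEigenspace_eq_top_of_commute f
      (fun a b _ => hcm a b) (fun a => Module.End.iSup_maxGenEigenspace_eq_top _)
  have hind : iSupIndep W :=
    Module.End.independent_iInf_maxGenEigenspace_of_forall_mapsTo f
      (fun a b φ => Module.End.mapsTo_maxGenEigenspace_of_comm (hcm b a) φ)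
  have hfin : Finite {χ // W χ ≠ ⊥} := (WellFoundedGT.finite_ne_bot_of_iSupIndep hind).to_subtype
  have := Fintype.ofFinite {χ // W χ ≠ ⊥}
  have hcard : Nat.card {χ // W χ ≠ ⊥} < r := by
    rw [Nat.card_eq_fintype_card]
    exact lt_of_le_of_lt hind.subtype_ne_bot_le_finrank hdim
  -- conjugation
  set c : A → A := fun a => ⟨x⁻¹ * a * x, hx a a.2⟩ with hc
  have hcr : ∀ (n : ℕ) (a : A), ((c^[n] a : A) : G) = (x ^ n)⁻¹ * a * x ^ n := by
    intro n
    induction n with
    | zero => intro a; simp
    | succ n ih =>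
      intro a
      rw [Function.iterate_succ_apply', hc]
      show x⁻¹ * ((c^[n] a : A) : G) * x = _
      rw [ih, pow_succ]
      group
  have hcr' : c^[r] = id := by
    funext a
    apply Subtype.ext
    rw [hcr, hxr]
    simp
  have hstep : ∀ (χ : A → K) (v : V), v ∈ W χ → ρ x v ∈ W (χ ∘ c) := by
    intro χ v hv
    rw [hmem] at hv ⊢
    intro a
    have h1 : ρ (a : G) (ρ x v) = ρ x (ρ (x⁻¹ * a * x) v) := by
      rw [← Module.End.mul_apply, ← Module.End.mul_apply, ← map_mul, ← map_mul]
      congr 2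
      group
    rw [h1]
    have h2 := hv (c a)
    have h3 : ((c a : A) : G) = x⁻¹ * a * x := rfl
    rw [h3] at h2
    rw [h2, map_smul]
    rfl
  have hne : ∀ χ, W χ ≠ ⊥ → W (χ ∘ c) ≠ ⊥ := by
    intro χ hχ
    obtain ⟨v, hv, hv0⟩ := Submodule.exists_mem_ne_zero_of_ne_bot hχ
    intro hbot
    have h1 := hstep χ v hv
    rw [hbot, Submodule.mem_bot] at h1
    apply hv0
    have h2 : ρ x⁻¹ (ρ x v) = v := by
      rw [← Module.End.mul_apply, ← map_mul, inv_mul_cancel, map_one, Module.End.one_apply]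
    rw [← h2, h1, map_zero]
  set Fm : {χ // W χ ≠ ⊥} → {χ // W χ ≠ ⊥} := fun χ => ⟨χ.1 ∘ c, hne χ.1 χ.2⟩ with hFm
  have hFit : ∀ (n : ℕ) (χ : {χ // W χ ≠ ⊥}), (Fm^[n] χ).1 = χ.1 ∘ c^[n] := by
    intro n
    induction n with
    | zero => intro χ; rfl
    | succ n ih =>
      intro χ
      rw [Function.iterate_succ_apply, ih, Function.iterate_succ']
      rfl
  have hfix : ∀ χ, W χ ≠ ⊥ → χ ∘ c = χ := by
    intro χ hχ
    have h1 := eq_self_of_iterate hr hcard Fm
      (fun t => Subtype.ext (by rw [hFit, hcr']; rfl)) ⟨χ, hχ⟩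
    exact congrArg Subtype.val h1
  intro a ha
  have hle : (⊤ : Submodule K V) ≤ LinearMap.eqLocus (ρ (x⁻¹ * a * x)) (ρ a) := by
    rw [← htop]
    refine iSup_le fun χ => ?_
    by_cases hχ : W χ = ⊥
    · rw [hχ]; exact bot_le
    · intro v hv
      rw [LinearMap.mem_eqLocus]
      have h1 := (hmem χ v).1 hv ⟨a, ha⟩
      have h2 := (hmem χ v).1 hv (c ⟨a, ha⟩)
      have h3 : ((c ⟨a, ha⟩ : A) : G) = x⁻¹ * a * x := rfl
      rw [h3] at h2
      have h4 : χ (c ⟨a, ha⟩) = χ ⟨a, ha⟩ := congrFun (hfix χ hχ) ⟨a, ha⟩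
      rw [h2, h4, ← h1]
  exact LinearMap.ext fun v => hle (Submodule.mem_top : v ∈ ⊤)

end Cfsg.Agent.H181.LinComm
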