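import Cfsg.Agent.H794.MonCube
import Cfsg.Agent.H573.Spor.Base

/-!
# Sylow subgroups of order `p ^ 3` whose centre is not strongly closed (helper181)

`MonCube.Hyp p x z Q` and an involution `t` inverting `x` and conjugate to `z`: `FullP p G`, or the Sylow `p`-subgroups are
abelian.
-/

set_option autoImplicit false

namespace Cfsg.Agent.H181.MonClose

open Subgroup Cfsg Cfsg.Agent.H794 Cfsg.Agent.H794.MonCore

universe u

variable {G : Type u} [Group G] [Finite G] {p : ℕ} [hp : Fact p.Prime] {x z : G} {Q : Subgroup G}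

/-- a `t`-invariant Sylow subgroup of `G` in `C(x)` -/
theorem exists_inv_sylow (h : MonCube.Hyp p x z Q) {t : G} (htt : t * t = 1) (htx : t * x * t⁻¹ = x⁻¹) :
    ∃ R : Subgroup G, IsPGroup p ↥R ∧ x ∈ R ∧ (∀ r ∈ R, r * x = x * r) ∧ (∀ r ∈ R, t * r * t⁻¹ ∈ R) ∧
      Nat.card ↥R = p ^ 3 := by
  obtain ⟨R, hRp, hxR, hRx, hQR, hRc, -⟩ := h.exists_R
  have hxo : Odd (orderOf x) := by rw [h.hx]; exact hp.out.odd_of_ne_two h.hp2
  obtain ⟨N, hN⟩ := exists_cfg h.hz hxo h.zx h.only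
  have hti : t⁻¹ = t := inv_eq_of_mul_eq_one_left htt
  have htx' : t⁻¹ * x * t = x⁻¹ := by
    rw [hti]
    have := htx
    rwa [hti] at this
  -- `p ^ 3` divides `|N|`
  have hcx : p ^ 3 ∣ Nat.card ↥(centralizer ({x} : Set G)) := by
    rw [← hRc]
    exact Subgroup.card_dvd_of_le fun r hr => mem_centralizer_singleton_iff.2 (hRx r hr)
  have hcard := hN.card_cent
  have hpB : p ∣ Nat.card ↥(N ⊓ (centralizer ({x} : Set G) ⊓ centralizer ({z} : Set G))) := by
    rw [← h.hx, ← Nat.card_zpowers]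
    refine Subgroup.card_dvd_of_le (zpowers_le.2 (mem_inf.2 ⟨hN.mem, mem_inf.2 ⟨mem_centralizer_singleton_iff.2 rfl,
      mem_centralizer_singleton_iff.2 h.zx.symm⟩⟩))
  have hpN : p ^ 3 ∣ Nat.card ↥N := by
    have h1 : p ^ 4 ∣ Nat.card ↥N * Nat.card ↥(centralizer ({x} : Set G) ⊓ centralizer ({z} : Set G)) := by
      rw [← hcard, pow_succ]
      exact Nat.mul_dvd_mul hcx hpB
    have h2 : ¬ p ^ 2 ∣ Nat.card ↥(centralizer ({x} : Set G) ⊓ centralizer ({z} : Set G)) := fun h3 =>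
      h.cz (h3.trans (Subgroup.card_dvd_of_le inf_le_right))
    by_contra hcon
    obtain ⟨a, ha, hae⟩ := Nat.exists_eq_pow_mul_and_not_dvd (n := Nat.card ↥N) Nat.card_pos.ne' p hp.out.ne_one
    obtain ⟨b, hb, hbe⟩ := Nat.exists_eq_pow_mul_and_not_dvd
      (n := Nat.card ↥(centralizer ({x} : Set G) ⊓ centralizer ({z} : Set G))) Nat.card_pos.ne' p hp.out.ne_one
    obtain ⟨hae1, hae2⟩ := hae
    obtain ⟨hbe1, hbe2⟩ := hbe
    have ha1 : a ≤ 2 := by
      by_contra hlt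
      exact hcon (by rw [hae2]; exact dvd_mul_of_dvd_left (pow_dvd_pow p (by omega)) _)
    have hb1 : b ≤ 1 := by
      by_contra hlt
      exact h2 (by rw [hbe2]; exact dvd_mul_of_dvd_left (pow_dvd_pow p (by omega)) _)
    rw [hae2, hbe2, mul_mul_mul_comm, ← pow_add] at h1
    have h5 : (p ^ 4).Coprime (ha * hb) := Nat.Coprime.pow_left 4
      (((Nat.Prime.coprime_iff_not_dvd hp.out).2 hae1).mul_right ((Nat.Prime.coprime_iff_not_dvd hp.out).2 hbe1))
    have h6 := h5.dvd_of_dvd_mul_right h1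
    have h7 := (Nat.pow_dvd_pow_iff_le_right hp.out.one_lt).1 h6
    omega
  -- the `t`-invariant normal subgroup
  obtain ⟨N', hN'⟩ : ∃ N', N' = N.map (MulAut.conj t).toMonoidHom := ⟨_, rfl⟩
  have hN'm : ∀ y, y ∈ N' ↔ t * y * t ∈ N := by
    intro y
    rw [hN', mem_map_conj, hti]
  have hconj : ∀ y ∈ N, t * y * t⁻¹ ∈ N' := by
    intro y hy
    rw [hN'm, hti]
    rwa [show t * (t * y * t) * t = (t * t) * y * (t * t) by group, htt, one_mul, mul_one]
  have hconj' : ∀ y ∈ N', t * y * t⁻¹ ∈ N := by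
    intro y hy
    rw [hti]
    exact (hN'm y).1 hy
  have hN'cx : ∀ n ∈ N', n * x = x * n := by
    intro n hn
    have h1 := hN.cx _ (hconj' n hn)
    have h2 : Commute (t * n * t⁻¹) x := h1
    have h3 : Commute n (t⁻¹ * x * t) := by
      have h4 : t * (n * (t⁻¹ * x * t)) * t⁻¹ = t * ((t⁻¹ * x * t) * n) * t⁻¹ := by
        calc t * (n * (t⁻¹ * x * t)) * t⁻¹ = (t * n * t⁻¹) * x := by group
          _ = x * (t * n * t⁻¹) := h1
          _ = _ := by group
      exact mul_left_cancel (mul_right_cancel h4)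
    rw [htx'] at h3
    exact (Commute.inv_right_iff.1 h3).eq
  have hnorm : N' ≤ normalizer (N : Set G) := fun n hn =>
    Transfer.FusionBasic.mem_normalizer_of_conj_mem (hN.nor n (hN'cx n hn))
  have hodd : Odd (Nat.card ↥(N ⊔ N')) := by
    have h1 := H278.ThompsonSurj.card_sup_mul (K := N) (H := N') hnorm
    have h2 : Nat.card ↥N' = Nat.card ↥N := by
      rw [hN']
      exact Subgroup.card_map_of_injective (MulAut.conj t).injective
    have h3 : Odd (Nat.card ↥N * Nat.card ↥N') := hN.odd.mul (by rw [h2]; exact hN.odd)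
    rw [← h1] at h3
    exact (Nat.odd_mul.1 h3).1
  have htinv : ∀ y ∈ N ⊔ N', t * y * t⁻¹ ∈ N ⊔ N' := by
    have h1 : N ⊔ N' ≤ (N ⊔ N').comap (MulAut.conj t).toMonoidHom := by
      refine sup_le (fun y hy => ?_) (fun y hy => ?_)
      · exact mem_sup_right (hconj y hy)
      · exact mem_sup_left (hconj' y hy)
    exact fun y hy => h1 hy
  have htz : zpowers t ≤ normalizer ((N ⊔ N' : Subgroup G) : Set G) :=
    zpowers_le.2 (Transfer.FusionBasic.mem_normalizer_of_conj_mem htinv)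
  have ht2 : IsPGroup 2 ↥(zpowers t) := by
    rintro ⟨y, hy⟩
    refine ⟨1, Subtype.ext ?_⟩
    obtain ⟨i, rfl⟩ := mem_zpowers_iff.1 hy
    show (t ^ i) ^ 2 ^ 1 = 1
    rw [pow_one, ← zpow_natCast, zpow_comm, zpow_natCast, pow_two, htt, one_zpow]
  have : Fact (Nat.Prime 2) := ⟨Nat.prime_two⟩
  obtain ⟨P, hP⟩ := S0023.result (zpowers t) (N ⊔ N') htz (by
      obtain ⟨k, hk⟩ := IsPGroup.iff_card.1 ht2
      rw [hk]
      exact Nat.Coprime.pow_left k ((Nat.coprime_two_left).2 hodd)) (Or.inl (by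
        have := ht2.isNilpotent
        infer_instance)) p
  have hle : (P : Subgroup ↥(N ⊔ N')).map (N ⊔ N').subtype ≤ N ⊔ N' := map_subtype_le _
  have hNx : ∀ y ∈ N ⊔ N', y * x = x * y := by
    have h1 : N ⊔ N' ≤ centralizer ({x} : Set G) :=
      sup_le (fun y hy => mem_centralizer_singleton_iff.2 (hN.cx y hy))
        (fun y hy => mem_centralizer_singleton_iff.2 (hN'cx y hy))
    exact fun y hy => mem_centralizer_singleton_iff.1 (h1 hy)
  refine ⟨(P : Subgroup ↥(N ⊔ N')).map (N ⊔ N').subtype, P.isPGroup'.map _, ?_, fun r hr => hNx r (hle hr),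
    fun r hr => (mem_normalizer_iff.1 (hP (mem_zpowers t)) r).1 hr, ?_⟩
  · have hxp : IsPGroup p ↥(zpowers x) := IsPGroup.of_card (n := 1) (by rw [Nat.card_zpowers, h.hx, pow_one])
    have hxN : zpowers x ≤ N ⊔ N' := zpowers_le.2 (mem_sup_left hN.mem)
    have hQ1 : IsPGroup p ↥((zpowers x).subgroupOf (N ⊔ N')) :=
      hxp.comap_of_injective (N ⊔ N').subtype (N ⊔ N').subtype_injective
    obtain ⟨P1, hP1⟩ := hQ1.exists_le_sylow
    obtain ⟨n, hn⟩ := MulAction.exists_smul_eq ↥(N ⊔ N') P1 P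
    have h3 : (⟨x, hxN (mem_zpowers x)⟩ : ↥(N ⊔ N')) ∈ (P1 : Subgroup ↥(N ⊔ N')) := hP1 (mem_zpowers x)
    have h4 : n * ⟨x, hxN (mem_zpowers x)⟩ * n⁻¹ ∈ (P : Subgroup ↥(N ⊔ N')) := by
      rw [← hn]
      exact Subgroup.smul_mem_pointwise_smul _ (MulAut.conj n) (P1 : Subgroup ↥(N ⊔ N')) h3
    refine ⟨_, h4, ?_⟩
    show (n : G) * x * (n : G)⁻¹ = x
    rw [hNx n n.2, mul_inv_cancel_right]
  · rw [Subgroup.card_map_of_injective (N ⊔ N').subtype_injective]
    obtain ⟨a, ha⟩ := IsPGroup.iff_card.1 P.isPGroup'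
    have h1 : p ^ 3 ∣ p ^ a := by
      rw [← ha]
      exact P.pow_dvd_card_of_pow_dvd_card (hpN.trans (Subgroup.card_dvd_of_le le_sup_left))
    have h2 := (Nat.pow_dvd_pow_iff_le_right hp.out.one_lt).1 h1
    have h3 : a ≤ 3 := by
      by_contra hlt
      apply h.h4
      exact (pow_dvd_pow p (by omega)).trans (ha ▸ (Subgroup.card_subgroup_dvd_card (P : Subgroup ↥(N ⊔ N'))).trans
        (Subgroup.card_subgroup_dvd_card (N ⊔ N')))
    have h4 : a = 3 := by omega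
    show Nat.card ↥(P : Subgroup ↥(N ⊔ N')) = p ^ 3
    rw [ha, h4]

/-- an involution acting on a nonabelian group centralizes an element -/
theorem exists_fixed {R : Subgroup G} {t : G} (htt : t * t = 1) (hR : ∀ r ∈ R, t * r * t⁻¹ ∈ R)
    (hna : ∃ a ∈ R, ∃ b ∈ R, a * b ≠ b * a) : ∃ s ∈ R, s ≠ 1 ∧ t * s * t⁻¹ = s := by
  by_contra hcon
  push Not at hcon
  let φ : ↥R →* ↥R :=
    { toFun := fun r => ⟨t * r * t⁻¹, hR r r.2⟩
      map_one' := Subtype.ext (by show t * 1 * t⁻¹ = 1; group)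
      map_mul' := fun a b => Subtype.ext (by
        show t * ((a : G) * b) * t⁻¹ = (t * a * t⁻¹) * (t * b * t⁻¹)
        group) }
  have hφ : MonoidHom.FixedPointFree φ := by
    intro r hr
    by_contra hne
    exact hcon r r.2 (fun e => hne (Subtype.ext e)) (congrArg Subtype.val hr)
  have h2 : Function.Involutive φ := by
    intro r
    apply Subtype.ext
    show t * (t * (r : G) * t⁻¹) * t⁻¹ = r
    rw [show t * (t * (r : G) * t⁻¹) * t⁻¹ = (t * t) * r * (t * t)⁻¹ by group, htt]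
    group
  obtain ⟨a, ha, b, hb, hab⟩ := hna
  exact hab (congrArg Subtype.val (hφ.commute_all_of_involutive h2 ⟨a, ha⟩ ⟨b, hb⟩).eq)

/-- **The centre is not strongly closed.** -/
theorem not_nfus (h : MonCube.Hyp p x z Q) {t : G} (htt : t * t = 1) (htx : t * x * t⁻¹ = x⁻¹)
    (htz : ∃ g, g * z * g⁻¹ = t) (hna : ∀ S : Sylow p G, ∃ a ∈ (S : Subgroup G), ∃ b ∈ (S : Subgroup G), a * b ≠ b * a) :
    ¬ NFus p G := by
  intro hNF
  obtain ⟨R, hRp, hxR, hRx, htR, hRc⟩ := exists_inv_sylow h htt htx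
  -- `R` is a Sylow subgroup
  obtain ⟨S, hS⟩ := hRp.exists_le_sylow
  have hRS : R = (S : Subgroup G) := by
    refine Subgroup.eq_of_le_of_card_ge hS ?_
    obtain ⟨n, hn⟩ := IsPGroup.iff_card.1 S.2
    rw [hn, hRc]
    refine Nat.pow_le_pow_right hp.out.pos ?_
    by_contra hlt
    exact h.h4 ((pow_dvd_pow p (by omega)).trans (hn ▸ Subgroup.card_subgroup_dvd_card (S : Subgroup G)))
  have hRna : ∃ a ∈ R, ∃ b ∈ R, a * b ≠ b * a := by
    rw [hRS]
    exact hna S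
  obtain ⟨s, hsR, hs1, hts⟩ := exists_fixed htt htR hRna
  have hx1 : x ≠ 1 := by
    intro e
    have := h.hx
    rw [e, orderOf_one] at this
    exact hp.out.one_lt.ne this
  -- `s` is not in `⟨x⟩`
  have hsx : s ∉ zpowers x := by
    intro hsx
    obtain ⟨i, rfl⟩ := mem_zpowers_iff.1 hsx
    have h1 : t * x ^ i * t⁻¹ = (x ^ i)⁻¹ := by
      rw [← conj_zpow, htx, inv_zpow]
    have h2 : x ^ i * x ^ i = 1 := by
      rw [hts] at h1
      nth_rewrite 2 [h1]
      rw [mul_inv_cancel]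
    have h3 : (x ^ i) ^ p = 1 := by
      rw [← zpow_natCast, zpow_comm, zpow_natCast, ← h.hx, pow_orderOf_eq_one, one_zpow]
    obtain ⟨k, hk⟩ := hp.out.odd_of_ne_two h.hp2
    rw [hk, pow_succ, pow_mul, pow_two, h2, one_pow, one_mul] at h3
    exact hs1 h3
  -- `s` is not central in `R`
  have hsZ : ¬ ∀ r ∈ R, r * s = s * r := by
    intro hc
    have h1 : Nat.card ↥(center ↥R) = p := H573.card_center_cube (P := ↥R) hRc fun hall => by
      obtain ⟨a, ha, b, hb, hab⟩ := hRna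
      exact hab (congrArg Subtype.val (hall ⟨a, ha⟩ ⟨b, hb⟩))
    have h2 : zpowers (⟨x, hxR⟩ : ↥R) ≤ center ↥R := zpowers_le.2 (mem_center_iff.2 fun r =>
      Subtype.ext (hRx r r.2))
    have h3 : zpowers (⟨x, hxR⟩ : ↥R) = center ↥R := by
      refine Subgroup.eq_of_le_of_card_ge h2 ?_
      rw [h1, Nat.card_zpowers, ← Subgroup.orderOf_coe, h.hx]
    have h4 : (⟨s, hsR⟩ : ↥R) ∈ center ↥R := mem_center_iff.2 fun r => Subtype.ext (hc r r.2)
    rw [← h3] at h4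
    obtain ⟨i, hi⟩ := mem_zpowers_iff.1 h4
    exact hsx (mem_zpowers_iff.2 ⟨i, congrArg Subtype.val hi⟩)
  -- `s` is conjugate into `⟨x⟩`
  obtain ⟨g, hg⟩ := htz
  have hsz : (g⁻¹ * s * g) * z = z * (g⁻¹ * s * g) := by
    have h1 : s * t = t * s := by
      have := mul_inv_eq_iff_eq_mul.1 hts
      exact this.symm
    rw [← hg] at h1
    calc (g⁻¹ * s * g) * z = g⁻¹ * (s * (g * z * g⁻¹)) * g := by group
      _ = g⁻¹ * ((g * z * g⁻¹) * s) * g := by rw [h1]
      _ = _ := by group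
  obtain ⟨m, hm⟩ : ∃ m : G, m * s * m⁻¹ ∈ zpowers x := by
    let C := centralizer ({z} : Set G)
    let sC : ↥C := ⟨g⁻¹ * s * g, mem_centralizer_singleton_iff.2 hsz⟩
    let xC : ↥C := ⟨x, mem_centralizer_singleton_iff.2 h.zx.symm⟩
    have hsp : IsPGroup p ↥(zpowers sC) := by
      have h1 : ∃ k, sC ^ p ^ k = 1 := by
        obtain ⟨k, hk⟩ := hRp ⟨s, hsR⟩
        refine ⟨k, Subtype.ext ?_⟩
        show (g⁻¹ * s * g) ^ p ^ k = 1
        have h2 : (g⁻¹ * s * g) ^ p ^ k = g⁻¹ * s ^ p ^ k * g := by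
          have := conj_pow (i := p ^ k) (a := g⁻¹) (b := s)
          rwa [inv_inv] at this
        rw [h2, show s ^ p ^ k = 1 from congrArg Subtype.val hk]
        group
      obtain ⟨k, hk⟩ := h1
      obtain ⟨j, -, hj⟩ := (Nat.dvd_prime_pow hp.out).1 (orderOf_dvd_of_pow_eq_one hk)
      exact IsPGroup.of_card (n := j) (by rw [Nat.card_zpowers, hj])
    have hxo : orderOf xC = p := by rw [← Subgroup.orderOf_coe, h.hx]
    have hxp : IsPGroup p ↥(zpowers xC) := IsPGroup.of_card (n := 1) (by rw [Nat.card_zpowers, hxo, pow_one])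
    obtain ⟨P1, hP1⟩ := hsp.exists_le_sylow
    obtain ⟨P2, hP2⟩ := hxp.exists_le_sylow
    have hP2' : zpowers xC = (P2 : Subgroup ↥C) := by
      refine Subgroup.eq_of_le_of_card_ge hP2 ?_
      obtain ⟨n, hn⟩ := IsPGroup.iff_card.1 P2.2
      rw [hn, Nat.card_zpowers, hxo]
      conv_rhs => rw [← pow_one p]
      refine Nat.pow_le_pow_right hp.out.pos ?_
      by_contra hlt
      exact h.cz ((pow_dvd_pow p (by omega)).trans (hn ▸ Subgroup.card_subgroup_dvd_card (P2 : Subgroup ↥C)))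
    obtain ⟨c, hc⟩ := MulAction.exists_smul_eq ↥C P1 P2
    have h3 : c * sC * c⁻¹ ∈ (P2 : Subgroup ↥C) := by
      rw [← hc]
      exact Subgroup.smul_mem_pointwise_smul _ (MulAut.conj c) (P1 : Subgroup ↥C) (hP1 (mem_zpowers sC))
    rw [← hP2'] at h3
    obtain ⟨i, hi⟩ := mem_zpowers_iff.1 h3
    refine ⟨c * g⁻¹, mem_zpowers_iff.2 ⟨i, ?_⟩⟩
    have h4 : x ^ i = (c : G) * (g⁻¹ * s * g) * (c : G)⁻¹ := congrArg Subtype.val hi
    rw [h4]
    group
  obtain ⟨i, hi⟩ := mem_zpowers_iff.1 hm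
  -- control of fusion
  obtain ⟨n, hn, he⟩ := hNF S (zpowers (x ^ i)) (by
      rw [← hRS]
      exact zpowers_le.2 (zpow_mem hxR i)) m⁻¹ (fun y hy => by
      obtain ⟨j, rfl⟩ := mem_zpowers_iff.1 hy
      rw [hi, ← hRS, inv_inv, conj_zpow, show m⁻¹ * (m * s ^ j * m⁻¹) * m = s ^ j by group]
      exact zpow_mem hsR j)
  have h1 := he (x ^ i) (mem_zpowers _)
  have h2 : n * x ^ i * n⁻¹ = s := by
    rw [h1, hi]
    group
  apply hsZ
  intro r hr
  have h3 : n⁻¹ * r * n ∈ R := by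
    rw [hRS] at hr ⊢
    have := (mem_normalizer_iff.1 (inv_mem hn) r).1 hr
    rwa [inv_inv] at this
  have h4 : Commute (n⁻¹ * r * n) (x ^ i) := (show Commute (n⁻¹ * r * n) x from hRx _ h3).zpow_right i
  rw [← h2]
  calc r * (n * x ^ i * n⁻¹) = n * ((n⁻¹ * r * n) * x ^ i) * n⁻¹ := by group
    _ = n * (x ^ i * (n⁻¹ * r * n)) * n⁻¹ := by rw [h4.eq]
    _ = _ := by group

/-- **The criterion.** -/
theorem fullP_or_comm (h : MonCube.Hyp p x z Q) {t : G} (htt : t * t = 1) (htx : t * x * t⁻¹ = x⁻¹)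
    (htz : ∃ g, g * z * g⁻¹ = t) : H749.FullP p G ∨ ∀ S : Sylow p G, IsMulCommutative (S : Subgroup G) := by
  by_cases hna : ∀ S : Sylow p G, ∃ a ∈ (S : Subgroup G), ∃ b ∈ (S : Subgroup G), a * b ≠ b * a
  · exact Or.inl (h.fullP_or_nfus.resolve_right (not_nfus h htt htx htz hna))
  · right
    push Not at hna
    obtain ⟨S, hS⟩ := hna
    refine fun P => ⟨⟨fun a b => Subtype.ext ?_⟩⟩
    obtain ⟨a, ha⟩ := a
    obtain ⟨b, hb⟩ := b
    obtain ⟨g, hg⟩ := MulAction.exists_smul_eq G S P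
    rw [← hg, Sylow.coe_subgroup_smul] at ha hb
    obtain ⟨a', ha', rfl⟩ := ha
    obtain ⟨b', hb', rfl⟩ := hb
    show (g * a' * g⁻¹) * (g * b' * g⁻¹) = (g * b' * g⁻¹) * (g * a' * g⁻¹)
    calc (g * a' * g⁻¹) * (g * b' * g⁻¹) = g * (a' * b') * g⁻¹ := by group
      _ = g * (b' * a') * g⁻¹ := by rw [hS a' ha' b' hb']
      _ = _ := by group

end Cfsg.Agent.H181.MonClose
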