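import Mathlib
import Cfsg.Agent.H181.OctMain
import Cfsg.Agent.LieClassical.HermPerfect
import Cfsg.Agent.LieClassical.SLGen

/-!
# `SU F` is perfect (helper181)

`SU F` is `SL₃(q)` (`q = 1 mod 3`) or `SU₃(q)` (`q = 2 mod 3`), hence perfect if `q ≠ 2`. `perfect_over` : in `G₂(q)`,
`9 ∣ q² - 1`, every Sylow 3-subgroup `S` is contained in a perfect subgroup of `C(Z(S))`.
-/

set_option autoImplicit false

namespace Cfsg.Agent.H181.OctHerm

open Cfsg.Lie QuadraticAlgebra Subgroup

variable {F : Type*} [Field F]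

theorem comm_top_of_surj {A B : Type*} [Group A] [Group B] (f : A →* B) (hf : Function.Surjective f)
    (h : commutator A = ⊤) : commutator B = ⊤ := by
  rw [commutator_def] at h ⊢
  rw [← Subgroup.map_top_of_surjective f hf, ← Subgroup.map_commutator, h]

/-- evaluation at a root of `X² + X + 1` -/
def evr (θ : F) (hθ : θ ^ 2 + θ + 1 = 0) : LL F →+* F where
  toFun := fun x => x.re + x.im * θ
  map_one' := by simp
  map_zero' := by simp
  map_add' := fun x y => by simp; ring
  map_mul' := fun x y => by simp; linear_combination (-(x.im * y.im)) * hθ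

theorem evr_star {r s : F} (hr : r ^ 2 + r + 1 = 0) (hs : s ^ 2 + s + 1 = 0) (hrs : s = -1 - r) (x : LL F) :
    evr r hr (star x) = evr s hs x := by
  change (star x).re + (star x).im * r = x.re + x.im * s
  rw [re_star, im_star, hrs]
  ring

/-- the element with given evaluations -/
def mk2 (r s α β : F) : LL F := ⟨α - (α - β) / (r - s) * r, (α - β) / (r - s)⟩

theorem evr_mk2 {r s : F} (hr : r ^ 2 + r + 1 = 0) (α β : F) : evr r hr (mk2 r s α β) = α := by
  change α - (α - β) / (r - s) * r + (α - β) / (r - s) * r = α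
  ring

theorem evr_mk2' {r s : F} (hs : s ^ 2 + s + 1 = 0) (hne : r - s ≠ 0) (α β : F) : evr s hs (mk2 r s α β) = β := by
  change α - (α - β) / (r - s) * r + (α - β) / (r - s) * s = β
  field_simp
  ring

theorem ext_evr {r s : F} (hr : r ^ 2 + r + 1 = 0) (hs : s ^ 2 + s + 1 = 0) (hne : r - s ≠ 0) {x y : LL F}
    (h1 : evr r hr x = evr r hr y) (h2 : evr s hs x = evr s hs y) : x = y := by
  have h1' : x.re + x.im * r = y.re + y.im * r := h1
  have h2' : x.re + x.im * s = y.re + y.im * s := h2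
  have h3 : (x.im - y.im) * (r - s) = 0 := by linear_combination h1' - h2'
  have h4 : x.im = y.im := sub_eq_zero.1 ((mul_eq_zero.1 h3).resolve_right hne)
  have h5 : x.re = y.re := by
    rw [h4] at h1'
    exact add_right_cancel h1'
  exact QuadraticAlgebra.ext h5 h4

theorem mat_ext {r s : F} (hr : r ^ 2 + r + 1 = 0) (hs : s ^ 2 + s + 1 = 0) (hne : r - s ≠ 0)
    {X Y : Matrix (Fin 3) (Fin 3) (LL F)} (h1 : X.map (evr r hr) = Y.map (evr r hr))
    (h2 : X.map (evr s hs) = Y.map (evr s hs)) : X = Y := by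
  ext1 i j
  exact ext_evr hr hs hne (congrFun (congrFun h1 i) j) (congrFun (congrFun h2 i) j)

theorem map_star {r s : F} (hr : r ^ 2 + r + 1 = 0) (hs : s ^ 2 + s + 1 = 0) (hrs : s = -1 - r)
    (X : Matrix (Fin 3) (Fin 3) (LL F)) : (star X).map (evr r hr) = (X.map (evr s hs)).transpose := by
  ext1 i j
  exact evr_star hr hs hrs (X j i)

theorem mem_SU_iff_ev {r s : F} (hr : r ^ 2 + r + 1 = 0) (hs : s ^ 2 + s + 1 = 0) (hne : r - s ≠ 0)
    (hrs : s = -1 - r) (X : Matrix (Fin 3) (Fin 3) (LL F)) :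
    (star X * X = 1 ∧ X.det = 1) ↔
      ((X.map (evr s hs)).transpose * X.map (evr r hr) = 1 ∧ (X.map (evr r hr)).det = 1) := by
  have hsr : r = -1 - s := by rw [hrs]; ring
  constructor
  · rintro ⟨h1, h2⟩
    constructor
    · rw [← map_star hr hs hrs, ← Matrix.map_mul, h1]
      exact Matrix.map_one _ (map_zero _) (map_one _)
    · have h3 := (RingHom.map_det (evr r hr) X)
      rw [h2, map_one] at h3
      exact h3.symm
  · rintro ⟨h1, h2⟩
    have h4 : (X.map (evr s hs)).det = 1 := by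
      have h5 := congrArg Matrix.det h1
      rwa [Matrix.det_mul, Matrix.det_transpose, h2, mul_one, Matrix.det_one] at h5
    constructor
    · apply mat_ext hr hs hne
      · rw [Matrix.map_mul, map_star hr hs hrs, h1]
        exact (Matrix.map_one _ (map_zero _) (map_one _)).symm
      · rw [Matrix.map_mul, map_star hs hr hsr]
        have h5 := congrArg Matrix.transpose h1
        rw [Matrix.transpose_mul, Matrix.transpose_transpose, Matrix.transpose_one] at h5
        rw [h5]
        exact (Matrix.map_one _ (map_zero _) (map_one _)).symm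
    · apply ext_evr hr hs hne
      · rw [map_one]
        exact (RingHom.map_det (evr r hr) X).trans h2
      · rw [map_one]
        exact (RingHom.map_det (evr s hs) X).trans h4

theorem perfect_split (h3 : (3 : F) ≠ 0) {r : F} (hr : r ^ 2 + r + 1 = 0) : commutator (SU F) = ⊤ := by
  obtain ⟨s, hrs⟩ : ∃ s : F, s = -1 - r := ⟨_, rfl⟩
  have hs : s ^ 2 + s + 1 = 0 := by rw [hrs]; linear_combination hr
  have hne : r - s ≠ 0 := by
    intro h
    apply h3
    have h1 : (r - s) ^ 2 = -3 := by rw [hrs]; linear_combination 4 * hr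
    rw [h] at h1
    linear_combination h1
  let M : Matrix.SpecialLinearGroup (Fin 3) F → Matrix (Fin 3) (Fin 3) (LL F) := fun A =>
    Matrix.of fun i j => mk2 r s ((A : Matrix (Fin 3) (Fin 3) F) i j) (((A⁻¹ : Matrix.SpecialLinearGroup (Fin 3) F) : Matrix (Fin 3) (Fin 3) F) j i)
  have hM1 : ∀ A, (M A).map (evr r hr) = (A : Matrix (Fin 3) (Fin 3) F) := fun A => by
    ext1 i j
    exact evr_mk2 hr _ _
  have hM2 : ∀ A, (M A).map (evr s hs) = ((A⁻¹ : Matrix.SpecialLinearGroup (Fin 3) F) : Matrix (Fin 3) (Fin 3) F).transpose :=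
    fun A => by
      ext1 i j
      exact evr_mk2' hs hne _ _
  have hmem : ∀ A, star (M A) * M A = 1 ∧ (M A).det = 1 := fun A => by
    rw [mem_SU_iff_ev hr hs hne hrs, hM1, hM2, Matrix.transpose_transpose]
    refine ⟨?_, A.2⟩
    rw [← Matrix.SpecialLinearGroup.coe_mul, inv_mul_cancel, Matrix.SpecialLinearGroup.coe_one]
  let f : Matrix.SpecialLinearGroup (Fin 3) F →* SU F :=
    { toFun := fun A => ⟨⟨M A, Matrix.mem_unitaryGroup_iff'.2 (hmem A).1⟩, (hmem A).2⟩
      map_one' := by
        apply Subtype.ext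
        apply Subtype.ext
        apply mat_ext hr hs hne
        · change (M 1).map _ = (1 : Matrix (Fin 3) (Fin 3) (LL F)).map _
          rw [hM1, Matrix.map_one _ (map_zero _) (map_one _), Matrix.SpecialLinearGroup.coe_one]
        · change (M 1).map _ = (1 : Matrix (Fin 3) (Fin 3) (LL F)).map _
          rw [hM2, Matrix.map_one _ (map_zero _) (map_one _), inv_one, Matrix.SpecialLinearGroup.coe_one,
            Matrix.transpose_one]
      map_mul' := fun A B => by
        apply Subtype.ext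
        apply Subtype.ext
        apply mat_ext hr hs hne
        · change (M (A * B)).map _ = (M A * M B).map _
          rw [Matrix.map_mul, hM1, hM1, hM1, Matrix.SpecialLinearGroup.coe_mul]
        · change (M (A * B)).map _ = (M A * M B).map _
          rw [Matrix.map_mul, hM2, hM2, hM2, mul_inv_rev, Matrix.SpecialLinearGroup.coe_mul, Matrix.transpose_mul] }
  refine comm_top_of_surj f ?_ (LieClassical.SLGen.commutator_eq_top (by simp))
  intro g
  obtain ⟨h1, h2⟩ := (mem_SU_iff_ev hr hs hne hrs ((g : U3 F) : Matrix (Fin 3) (Fin 3) (LL F))).1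
    ⟨Matrix.mem_unitaryGroup_iff'.1 (g : U3 F).2, g.2⟩
  obtain ⟨A, hA⟩ : ∃ A : Matrix.SpecialLinearGroup (Fin 3) F, (A : Matrix (Fin 3) (Fin 3) F) =
    ((g : U3 F) : Matrix (Fin 3) (Fin 3) (LL F)).map (evr r hr) := ⟨⟨_, h2⟩, rfl⟩
  rw [← hA] at h1
  refine ⟨A, ?_⟩
  apply Subtype.ext
  apply Subtype.ext
  apply mat_ext hr hs hne
  · exact (hM1 _).trans hA
  · change (M A).map _ = _
    rw [hM2]
    have h4 : (((g : U3 F) : Matrix (Fin 3) (Fin 3) (LL F)).map (evr s hs)).transpose =
        ((A⁻¹ : Matrix.SpecialLinearGroup (Fin 3) F) : Matrix (Fin 3) (Fin 3) F) := by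
      have h5 : (A : Matrix (Fin 3) (Fin 3) F) * ((A⁻¹ : Matrix.SpecialLinearGroup (Fin 3) F) : Matrix (Fin 3) (Fin 3) F) = 1 := by
        rw [← Matrix.SpecialLinearGroup.coe_mul, mul_inv_cancel, Matrix.SpecialLinearGroup.coe_one]
      calc _ = (((g : U3 F) : Matrix (Fin 3) (Fin 3) (LL F)).map (evr s hs)).transpose *
            ((A : Matrix (Fin 3) (Fin 3) F) * ((A⁻¹ : Matrix.SpecialLinearGroup (Fin 3) F) : Matrix (Fin 3) (Fin 3) F)) := by
            rw [h5, mul_one]
        _ = _ := by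
          rw [← mul_assoc, h1, one_mul]
    rw [← h4, Matrix.transpose_transpose]

theorem perfect_nonsplit [Finite F] (h3 : (3 : F) ≠ 0) (hq : Nat.card F % 3 = 2) (hq2 : Nat.card F ≠ 2) :
    commutator (SU F) = ⊤ := by
  have : Fintype F := Fintype.ofFinite F
  have hcard : Nat.card Fˣ = Nat.card F - 1 := Nat.card_units F
  have hc1 : 1 < Nat.card F := Finite.one_lt_card
  have hfact : Fact (∀ r : F, r ^ 2 ≠ -1 + -1 * r) := by
    refine ⟨fun r hr => ?_⟩
    have h4 : r ^ 3 = 1 := by linear_combination (r - 1) * hr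
    have h5 : r ≠ 1 := by
      rintro rfl
      apply h3
      linear_combination hr
    have h6 : r ≠ 0 := by
      rintro rfl
      simp at h4
    have h7 : orderOf (Units.mk0 r h6) = 3 := by
      apply orderOf_eq_prime
      · ext; simpa using h4
      · intro h; exact h5 (congrArg Units.val h)
    have h8 := orderOf_dvd_natCard (Units.mk0 r h6)
    rw [h7, hcard] at h8
    omega
  have hfinL : Finite (LL F) := finite_LL
  have : Fintype (LL F) := Fintype.ofFinite _
  have hcL : Fintype.card (LL F) = Nat.card F ^ 2 := by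
    rw [← Nat.card_eq_fintype_card, Nat.card_congr (QuadraticAlgebra.equivProd (-1 : F) (-1)), Nat.card_prod, pow_two]
  have hstar : ∀ x : LL F, x ^ Nat.card F = star x := by
    intro x
    have h4 : FiniteField.frobeniusAlgHom F (LL F) x = x ^ Nat.card F := by
      rw [Nat.card_eq_fintype_card]; rfl
    rw [← h4]
    have h5 : x = algebraMap F (LL F) x.re + algebraMap F (LL F) x.im * om := by
      ext <;> simp [om]
    have h6 : FiniteField.frobeniusAlgHom F (LL F) om = -1 - om := by
      change (om : LL F) ^ Fintype.card F = _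
      rw [← Nat.card_eq_fintype_card]
      obtain ⟨k, hk⟩ : ∃ k, Nat.card F = 3 * k + 2 := ⟨Nat.card F / 3, by omega⟩
      have h7 : (om : LL F) ^ 3 = 1 := by rw [pow_succ, pow_two, om_cube]
      rw [hk, pow_add, pow_mul, h7, one_pow, one_mul, pow_two, om_sq]
    rw [h5, map_add, map_mul, AlgHom.commutes, AlgHom.commutes, h6]
    ext <;> simp [om] <;> ring
  have hmem : ∀ A : Cfsg.SU 3 (LL F) (Nat.card F),
      (((A : Matrix.SpecialLinearGroup (Fin 3) (LL F)) : Matrix (Fin 3) (Fin 3) (LL F))) ∈ Matrix.unitaryGroup (Fin 3) (LL F) := by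
    intro A
    rw [Matrix.mem_unitaryGroup_iff']
    ext1 i j
    have h4 := (LieClassical.SUBasic.mem_SU_iff _).1 A.2 (Pi.single j 1) (Pi.single i 1)
    rw [LieClassical.SUBasic.hermForm_apply, LieClassical.SUBasic.hermForm_apply, Matrix.mulVec_single_one,
      Matrix.mulVec_single_one] at h4
    rw [Matrix.mul_apply]
    simp only [hstar, Matrix.col_apply] at h4
    simp only [Matrix.star_apply]
    rw [show (∑ k, star ((((A : Matrix.SpecialLinearGroup (Fin 3) (LL F)) : Matrix (Fin 3) (Fin 3) (LL F))) k i) *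
      (((A : Matrix.SpecialLinearGroup (Fin 3) (LL F)) : Matrix (Fin 3) (Fin 3) (LL F))) k j) = _ from
      (Finset.sum_congr rfl fun k _ => mul_comm _ _).trans h4]
    fin_cases i <;> fin_cases j <;> simp [Fin.sum_univ_three]
  let f : Cfsg.SU 3 (LL F) (Nat.card F) →* SU F :=
    { toFun := fun A => ⟨⟨_, hmem A⟩, A.1.2⟩
      map_one' := rfl
      map_mul' := fun A B => rfl }
  refine comm_top_of_surj f ?_ (LieClassical.HermPerfect.commutator_SU_eq_top hcL le_rfl fun h => hq2 h.2)
  intro g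
  have h1 := Matrix.mem_unitaryGroup_iff'.1 (g : U3 F).2
  refine ⟨⟨⟨_, g.2⟩, ?_⟩, rfl⟩
  refine (LieClassical.SUBasic.mem_SU_iff _).2 fun u v => ?_
  rw [LieClassical.SUBasic.hermForm_apply, LieClassical.SUBasic.hermForm_apply]
  simp only [hstar]
  have h2 : ∀ u v : Fin 3 → LL F, ∑ i, u i * star (v i) = (star v) ⬝ᵥ u := fun u v =>
    Finset.sum_congr rfl fun i _ => mul_comm _ _
  rw [h2, h2]
  change star (((g : U3 F) : Matrix (Fin 3) (Fin 3) (LL F)).mulVec v) ⬝ᵥ (((g : U3 F) : Matrix (Fin 3) (Fin 3) (LL F)).mulVec u) = _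
  rw [Matrix.star_mulVec, Matrix.dotProduct_mulVec, Matrix.vecMul_vecMul]
  rw [Matrix.star_eq_conjTranspose] at h1
  rw [h1, Matrix.vecMul_one]

theorem perfect_SU [Finite F] (h3 : (3 : F) ≠ 0) (hq2 : Nat.card F ≠ 2) : commutator (SU F) = ⊤ := by
  rcases mod_three h3 with hq | hq
  · have : Fintype F := Fintype.ofFinite F
    have hcard : Nat.card Fˣ = Nat.card F - 1 := Nat.card_units F
    have hc1 : 1 < Nat.card F := Finite.one_lt_card
    have h3' : 3 ∣ Nat.card Fˣ := by rw [hcard]; omega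
    obtain ⟨θ', hθ'⟩ := exists_prime_orderOf_dvd_card' (G := Fˣ) 3 h3'
    set θ : F := (θ' : F) with hθd
    have hθ1 : θ ≠ 1 := by
      intro h
      have : θ' = 1 := Units.ext h
      rw [this, orderOf_one] at hθ'
      omega
    have hθ3 : θ ^ 3 = 1 := by
      have h4 := pow_orderOf_eq_one θ'
      rw [hθ'] at h4
      have h5 := congrArg Units.val h4
      rwa [Units.val_pow_eq_pow_val, Units.val_one] at h5
    have hθ : θ ^ 2 + θ + 1 = 0 := by
      have h4 : (θ - 1) * (θ ^ 2 + θ + 1) = 0 := by linear_combination hθ3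
      rcases mul_eq_zero.1 h4 with h | h
      · exact absurd (sub_eq_zero.1 h) hθ1
      · exact h
    exact perfect_split h3 hθ
  · exact perfect_nonsplit h3 hq hq2

theorem zz_comm (g : SU F) : g * zz F = zz F * g := by
  apply Subtype.ext
  apply Subtype.ext
  change ((g : U3 F) : Matrix (Fin 3) (Fin 3) (LL F)) * ((dg omU omU omU : U3 F) : Matrix (Fin 3) (Fin 3) (LL F)) =
    ((dg omU omU omU : U3 F) : Matrix (Fin 3) (Fin 3) (LL F)) * ((g : U3 F) : Matrix (Fin 3) (Fin 3) (LL F))
  rw [dg_coe]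
  ext1 i j
  rw [Matrix.mul_diagonal, Matrix.diagonal_mul]
  fin_cases i <;> fin_cases j <;> simp [mul_comm]

/-- **The perfect subgroup over a Sylow 3-subgroup.** -/
theorem perfect_over [Finite F] {G : Type*} [Group G] [Finite G] (h3 : (3 : F) ≠ 0) (h9 : 9 ∣ Nat.card F ^ 2 - 1)
    (e : G ≃* Cfsg.Lie.G2 F) (S : Sylow 3 G) :
    ∃ J : Subgroup G, ⁅J, J⁆ = J ∧ (S : Subgroup G) ≤ J ∧
      J ≤ centralizer (((S : Subgroup G) ⊓ centralizer ((S : Subgroup G) : Set G) : Subgroup G) : Set G) := by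
  obtain ⟨κ, hκ, φ, hφ⟩ := exists_phi h3 e S
  have hperf := perfect_SU h3 (fun h => by rw [h] at h9; norm_num at h9)
  let ψ : SU F →* G := φ.symm.toMonoidHom.comp (rho κ)
  have hS : (S : Subgroup G) = (SS F).map ψ := by
    apply map_injective φ
    rw [hφ, Subgroup.map_map]
    congr 1
    ext1 x
    exact (φ.apply_symm_apply _).symm
  have hψ : Function.Injective ψ := φ.symm.injective.comp (rho_injective κ)
  refine ⟨(⊤ : Subgroup (SU F)).map ψ, ?_, ?_, ?_⟩
  · rw [← Subgroup.map_commutator, ← commutator_def, hperf]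
  · rw [hS]
    exact Subgroup.map_mono le_top
  · have h1 : (S : Subgroup G) ⊓ centralizer ((S : Subgroup G) : Set G) = (zpowers (zz F)).map ψ := by
      rw [← center_SS h3, hS]
      ext y
      constructor
      · rintro ⟨⟨x, hx, rfl⟩, hc⟩
        refine ⟨x, mem_inf.2 ⟨hx, mem_centralizer_iff.2 fun s hs => hψ ?_⟩, rfl⟩
        rw [map_mul, map_mul]
        exact mem_centralizer_iff.1 hc _ ⟨s, hs, rfl⟩
      · rintro ⟨x, hx, rfl⟩
        refine mem_inf.2 ⟨⟨x, (mem_inf.1 hx).1, rfl⟩, mem_centralizer_iff.2 ?_⟩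
        rintro _ ⟨s, hs, rfl⟩
        rw [← map_mul, ← map_mul, mem_centralizer_iff.1 (mem_inf.1 hx).2 s hs]
    rw [h1, Subgroup.le_centralizer_iff, Subgroup.map_le_iff_le_comap, Subgroup.zpowers_le, mem_comap,
      mem_centralizer_iff]
    rintro _ ⟨g, -, rfl⟩
    rw [← map_mul, ← map_mul, zz_comm]

end Cfsg.Agent.H181.OctHerm
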