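import Mathlib
import Cfsg.Prelude.Def_ClassicalGeometry
import Cfsg.Agent.H181.FormNondeg
import Cfsg.Agent.ClassicalGeometry.OrthDickson

/-!
# Interchanging the two standard maximal totally singular subspaces of the plus-type form
-/

set_option autoImplicit false

namespace Cfsg.Agent.H181.SwapPlus

open QuadraticMap Matrix Module Cfsg.Agent.ClassicalGeometry.Reflection
open Cfsg.Agent.ClassicalGeometry.OrthCharTwo Cfsg.Agent.ClassicalGeometry.OrthDickson
open Cfsg.Agent.LieClassical.OrthForms Cfsg.Agent.H181.HypInv Cfsg.Agent.H181.FormNondeg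

variable {F : Type*} [Field F] {m : ℕ}

/-- kernel of `A - 1` and of `Aᵀ - 1` have the same dimension -/
theorem finrank_ker_transpose (A : Matrix (Fin m) (Fin m) F) :
    finrank F (LinearMap.ker (Aᵀ - 1).mulVecLin) = finrank F (LinearMap.ker (A - 1).mulVecLin) := by
  have h1 := LinearMap.finrank_range_add_finrank_ker (Aᵀ - 1).mulVecLin
  have h2 := LinearMap.finrank_range_add_finrank_ker (A - 1).mulVecLin
  have h3 : (Aᵀ - 1).rank = (A - 1).rank := by
    rw [← Matrix.rank_transpose (A - 1), Matrix.transpose_sub, Matrix.transpose_one]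
  have h4 : finrank F (LinearMap.range (Aᵀ - 1).mulVecLin)
      = finrank F (LinearMap.range (A - 1).mulVecLin) := h3
  omega

/-- If `Aᵀ D = 1` the fixed spaces of `A` and `D` have the same dimension. -/
theorem finrank_ker_of_transpose_mul (A D : Matrix (Fin m) (Fin m) F) (h : Aᵀ * D = 1) :
    finrank F (LinearMap.ker (D - 1).mulVecLin) = finrank F (LinearMap.ker (A - 1).mulVecLin) := by
  rw [← finrank_ker_transpose A]
  have h' : D * Aᵀ = 1 := mul_eq_one_comm.1 h
  have hk : LinearMap.ker (D - 1).mulVecLin = LinearMap.ker (Aᵀ - 1).mulVecLin := ?_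
  · rw [hk]
  ext x
  rw [LinearMap.mem_ker, LinearMap.mem_ker, Matrix.mulVecLin_apply, Matrix.mulVecLin_apply,
    Matrix.sub_mulVec, Matrix.sub_mulVec, Matrix.one_mulVec, sub_eq_zero, sub_eq_zero]
  constructor
  · intro hx
    rw [← hx, Matrix.mulVec_mulVec, h, Matrix.one_mulVec, hx]
  · intro hx
    rw [← hx, Matrix.mulVec_mulVec, h', Matrix.one_mulVec, hx]

/-- An isometry of the plus-type form preserving both standard maximal singular subspaces has a fixed
space of even dimension. -/
theorem even_finrank_fixSp (g : Cfsg.isometryGroup F (⇑(plusForm m F)))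
    (h1 : ∀ v : Fin m ⊕ Fin m → F, (∀ i, v (Sum.inr i) = 0) → ∀ i, act g v (Sum.inr i) = 0)
    (h2 : ∀ v : Fin m ⊕ Fin m → F, (∀ i, v (Sum.inl i) = 0) → ∀ i, act g v (Sum.inl i) = 0) :
    Even (finrank F (fixSp g)) := by
  set M : Matrix (Fin m ⊕ Fin m) (Fin m ⊕ Fin m) F :=
    ((g : Matrix.GeneralLinearGroup (Fin m ⊕ Fin m) F) :
      Matrix (Fin m ⊕ Fin m) (Fin m ⊕ Fin m) F) with hM
  have hact : ∀ x, act g x = M *ᵥ x := fun x => rfl
  have h21 : M.toBlocks₂₁ = 0 := by
    ext i j
    have := h1 (Pi.single (Sum.inl j) 1) (fun i => by simp) i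
    rw [hact, Matrix.mulVec_single_one] at this
    exact this
  have h12 : M.toBlocks₁₂ = 0 := by
    ext i j
    have := h2 (Pi.single (Sum.inr j) 1) (fun i => by simp) i
    rw [hact, Matrix.mulVec_single_one] at this
    exact this
  set A := M.toBlocks₁₁ with hA
  set D := M.toBlocks₂₂ with hD
  have hMAD : M = Matrix.fromBlocks A 0 0 D := by
    rw [← Matrix.fromBlocks_toBlocks M, h12, h21]
  have hAD : Aᵀ * D = 1 := by
    ext i j
    have := polar_act g (Pi.single (Sum.inl i) 1) (Pi.single (Sum.inr j) 1)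
    rw [polar_plusForm, polar_plusForm, hact, hact, Matrix.mulVec_single_one,
      Matrix.mulVec_single_one] at this
    rw [hMAD] at this
    simp only [Matrix.col_apply, Matrix.fromBlocks_apply₁₁, Matrix.fromBlocks_apply₂₂,
      Matrix.fromBlocks_apply₁₂, Matrix.fromBlocks_apply₂₁, Matrix.zero_apply, zero_mul, mul_zero,
      add_zero] at this
    rw [Matrix.mul_apply]
    simp only [Matrix.transpose_apply]
    rw [this]
    simp [Pi.single_apply, Matrix.one_apply, eq_comm]
  have key : ∀ x : Fin m ⊕ Fin m → F, x ∈ fixSp g ↔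
      A *ᵥ (fun i => x (Sum.inl i)) = (fun i => x (Sum.inl i)) ∧
      D *ᵥ (fun i => x (Sum.inr i)) = (fun i => x (Sum.inr i)) := by
    intro x
    rw [mem_fixSp, hact, hMAD]
    have hx : x = Sum.elim (fun i => x (Sum.inl i)) (fun i => x (Sum.inr i)) := by
      funext i; rcases i with i | i <;> rfl
    conv_lhs => rw [hx]
    rw [Matrix.fromBlocks_mulVec]
    constructor
    · intro h
      constructor
      · funext i
        have := congrFun h (Sum.inl i)
        simpa using this
      · funext i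
        have := congrFun h (Sum.inr i)
        simpa using this
    · rintro ⟨h3, h4⟩
      funext i
      rcases i with i | i
      · have := congrFun h3 i
        simpa [Function.comp_def] using this
      · have := congrFun h4 i
        simpa [Function.comp_def] using this
  have hmemA : ∀ y : Fin m → F, y ∈ LinearMap.ker (A - 1).mulVecLin ↔ A *ᵥ y = y := by
    intro y
    rw [LinearMap.mem_ker, Matrix.mulVecLin_apply, Matrix.sub_mulVec, Matrix.one_mulVec,
      sub_eq_zero]
  have hmemD : ∀ y : Fin m → F, y ∈ LinearMap.ker (D - 1).mulVecLin ↔ D *ᵥ y = y := by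
    intro y
    rw [LinearMap.mem_ker, Matrix.mulVecLin_apply, Matrix.sub_mulVec, Matrix.one_mulVec,
      sub_eq_zero]
  let e : fixSp g ≃ₗ[F] (LinearMap.ker (A - 1).mulVecLin × LinearMap.ker (D - 1).mulVecLin) :=
    { toFun := fun x => (⟨fun i => x.1 (Sum.inl i), (hmemA _).2 ((key x.1).1 x.2).1⟩,
        ⟨fun i => x.1 (Sum.inr i), (hmemD _).2 ((key x.1).1 x.2).2⟩)
      invFun := fun y => ⟨Sum.elim y.1.1 y.2.1, (key _).2 ⟨(hmemA _).1 y.1.2, (hmemD _).1 y.2.2⟩⟩
      map_add' := fun x y => rfl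
      map_smul' := fun c x => rfl
      left_inv := fun x => by
        apply Subtype.ext
        funext i
        rcases i with i | i <;> rfl
      right_inv := fun y => rfl }
  rw [e.finrank_eq, finrank_prod, finrank_ker_of_transpose_mul A D hAD]
  exact ⟨_, rfl⟩

/-- the difference vectors `e_j - f_j` -/
def dv (F : Type*) [Field F] {m : ℕ} (j : Fin m) : Fin m ⊕ Fin m → F :=
  Pi.single (Sum.inl j) 1 - Pi.single (Sum.inr j) 1

theorem Q_dv (j : Fin m) : plusForm m F (dv F j) = -1 := (hypCoord_plus m F).Q_sub j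

theorem Q_dv_ne (j : Fin m) : plusForm m F (dv F j) ≠ 0 := by
  rw [Q_dv]; exact neg_ne_zero.2 one_ne_zero

/-- reflection swapping the `j`-th coordinates (`1` if `j ≥ m`) -/
noncomputable def rr (F : Type*) [Field F] (m : ℕ) (j : ℕ) :
    Cfsg.isometryGroup F (⇑(plusForm m F)) :=
  if h : j < m then reflIso (plusForm m F) (dv F ⟨j, h⟩) (Q_dv_ne _) else 1

/-- product of the first `n` swaps -/
noncomputable def ss (F : Type*) [Field F] (m : ℕ) : ℕ → Cfsg.isometryGroup F (⇑(plusForm m F))
  | 0 => 1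
  | n + 1 => ss F m n * rr F m n

theorem rr_of_lt {j : ℕ} (h : j < m) :
    rr F m j = reflIso (plusForm m F) (dv F ⟨j, h⟩) (Q_dv_ne _) := by
  rw [rr, dif_pos h]

theorem act_rr {j : ℕ} (h : j < m) (x : Fin m ⊕ Fin m → F) (k : Fin m ⊕ Fin m) :
    act (rr F m j) x k = if k = Sum.inl ⟨j, h⟩ then x (Sum.inr ⟨j, h⟩) else
      if k = Sum.inr ⟨j, h⟩ then x (Sum.inl ⟨j, h⟩) else x k := by
  rw [rr_of_lt h, act_def, coe_reflIso]
  exact (hypCoord_plus m F).refl_sub ⟨j, h⟩ x k

theorem act_ss {n : ℕ} (h : n ≤ m) (x : Fin m ⊕ Fin m → F) (i : Fin m) :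
    act (ss F m n) x (Sum.inl i) = (if (i : ℕ) < n then x (Sum.inr i) else x (Sum.inl i)) ∧
    act (ss F m n) x (Sum.inr i) = (if (i : ℕ) < n then x (Sum.inl i) else x (Sum.inr i)) := by
  induction n generalizing x with
  | zero =>
    rw [show ss F m 0 = 1 from rfl, act_one]
    simp
  | succ n ih =>
    have hn : n < m := h
    rw [show ss F m (n + 1) = ss F m n * rr F m n from rfl, act_mul]
    obtain ⟨h1, h2⟩ := ih (by omega) (act (rr F m n) x)
    rw [h1, h2, act_rr hn, act_rr hn]
    rcases lt_trichotomy (i : ℕ) n with h3 | h3 | h3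
    · have : i ≠ ⟨n, hn⟩ := fun e => by rw [e] at h3; exact lt_irrefl _ h3
      have h4 : (i : ℕ) < n + 1 := by omega
      simp [this, h3, h4]
    · have : i = ⟨n, hn⟩ := Fin.ext h3
      subst this
      simp
    · have : i ≠ ⟨n, hn⟩ := fun e => by rw [e] at h3; exact lt_irrefl _ h3
      have h4 : ¬ (i : ℕ) < n + 1 := by omega
      have h5 : ¬ (i : ℕ) < n := by omega
      simp [this, h4, h5]

theorem map_ss {C : Type*} [CommGroup C] (φ : Cfsg.isometryGroup F (⇑(plusForm m F)) →* C) (c : C)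
    (hφ : ∀ j, j < m → φ (rr F m j) = c) {n : ℕ} (h : n ≤ m) : φ (ss F m n) = c ^ n := by
  induction n with
  | zero => rw [show ss F m 0 = 1 from rfl, map_one, pow_zero]
  | succ n ih =>
    rw [show ss F m (n + 1) = ss F m n * rr F m n from rfl, map_mul, ih (by omega),
      hφ n (by omega), pow_succ]

theorem rr_mul_rr_mem [Fintype F] (h : Fintype.card F ≠ 2 ∨ m ≠ 2) {i j : ℕ} (hi : i < m)
    (hj : j < m) : rr F m i * rr F m j ∈ commutator (Cfsg.isometryGroup F (⇑(plusForm m F))) := by
  rw [rr_of_lt hi, rr_of_lt hj]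
  by_cases hij : i = j
  · subst hij
    rw [reflIso_mul_self]
    exact Subgroup.one_mem _
  by_cases h2 : (2 : F) = 0
  · refine refl_mul_refl_mem_two _ h2 (plus_nondegenerate m F) ?_ _ _ _ _
    rcases h with h | h
    · exact Or.inl (exists_ne_zero_ne_one h)
    · right
      rw [Fintype.card_sum, Fintype.card_fin]
      omega
  · refine refl_mul_refl_mem _ _ _ _ _ (by rw [Q_dv, Q_dv]) ?_
    rw [sub_eq_add_neg, map_add', QuadraticMap.map_neg, Q_dv, Q_dv, QuadraticMap.polar_neg_right]
    have hp : polar (⇑(plusForm m F)) (dv F ⟨i, hi⟩) (dv F ⟨j, hj⟩) = 0 := by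
      have hne : (⟨i, hi⟩ : Fin m) ≠ ⟨j, hj⟩ := fun e => hij (Fin.mk.inj_iff.1 e)
      rw [dv, QuadraticMap.polar_sub_left, (hypCoord_plus m F).pa, (hypCoord_plus m F).pb]
      simp [dv, hne, Pi.single_apply]
    rw [hp]
    intro h0
    apply h2
    linear_combination -h0

theorem ss_mem [Fintype F] (h : Fintype.card F ≠ 2 ∨ m ≠ 2) (hm : Even m) :
    ss F m m ∈ commutator (Cfsg.isometryGroup F (⇑(plusForm m F))) := by
  rcases Nat.eq_zero_or_pos m with h0 | h0
  · subst h0
    exact Subgroup.one_mem _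
  have h1 : Abelianization.of (ss F m m) = (Abelianization.of (rr F m 0)) ^ m := by
    refine map_ss Abelianization.of _ (fun j hj => ?_) le_rfl
    have h3 : Abelianization.of (rr F m j * rr F m 0) = 1 := by
      rw [← MonoidHom.mem_ker, Abelianization.ker_of]
      exact rr_mul_rr_mem h hj h0
    have h4 : Abelianization.of (rr F m 0 * rr F m 0) = 1 := by
      rw [← MonoidHom.mem_ker, Abelianization.ker_of]
      exact rr_mul_rr_mem h h0 h0
    rw [map_mul] at h3 h4
    exact mul_right_cancel (h3.trans h4.symm)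
  rw [← Abelianization.ker_of, MonoidHom.mem_ker, h1]
  obtain ⟨k, hk⟩ := hm
  have h4 : Abelianization.of (rr F m 0 * rr F m 0) = 1 := by
    rw [← MonoidHom.mem_ker, Abelianization.ker_of]
    exact rr_mul_rr_mem h h0 h0
  rw [map_mul, ← pow_two] at h4
  have h5 : m = 2 * k := by omega
  have h6 : (Abelianization.of (rr F m 0)) ^ (2 * k) = 1 := by rw [pow_mul, h4, one_pow]
  rw [← h6]
  congr 1

end Cfsg.Agent.H181.SwapPlus
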