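import Mathlib
import Cfsg.Agent.H181.LinComm
import Cfsg.Agent.LieRecognition.RankOneAbstract
import Cfsg.Agent.Lib.SolvableMinNormal

/-!
# Two conjugates of a torus element of a rank one group generating a non-solvable subgroup

`G` finite with a rank one Bruhat decomposition (`RankOneAbstract.Data B S w`), `S` a Sylow `p`-subgroup, `w² = 1`,
`x` of prime order `r > dim V` where `V` is a faithful `G`-module in characteristic `p`, `x` in the torus and inverted by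
`w`.  Then there is an involution `y` such that `⟨x, y x y⁻¹⟩` is not solvable.
-/

set_option autoImplicit false

namespace Cfsg.Agent.H181.TwoConj

open Cfsg.Agent.LieRecognition.RankOneAbstract Module
open scoped Pointwise

/-- Matrix version of `LinComm.main` over an arbitrary field. -/
theorem comm_of_rep {K V G : Type*} [Field K] [AddCommGroup V] [Module K V]
    [FiniteDimensional K V] [Group G] (ρ : G →* Module.End K V) (hρ : Function.Injective ρ)
    (A : Subgroup G) [Finite A]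
    (hcomm : ∀ a ∈ A, ∀ b ∈ A, a * b = b * a) (hcop : ((Nat.card A : ℕ) : K) ≠ 0) {x : G} {r : ℕ}
    (hr : r.Prime) (hxr : x ^ r = 1) (hdim : finrank K V < r) (hx : ∀ a ∈ A, x⁻¹ * a * x ∈ A) :
    ∀ a ∈ A, a * x = x * a := by
  set n := finrank K V with hn
  let b : Basis (Fin n) K V := Module.finBasis K V
  let L := AlgebraicClosure K
  let ρ' : G →* Module.End L (Fin n → L) :=
    ((Matrix.toLinAlgEquiv' (R := L) (n := Fin n)).toRingEquiv.toMonoidHom).comp
      (((algebraMap K L).mapMatrix (m := Fin n)).toMonoidHom.comp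
        ((LinearMap.toMatrixAlgEquiv b).toRingEquiv.toMonoidHom.comp ρ))
  have hinj : Function.Injective ρ' := by
    intro g h hgh
    have h1 := (Matrix.toLinAlgEquiv' (R := L) (n := Fin n)).injective hgh
    have h2 := Matrix.map_injective (algebraMap K L).injective h1
    exact hρ ((LinearMap.toMatrixAlgEquiv b).injective h2)
  have hcop' : ((Nat.card A : ℕ) : L) ≠ 0 := by
    rw [← map_natCast (algebraMap K L)]
    exact fun h => hcop ((map_eq_zero _).1 h)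
  have hd : finrank L (Fin n → L) < r := by
    rw [Module.finrank_fin_fun]; exact hdim
  intro a ha
  have h1 := hinj (LinComm.main ρ' A hcomm hcop' hr hxr hd hx a ha)
  calc a * x = x * (x⁻¹ * a * x) := by group
    _ = x * a := by rw [h1]

section rankone

variable {G : Type*} [Group G] {B S : Subgroup G} {w : G}

theorem exists_ne {P : Subgroup G} (hP : P ≠ ⊥) : ∃ z ∈ P, z ≠ 1 :=
  (Subgroup.bot_or_exists_ne_one P).resolve_left hP

theorem mem_or (D : Data B S w) {a : G} (ha : a ∈ B) (haw : w⁻¹ * a * w ∈ B)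
    (hfree : ∀ s ∈ S, a * s = s * a → s = 1) {g : G} (hg : g⁻¹ * a * g ∈ B) :
    g ∈ B ∨ w⁻¹ * g ∈ B := by
  by_cases hgB : g ∈ B
  · exact Or.inl hgB
  · right
    obtain ⟨s, hs, h⟩ := D.bruhat g hgB
    set b := (s * w)⁻¹ * g with hb
    have h1 : w⁻¹ * (s⁻¹ * a * s) * w ∈ B := by
      have h2 : b * (g⁻¹ * a * g) * b⁻¹ = w⁻¹ * (s⁻¹ * a * s) * w := by
        rw [hb]; group
      rw [← h2]
      exact mul_mem (mul_mem h hg) (inv_mem h)
    have h3 : w⁻¹ * (a⁻¹ * s⁻¹ * a * s) * w ∈ B := by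
      have h4 : w⁻¹ * (a⁻¹ * s⁻¹ * a * s) * w = (w⁻¹ * a * w)⁻¹ * (w⁻¹ * (s⁻¹ * a * s) * w) := by
        group
      rw [h4]
      exact mul_mem (inv_mem haw) h1
    have h5 : a⁻¹ * s⁻¹ * a * s ∈ S := by
      have h6 := D.norm a⁻¹ (inv_mem ha) s⁻¹ (inv_mem hs)
      rw [inv_inv] at h6
      exact mul_mem h6 hs
    have h7 := D.inter _ h5 h3
    have h8 : a * s = s * a := by
      calc a * s = s * a * (a⁻¹ * s⁻¹ * a * s) := by group
        _ = s * a := by rw [h7, mul_one]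
    have h9 := hfree s hs h8
    have h10 : w⁻¹ * g = b := by rw [hb, h9]; group
    rw [h10]; exact h

theorem ti (D : Data B S w) {s g : G} (hs : s ∈ S) (hs1 : s ≠ 1) (hg : g * s * g⁻¹ ∈ S) : g ∈ B := by
  by_contra hgB
  obtain ⟨t, ht, h⟩ := D.bruhat g hgB
  set b := (t * w)⁻¹ * g with hb
  have h1 : b * s * b⁻¹ ∈ S := D.norm b h s hs
  have h2 : w * (b * s * b⁻¹) * w⁻¹ ∈ S := by
    have h3 : w * (b * s * b⁻¹) * w⁻¹ = t⁻¹ * (g * s * g⁻¹) * t := by rw [hb]; group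
    rw [h3]
    exact mul_mem (mul_mem (inv_mem ht) hg) ht
  have h4 := D.inter _ h2 (by
    have h5 : w⁻¹ * (w * (b * s * b⁻¹) * w⁻¹) * w = b * s * b⁻¹ := by group
    rw [h5]; exact D.le h1)
  apply hs1
  have h6 : b * s * b⁻¹ = 1 := by
    calc b * s * b⁻¹ = w⁻¹ * (w * (b * s * b⁻¹) * w⁻¹) * w := by group
      _ = 1 := by rw [h4]; group
  calc s = b⁻¹ * (b * s * b⁻¹) * b := by group
    _ = 1 := by rw [h6]; group

theorem fix_of_norm (D : Data B S w) {a : G} (ha : a ∈ B) (haw : w⁻¹ * a * w ∈ B)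
    (hfree : ∀ s ∈ S, a * s = s * a → s = 1) {P : Subgroup G} (hP : P ≠ ⊥)
    (hn : ∀ z ∈ P, a * z * a⁻¹ ∈ P) {g : G} (hg : ∀ z ∈ P, g⁻¹ * z * g ∈ S) :
    g ∈ B ∨ w⁻¹ * g ∈ B := by
  obtain ⟨z, hz, hz1⟩ := exists_ne hP
  refine mem_or D ha haw hfree ?_
  refine ti D (s := g⁻¹ * z * g) (hg z hz) ?_ ?_
  · intro h
    apply hz1
    calc z = g * (g⁻¹ * z * g) * g⁻¹ := by group
      _ = 1 := by rw [h]; group
  · have h1 := hg _ (hn z hz)
    have h2 : g⁻¹ * a * g * (g⁻¹ * z * g) * (g⁻¹ * a * g)⁻¹ = g⁻¹ * (a * z * a⁻¹) * g := by group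
    rw [h2]; exact h1

theorem not_solvable [Finite G] (D : Data B S w) {p : ℕ} [Fact p.Prime] (hS : IsPGroup p S)
    (hidx : ¬ p ∣ S.index)
    (hfree : ∀ a ∈ B, w⁻¹ * a * w ∈ B → a ≠ 1 → ∀ s ∈ S, a * s = s * a → s = 1)
    {x : G} (hxB : x ∈ B) (hxw : w⁻¹ * x * w ∈ B) {r : ℕ} (hr : r.Prime) (hxr : orderOf x = r)
    (hC : ∀ a, a * x = x * a → a ∈ B ∧ w⁻¹ * a * w ∈ B)
    {K V : Type*} [Field K] [CharP K p] [AddCommGroup V] [Module K V] [FiniteDimensional K V]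
    (ρ : G →* Module.End K V) (hρ : Function.Injective ρ) (hdim : finrank K V < r)
    {y : G} (hy1 : y ∉ B) (hy2 : w⁻¹ * y ∉ B) (hy3 : y * w ∉ B) (hy4 : w⁻¹ * y * w ∉ B) :
    ¬ Group.IsSolvable (Subgroup.closure ({x, y * x * y⁻¹} : Set G)) := by
  intro hsol
  have hx1 : x ≠ 1 := by
    rintro rfl
    rw [orderOf_one] at hxr
    exact hr.ne_one hxr.symm
  set H : Subgroup G := Subgroup.closure ({x, y * x * y⁻¹} : Set G) with hH
  have hxH : x ∈ H := Subgroup.subset_closure (by simp)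
  have hx'H : y * x * y⁻¹ ∈ H := Subgroup.subset_closure (by simp)
  have hnt : Nontrivial H := by
    refine ⟨⟨⟨x, hxH⟩, 1, fun h => hx1 (congrArg Subtype.val h)⟩⟩
  obtain ⟨q, hq, P, hPc, hPcomm, hPq, hPne⟩ :=
    Cfsg.Agent.Lib.SolvableMinNormal.exists_characteristic_pgroup (G := H)
  have hPn : P.Normal := inferInstance
  set A : Subgroup G := P.map H.subtype with hA
  have hAne : A ≠ ⊥ := by
    intro h
    exact hPne ((Subgroup.map_eq_bot_iff_of_injective _ H.subtype_injective).1 h)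
  have hAq : IsPGroup q A := hPq.map _
  have hAn : ∀ h ∈ H, ∀ z ∈ A, h * z * h⁻¹ ∈ A := by
    rintro h hh _ ⟨z, hz, rfl⟩
    exact ⟨⟨h, hh⟩ * z * ⟨h, hh⟩⁻¹, hPn.conj_mem z hz ⟨h, hh⟩, rfl⟩
  have hAcomm : ∀ a ∈ A, ∀ b ∈ A, a * b = b * a := by
    rintro _ ⟨a, ha, rfl⟩ _ ⟨b, hb, rfl⟩
    have h1 : a * b = b * a := congrArg Subtype.val
      (hPcomm.is_comm.comm (⟨a, ha⟩ : P) (⟨b, hb⟩ : P))
    rw [← map_mul, h1, map_mul]
  have hfreex := hfree x hxB hxw hx1
  by_cases hqp : q = p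
  · subst hqp
    -- a Sylow subgroup containing `A`
    obtain ⟨Q, hQ⟩ := hAq.exists_le_sylow
    let S' : Sylow q G := hS.toSylow hidx
    obtain ⟨g, hg⟩ := MulAction.exists_smul_eq G S' Q
    have hgA : ∀ z ∈ A, g⁻¹ * z * g ∈ S := by
      intro z hz
      have h1 : z ∈ (g • S' : Sylow q G) := by rw [hg]; exact hQ hz
      rw [Sylow.smul_def] at h1
      have h2 : z ∈ MulAut.conj g • (S' : Subgroup G) := h1
      rw [Subgroup.mem_smul_pointwise_iff_exists] at h2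
      obtain ⟨s, hs, rfl⟩ := h2
      have h3 : g⁻¹ * (MulAut.conj g • s) * g = s := by
        show g⁻¹ * (g * s * g⁻¹) * g = s
        group
      rw [h3]
      exact hs
    have h1 := fix_of_norm D hxB hxw hfreex hAne (hAn x hxH) hgA
    have h2 : y⁻¹ * g ∈ B ∨ w⁻¹ * (y⁻¹ * g) ∈ B := by
      set A' : Subgroup G := A.map (MulAut.conj y⁻¹).toMonoidHom with hA'
      refine fix_of_norm D hxB hxw hfreex (P := A') ?_ ?_ ?_
      · intro h
        exact hAne ((Subgroup.map_eq_bot_iff_of_injective _ (MulAut.conj y⁻¹).injective).1 h)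
      · rintro _ ⟨z, hz, rfl⟩
        refine ⟨(y * x * y⁻¹) * z * (y * x * y⁻¹)⁻¹, hAn _ hx'H z hz, ?_⟩
        show y⁻¹ * ((y * x * y⁻¹) * z * (y * x * y⁻¹)⁻¹) * y⁻¹⁻¹ = x * (y⁻¹ * z * y⁻¹⁻¹) * x⁻¹
        group
      · rintro _ ⟨z, hz, rfl⟩
        have h3 : (y⁻¹ * g)⁻¹ * ((MulAut.conj y⁻¹).toMonoidHom z) * (y⁻¹ * g) = g⁻¹ * z * g := by
          show (y⁻¹ * g)⁻¹ * (y⁻¹ * z * y⁻¹⁻¹) * (y⁻¹ * g) = g⁻¹ * z * g
          group
        rw [h3]
        exact hgA z hz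
    rcases h1 with h1 | h1 <;> rcases h2 with h2 | h2
    · apply hy1
      have : y = g * (y⁻¹ * g)⁻¹ := by group
      rw [this]; exact mul_mem h1 (inv_mem h2)
    · apply hy3
      have : y * w = g * (w⁻¹ * (y⁻¹ * g))⁻¹ := by group
      rw [this]; exact mul_mem h1 (inv_mem h2)
    · apply hy2
      have : w⁻¹ * y = w⁻¹ * g * (y⁻¹ * g)⁻¹ := by group
      rw [this]; exact mul_mem h1 (inv_mem h2)
    · apply hy4
      have : w⁻¹ * y * w = w⁻¹ * g * (w⁻¹ * (y⁻¹ * g))⁻¹ := by group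
      rw [this]; exact mul_mem h1 (inv_mem h2)
  · have hcop : ((Nat.card A : ℕ) : K) ≠ 0 := by
      have : Fact q.Prime := ⟨hq⟩
      obtain ⟨n, hn⟩ := IsPGroup.iff_card.1 hAq
      rw [hn]
      intro h
      rw [CharP.cast_eq_zero_iff K p] at h
      exact hqp ((Nat.prime_dvd_prime_iff_eq (Fact.out) hq).1
        ((Fact.out : p.Prime).dvd_of_dvd_pow h)).symm
    have hxr' : x ^ r = 1 := by rw [← hxr, pow_orderOf_eq_one]
    have hinvn : ∀ h ∈ H, ∀ z ∈ A, h⁻¹ * z * h ∈ A := by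
      intro h hh z hz
      have := hAn h⁻¹ (inv_mem hh) z hz
      rwa [inv_inv] at this
    have hc1 := comm_of_rep ρ hρ A hAcomm hcop hr hxr' hdim (hinvn x hxH)
    have hc2 := comm_of_rep ρ hρ A hAcomm hcop hr (x := y * x * y⁻¹)
      (by rw [conj_pow, hxr']; group) hdim (hinvn _ hx'H)
    obtain ⟨a, ha, ha1⟩ := exists_ne hAne
    obtain ⟨haB, haw⟩ := hC a (hc1 a ha)
    have h1 : y⁻¹ * a * y ∈ B := by
      refine (hC (y⁻¹ * a * y) ?_).1
      have h2 := hc2 a ha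
      calc y⁻¹ * a * y * x = y⁻¹ * (a * (y * x * y⁻¹)) * y := by group
        _ = y⁻¹ * ((y * x * y⁻¹) * a) * y := by rw [h2]
        _ = x * (y⁻¹ * a * y) := by group
    rcases mem_or D haB haw (hfree a haB haw ha1) h1 with h | h
    · exact hy1 h
    · exact hy2 h

/-- The main result. -/
theorem exists_involution [Finite G] (D : Data B S w) (hw : w * w = 1) {p : ℕ} [Fact p.Prime]
    (hS : IsPGroup p S) (hS1 : S ≠ ⊥) (hidx : ¬ p ∣ S.index)
    (hfree : ∀ a ∈ B, w⁻¹ * a * w ∈ B → a ≠ 1 → ∀ s ∈ S, a * s = s * a → s = 1)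
    {x : G} (hxB : x ∈ B) (hxw : w * x * w = x⁻¹) {r : ℕ} (hr : r.Prime) (hr2 : r ≠ 2)
    (hxr : orderOf x = r)
    (hC : ∀ a, a * x = x * a → a ∈ B ∧ w⁻¹ * a * w ∈ B)
    {K V : Type*} [Field K] [CharP K p] [AddCommGroup V] [Module K V] [FiniteDimensional K V]
    (ρ : G →* Module.End K V) (hρ : Function.Injective ρ) (hdim : finrank K V < r) :
    ∃ y : G, y ^ 2 = 1 ∧
      ¬ Group.IsSolvable (Subgroup.closure ({x, y * x * y⁻¹} : Set G)) := by
  have hwi : w⁻¹ = w := inv_eq_of_mul_eq_one_right hw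
  have hxw' : w⁻¹ * x * w ∈ B := by rw [hwi, hxw]; exact inv_mem hxB
  have hx1 : x ≠ 1 := by
    rintro rfl
    rw [orderOf_one] at hxr
    exact hr.ne_one hxr.symm
  have hx2 : x * x ≠ 1 := by
    intro h
    have h1 : orderOf x ∣ 2 := orderOf_dvd_of_pow_eq_one (by rw [sq]; exact h)
    rw [hxr] at h1
    exact hr2 ((Nat.prime_dvd_prime_iff_eq hr Nat.prime_two).1 h1)
  obtain ⟨s, hs, hs1⟩ := exists_ne hS1
  -- general facts about `t w t⁻¹`
  have key : ∀ t ∈ S, t ≠ 1 → w⁻¹ * (t * w * t⁻¹) * w ∉ B → (t * w * t⁻¹) ^ 2 = 1 ∧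
      ¬ Group.IsSolvable (Subgroup.closure ({x, (t * w * t⁻¹) * x * (t * w * t⁻¹)⁻¹} : Set G)) := by
    intro t ht ht1 h4
    refine ⟨?_, ?_⟩
    · rw [conj_pow, sq, hw]; group
    · refine not_solvable D hS hidx hfree hxB hxw' hr hxr hC ρ hρ hdim ?_ ?_ ?_ h4
      · intro h
        apply D.w_not_mem
        have h1 : w = t⁻¹ * (t * w * t⁻¹) * t := by group
        rw [h1]
        exact mul_mem (mul_mem (inv_mem (D.le ht)) h) (D.le ht)
      · intro h
        apply ht1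
        refine D.inter t ht ?_
        have h1 : w⁻¹ * t * w = w⁻¹ * (t * w * t⁻¹) * t := by group
        rw [h1]
        exact mul_mem h (D.le ht)
      · intro h
        apply ht1
        have h1 : t⁻¹ = 1 := by
          refine D.inter t⁻¹ (inv_mem ht) ?_
          have h2 : w⁻¹ * t⁻¹ * w = t⁻¹ * (t * w * t⁻¹ * w) := by rw [hwi]; group
          rw [h2]
          exact mul_mem (inv_mem (D.le ht)) h
        exact inv_eq_one.1 h1
  by_cases h1 : w⁻¹ * (s * w * s⁻¹) * w ∈ B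
  · -- use the conjugate of `s` by `x`
    set t := x * s * x⁻¹ with ht
    have htS : t ∈ S := D.norm x hxB s hs
    have ht1 : t ≠ 1 := by
      intro h
      apply hs1
      calc s = x⁻¹ * (x * s * x⁻¹) * x := by group
        _ = 1 := by rw [← ht, h]; group
    refine ⟨t * w * t⁻¹, key t htS ht1 ?_⟩
    intro h2
    apply hx2
    -- `w s x² s⁻¹ w ∈ B`
    set b := w⁻¹ * (s * w * s⁻¹) * w with hb
    have hxinv : w * x⁻¹ * w = x := by
      have : w * x⁻¹ * w = (w * x * w)⁻¹ := by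
        rw [mul_inv_rev, mul_inv_rev, hwi, mul_assoc]
      rw [this, hxw, inv_inv]
    have hwxw : w * x = x⁻¹ * w := by
      calc w * x = (w * x * w) * w := by rw [mul_assoc _ w w, hw, mul_one]
        _ = x⁻¹ * w := by rw [hxw]
    have hwxiw : w * x⁻¹ = x * w := by
      calc w * x⁻¹ = (w * x⁻¹ * w) * w := by rw [mul_assoc _ w w, hw, mul_one]
        _ = x * w := by rw [hxinv]
    have hws : w * s * w = b * w * s := by
      rw [hb, hwi]
      calc w * s * w = w * (s * w * s⁻¹) * (w * w) * s := by rw [hw]; group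
        _ = w * (s * w * s⁻¹) * w * w * s := by group
    have h3 : w⁻¹ * (t * w * t⁻¹) * w = x⁻¹ * b * (w * s * (x * x) * s⁻¹ * w) * x := by
      rw [hwi, ht]
      calc w * (x * s * x⁻¹ * w * (x * s * x⁻¹)⁻¹) * w
          = (w * x) * s * (x⁻¹ * w) * (x * s⁻¹ * x⁻¹) * w := by group
        _ = (x⁻¹ * w) * s * (w * x) * (x * s⁻¹ * x⁻¹) * w := by rw [hwxw]
        _ = x⁻¹ * (w * s * w) * (x * x) * s⁻¹ * (x⁻¹ * w) := by group
        _ = x⁻¹ * (b * w * s) * (x * x) * s⁻¹ * (w * x) := by rw [hws, hwxw]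
        _ = _ := by group
    rw [h3] at h2
    have h4 : w * s * (x * x) * s⁻¹ * w ∈ B := by
      have h5 := mul_mem (mul_mem (inv_mem (mul_mem (inv_mem hxB) h1)) h2) (inv_mem hxB)
      have h6 : (x⁻¹ * b)⁻¹ * (x⁻¹ * b * (w * s * (x * x) * s⁻¹ * w) * x) * x⁻¹ =
          w * s * (x * x) * s⁻¹ * w := by group
      rw [h6] at h5
      exact h5
    have h7 : w⁻¹ * (x * x) * w ∈ B := by
      have h8 : w⁻¹ * (x * x) * w = (w⁻¹ * x * w) * (w⁻¹ * x * w) := by group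
      rw [h8]
      exact mul_mem hxw' hxw'
    have h9 : w⁻¹ * (s * (x * x) * s⁻¹ * (x * x)⁻¹) * w ∈ B := by
      have h10 : w⁻¹ * (s * (x * x) * s⁻¹ * (x * x)⁻¹) * w =
          (w⁻¹ * s * (x * x) * s⁻¹ * w) * (w⁻¹ * (x * x) * w)⁻¹ := by group
      rw [h10, hwi]
      rw [hwi] at h7
      exact mul_mem h4 (inv_mem h7)
    have h11 : s * (x * x) * s⁻¹ * (x * x)⁻¹ ∈ S := by
      have h12 := D.norm (x * x) (mul_mem hxB hxB) s⁻¹ (inv_mem hs)
      have h13 : s * (x * x) * s⁻¹ * (x * x)⁻¹ = s * ((x * x) * s⁻¹ * (x * x)⁻¹) := by group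
      rw [h13]
      exact mul_mem hs h12
    have h14 := D.inter _ h11 h9
    by_contra hxx
    apply hs1
    refine hfree (x * x) (mul_mem hxB hxB) h7 hxx s hs ?_
    have h15 := mul_inv_eq_one.1 h14
    calc x * x * s = s * (x * x) * s⁻¹ * s := by rw [h15]
      _ = s * (x * x) := by rw [inv_mul_cancel_right]
  · exact ⟨s * w * s⁻¹, key s hs hs1 h1⟩

end rankone

end Cfsg.Agent.H181.TwoConj
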