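import Mathlib
import Cfsg.Agent.H181.TwoConj
import Cfsg.Agent.ThreePrime.SzRel
import Cfsg.Agent.S1162

/-!
# Version with a torus, and the Suzuki groups
-/

set_option autoImplicit false

namespace Cfsg.Agent.H181.TwoConj

open Cfsg.Agent.LieRecognition.RankOneAbstract Module

section torus

variable {G : Type*} [Group G] {B S : Subgroup G} {w : G}

theorem mem_torus (D : Data B S w) (hw : w * w = 1) {T : Subgroup G} (hTB : T ≤ B)
    (hTw : ∀ t ∈ T, w * t * w = t⁻¹) (hBT : ∀ b ∈ B, ∃ s ∈ S, s⁻¹ * b ∈ T) {a : G} (ha : a ∈ B)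
    (haw : w⁻¹ * a * w ∈ B) : a ∈ T := by
  have hwi : w⁻¹ = w := inv_eq_of_mul_eq_one_right hw
  obtain ⟨s, hs, ht⟩ := hBT a ha
  have h1 : w⁻¹ * s * w ∈ B := by
    have h2 : w⁻¹ * s * w = (w⁻¹ * a * w) * (w * (s⁻¹ * a) * w)⁻¹ := by
      rw [hwi, mul_inv_rev, mul_inv_rev, hwi]
      calc w * s * w = w * a * (w * w) * (a⁻¹ * s) * w := by rw [hw]; group
        _ = _ := by group
    rw [h2, hTw _ ht, inv_inv]
    exact mul_mem haw (hTB ht)
  have h3 := D.inter s hs h1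
  rw [h3] at ht
  simpa using ht

theorem exists_involution_torus [Finite G] (D : Data B S w) (hw : w * w = 1) {p : ℕ} [Fact p.Prime]
    (hS : IsPGroup p S) (hS1 : S ≠ ⊥) (hidx : ¬ p ∣ S.index)
    {T : Subgroup G} (hTB : T ≤ B) (hTc : ∀ s ∈ T, ∀ t ∈ T, s * t = t * s)
    (hTw : ∀ t ∈ T, w * t * w = t⁻¹) (hBT : ∀ b ∈ B, ∃ s ∈ S, s⁻¹ * b ∈ T)
    (hfree : ∀ t ∈ T, t ≠ 1 → ∀ s ∈ S, t * s = s * t → s = 1)
    {x : G} (hxT : x ∈ T) {r : ℕ} (hr : r.Prime) (hr2 : r ≠ 2) (hxr : orderOf x = r)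
    {K V : Type*} [Field K] [CharP K p] [AddCommGroup V] [Module K V] [FiniteDimensional K V]
    (ρ : G →* Module.End K V) (hρ : Function.Injective ρ) (hdim : finrank K V < r) :
    ∃ y : G, y ^ 2 = 1 ∧
      ¬ Group.IsSolvable (Subgroup.closure ({x, y * x * y⁻¹} : Set G)) := by
  have hwi : w⁻¹ = w := inv_eq_of_mul_eq_one_right hw
  have hx1 : x ≠ 1 := by
    rintro rfl
    rw [orderOf_one] at hxr
    exact hr.ne_one hxr.symm
  have hx2 : x * x ≠ 1 := by
    intro h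
    have h1 : orderOf x ∣ 2 := orderOf_dvd_of_pow_eq_one (by rw [sq]; exact h)
    rw [hxr] at h1
    exact hr2 ((Nat.prime_dvd_prime_iff_eq hr Nat.prime_two).1 h1)
  have hST : ∀ t ∈ T, t ∈ S → t = 1 := by
    intro t htT htS
    by_contra h
    exact h (hfree t htT h t htS rfl)
  have hfx : ∀ s ∈ S, x * s = s * x → s = 1 := hfree x hxT hx1
  have hcomB : ∀ a ∈ B, a * x = x * a → a ∈ T := by
    intro a ha hax
    obtain ⟨s, hs, ht⟩ := hBT a ha
    have h1 : s = 1 := by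
      refine hfx s hs ?_
      have h2 := hTc _ ht x hxT
      calc x * s = (a * x * a⁻¹) * s := by rw [hax]; group
        _ = s * ((s⁻¹ * a) * x) * (s⁻¹ * a)⁻¹ := by group
        _ = s * (x * (s⁻¹ * a)) * (s⁻¹ * a)⁻¹ := by rw [h2]
        _ = s * x := by group
    rw [h1] at ht
    simpa using ht
  have hTw' : ∀ t ∈ T, w⁻¹ * t * w ∈ B := by
    intro t ht
    rw [hwi, hTw t ht]
    exact inv_mem (hTB ht)
  refine exists_involution D hw hS hS1 hidx ?_ (hTB hxT) (hTw x hxT) hr hr2 hxr ?_ ρ hρ hdim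
  · intro a ha haw ha1
    exact hfree a (mem_torus D hw hTB hTw hBT ha haw) ha1
  · intro a hax
    have h1 : a⁻¹ * x * a ∈ B := by
      have : a⁻¹ * x * a = x := by rw [mul_assoc, ← hax]; group
      rw [this]; exact hTB hxT
    have haT : a ∈ T := by
      rcases mem_or D (hTB hxT) (hTw' x hxT) hfx h1 with h | h
      · exact hcomB a h hax
      · exfalso
        set b := w⁻¹ * a with hb
        have h2 : b * x * b⁻¹ = x⁻¹ := by
          calc b * x * b⁻¹ = w⁻¹ * (a * x) * a⁻¹ * w := by rw [hb]; group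
            _ = w⁻¹ * x * w := by rw [hax]; group
            _ = x⁻¹ := by rw [hwi, hTw x hxT]
        obtain ⟨s, hs, ht⟩ := hBT b h
        have h3 : s * x * s⁻¹ = x⁻¹ := by
          have h4 := hTc _ ht x hxT
          calc s * x * s⁻¹ = s * (x * (s⁻¹ * b)) * (s⁻¹ * b)⁻¹ * s⁻¹ := by group
            _ = s * ((s⁻¹ * b) * x) * (s⁻¹ * b)⁻¹ * s⁻¹ := by rw [h4]
            _ = b * x * b⁻¹ := by group
            _ = x⁻¹ := h2
        have h5 : s * (x * s⁻¹ * x⁻¹) ∈ S :=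
          mul_mem hs (D.norm x (hTB hxT) s⁻¹ (inv_mem hs))
        have h6 : s * (x * s⁻¹ * x⁻¹) = (x * x)⁻¹ := by
          calc s * (x * s⁻¹ * x⁻¹) = (s * x * s⁻¹) * x⁻¹ := by group
            _ = x⁻¹ * x⁻¹ := by rw [h3]
            _ = (x * x)⁻¹ := by rw [mul_inv_rev]
        rw [h6] at h5
        have h7 := hST _ (inv_mem (mul_mem hxT hxT)) h5
        exact hx2 (inv_eq_one.1 h7)
    exact ⟨hTB haT, hTw' a haT⟩

end torus

section suzuki

open Cfsg.Agent.LieRecognition.SzMatrix Cfsg.Agent.ThreePrime.SzRel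

variable {F : Type} [Field F] [Fintype F] {m : ℕ}

theorem suzuki (hm : 1 ≤ m) (hF : Fintype.card F = 2 ^ (2 * m + 1)) :
    ∃ (x y : ↥(Cfsg.Lie.Sz F (2 ^ (m + 1)))) (r : ℕ), r.Prime ∧ r ≠ 2 ∧ orderOf x = r ∧ y ^ 2 = 1 ∧
      ¬ Group.IsSolvable (Subgroup.closure ({x, y * x * y⁻¹} : Set ↥(Cfsg.Lie.Sz F (2 ^ (m + 1))))) := by
  classical
  set H := good hF with hH
  have hcardF : Nat.card F = 2 ^ (2 * m + 1) := by rw [Nat.card_eq_fintype_card, hF]
  -- a prime divisor of `q - 1`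
  obtain ⟨r, hr, hrd⟩ : ∃ r : ℕ, r.Prime ∧ r ∣ 2 ^ (2 * m + 1) - 1 := by
    refine Nat.exists_prime_and_dvd ?_
    have : 2 ^ 3 ≤ 2 ^ (2 * m + 1) := Nat.pow_le_pow_right (by norm_num) (by omega)
    omega
  have hpos : 1 ≤ 2 ^ (2 * m + 1) := Nat.one_le_two_pow
  have hr2 : r ≠ 2 := by
    rintro rfl
    have h1 : 2 ∣ 2 ^ (2 * m + 1) := dvd_pow_self 2 (by omega)
    omega
  have hr3 : r ≠ 3 := by
    rintro rfl
    have h1 : 2 ^ (2 * m + 1) % 3 = 2 := by
      rw [pow_add, pow_mul, Nat.mul_mod, Nat.pow_mod]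
      norm_num
    omega
  have hr5 : 4 < r := by
    have h2 := hr.two_le
    have h4 : r ≠ 4 := by rintro rfl; exact absurd hr (by norm_num)
    omega
  have : Fact r.Prime := ⟨hr⟩
  have hcU : Nat.card Fˣ = 2 ^ (2 * m + 1) - 1 := by
    rw [Nat.card_eq_fintype_card, Fintype.card_units, hF]
  obtain ⟨k, hk⟩ := exists_prime_orderOf_dvd_card' (G := Fˣ) r (by rw [hcU]; exact hrd)
  let dHom : Fˣ →* ↥(Cfsg.Lie.Sz F (2 ^ (m + 1))) :=
    { toFun := fun k => H.d k
      map_one' := H.d_one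
      map_mul' := fun a b => (H.d_mul a b).symm }
  have hdinj : Function.Injective dHom := fun a b h => H.d_inj h
  have hwd : ∀ k : Fˣ, H.w * H.d k * H.w = (H.d k)⁻¹ := by
    intro k
    rw [H.w_mul_d, mul_assoc, H.w_mul_w, mul_one, H.d_inv]
  have h2F : CharP F 2 := by
    have h1 : ringChar F ∣ 2 ^ (2 * m + 1) := by
      rw [← hF]
      exact (CharP.cast_eq_zero_iff F (ringChar F) (Fintype.card F)).1 (FiniteField.cast_card_eq_zero F)
    have hp : (ringChar F).Prime := CharP.char_is_prime F (ringChar F)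
    have h2 : ringChar F = 2 := (Nat.prime_dvd_prime_iff_eq hp Nat.prime_two).1 (hp.dvd_of_dvd_pow h1)
    rw [← h2]; exact ringChar.charP F
  have hcardu : Nat.card H.unip = 2 ^ ((2 * m + 1) * 2) := by rw [H.card_unip, hcardF, pow_mul]
  have hS : IsPGroup 2 H.unip := IsPGroup.of_card hcardu
  have hS1 : H.unip ≠ ⊥ := by
    intro h
    rw [h, Subgroup.card_bot] at hcardu
    have := Nat.one_lt_two_pow (n := (2 * m + 1) * 2) (by omega)
    omega
  have hidx : ¬ 2 ∣ H.unip.index := by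
    have D := Cfsg.Agent.S1162.data_sz H
    have h1 := D.index
    have h2 : H.unip.relIndex H.borel * H.borel.index = H.unip.index :=
      Subgroup.relIndex_mul_index D.le
    have h3 : Nat.card H.unip * H.unip.relIndex H.borel = Nat.card H.borel := by
      have h5 := Subgroup.relIndex_mul_relIndex ⊥ H.unip H.borel bot_le D.le
      rwa [Subgroup.relIndex_bot_left, Subgroup.relIndex_bot_left] at h5
    rw [H.card_borel, H.card_unip] at h3
    have hq0 : 0 < Nat.card F ^ 2 := by rw [hcardF]; positivity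
    have h4 : H.unip.relIndex H.borel = Nat.card F - 1 := Nat.eq_of_mul_eq_mul_left hq0 h3
    rw [← h2, h1, h4, H.card_unip, hcardF]
    intro h
    rcases (Nat.Prime.dvd_mul Nat.prime_two).1 h with h5 | h5
    · have : 2 ∣ 2 ^ (2 * m + 1) := dvd_pow_self 2 (by omega)
      omega
    · have : 2 ∣ (2 ^ (2 * m + 1)) ^ 2 := Dvd.dvd.pow (dvd_pow_self 2 (by omega)) (by norm_num)
      omega
  have hord : orderOf (H.d k) = r := by
    have : orderOf (dHom k) = r := by rw [orderOf_injective dHom hdinj, hk]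
    exact this
  let ρ : ↥(Cfsg.Lie.Sz F (2 ^ (m + 1))) →* Module.End F (Fin 4 → F) :=
    ((Matrix.toLinAlgEquiv' (R := F) (n := Fin 4)).toRingEquiv.toMonoidHom).comp
      ((Units.coeHom (Matrix (Fin 4) (Fin 4) F)).comp (Cfsg.Lie.Sz F (2 ^ (m + 1))).subtype)
  have hρ : Function.Injective ρ := by
    intro g h hgh
    have h1 := (Matrix.toLinAlgEquiv' (R := F) (n := Fin 4)).injective hgh
    exact Subtype.ext (Units.ext h1)
  obtain ⟨y, hy, hyn⟩ := exists_involution_torus (Cfsg.Agent.S1162.data_sz H) H.w_mul_w (p := 2)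
    hS hS1 hidx (T := dHom.range) (by
      rintro _ ⟨k, rfl⟩
      exact H.d_mem_borel k) (by
      rintro _ ⟨k, rfl⟩ _ ⟨l, rfl⟩
      rw [← map_mul, ← map_mul, mul_comm]) (by
      rintro _ ⟨k, rfl⟩
      exact hwd k) (by
      intro b hb
      obtain ⟨a, c, k, rfl⟩ := (H.mem_borel_iff' b).1 hb
      exact ⟨H.u a c, H.u_mem_unip a c, ⟨k, by rw [inv_mul_cancel_left]; rfl⟩⟩) (by
      rintro _ ⟨k, rfl⟩ hk1 s hs hks
      obtain ⟨a, c, rfl⟩ := (H.mem_unip_iff s).1 hs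
      have h1 : H.d k * H.u a c * (H.d k)⁻¹ = H.u a c := by
        have h2 : H.d k * H.u a c = H.u a c * H.d k := hks
        rw [h2, mul_inv_cancel_right]
      rcases (ofGood H).fpf (k := k) (a := a) (b := c) h1 with h3 | ⟨h3, h4⟩
      · exfalso
        apply hk1
        rw [h3]; exact map_one dHom
      · rw [h3, h4]; exact H.u_zero) (x := H.d k) ⟨k, rfl⟩ hr hr2 hord ρ hρ (by
      rw [Module.finrank_fin_fun]; exact hr5)
  exact ⟨H.d k, y, r, hr, hr2, hord, hy, hyn⟩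

end suzuki

end Cfsg.Agent.H181.TwoConj
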