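import Mathlib
import Cfsg.Agent.H181.TwoConjTorus
import Cfsg.Agent.HKS.EndL
import Cfsg.Agent.ClassicalGeometry.PSL2Basic
import Cfsg.Agent.ClassicalGeometry.PSL2Solvable

/-!
# Two conjugates generating a non-solvable subgroup of `PSL(2, q)`
-/

set_option autoImplicit false
set_option linter.unusedSectionVars false
set_option linter.unusedSimpArgs false

namespace Cfsg.Agent.H181.TwoConj

open Cfsg.Agent.LieRecognition.RankOneAbstract Module Matrix Cfsg.Agent.HKS.EndL Subgroup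

variable {F : Type} [Field F] [Fintype F]

theorem psl_torus {ℓ f : ℕ} (hℓ : ℓ.Prime) (hf : 1 ≤ f) (hF : Fintype.card F = ℓ ^ f) {r : ℕ}
    (hr : r.Prime) (hr2 : r ≠ 2) (hrd : r ∣ ℓ ^ f - 1)
    {V : Type} [AddCommGroup V] [Module F V] [FiniteDimensional F V]
    (ρ : ProjectiveSpecialLinearGroup (Fin 2) F →* Module.End F V) (hρ : Function.Injective ρ)
    (hdim : finrank F V < r) :
    ∃ (x y : ProjectiveSpecialLinearGroup (Fin 2) F), orderOf x = r ∧ y ^ 2 = 1 ∧
      ¬ Group.IsSolvable (Subgroup.closure ({x, y * x * y⁻¹} :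
        Set (ProjectiveSpecialLinearGroup (Fin 2) F))) := by
  classical
  have : Fact r.Prime := ⟨hr⟩
  have : Fact ℓ.Prime := ⟨hℓ⟩
  have hcU : Nat.card Fˣ = ℓ ^ f - 1 := by
    rw [Nat.card_eq_fintype_card, Fintype.card_units, hF]
  have hq1 : 1 < ℓ ^ f := Nat.one_lt_pow (by omega) hℓ.one_lt
  obtain ⟨k, hk⟩ := exists_prime_orderOf_dvd_card' (G := Fˣ) r (by rw [hcU]; exact hrd)
  have hchar : CharP F ℓ := by
    have h1 : ringChar F ∣ ℓ ^ f := by
      rw [← hF]
      exact (CharP.cast_eq_zero_iff F (ringChar F) (Fintype.card F)).1 (FiniteField.cast_card_eq_zero F)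
    have hp : (ringChar F).Prime := CharP.char_is_prime F (ringChar F)
    have h2 : ringChar F = ℓ := (Nat.prime_dvd_prime_iff_eq hp hℓ).1 (hp.dvd_of_dvd_pow h1)
    rw [← h2]; exact ringChar.charP F
  set x : ProjectiveSpecialLinearGroup (Fin 2) F := pr F (dg k) with hx
  have hxr : orderOf x = r := by
    have h1 : x ^ r = 1 := by
      have h2 : (dgHom F k) ^ r = 1 := by rw [← map_pow, ← hk, pow_orderOf_eq_one, map_one]
      have h3 : (dg k) ^ r = 1 := h2
      rw [hx, ← map_pow, h3, map_one]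
    have h2 : orderOf x ∣ r := orderOf_dvd_of_pow_eq_one h1
    rcases (Nat.dvd_prime hr).1 h2 with h3 | h3
    · exfalso
      have h4 : x = 1 := orderOf_eq_one_iff.1 h3
      rw [hx, pr_eq_one] at h4
      obtain ⟨-, -, h5⟩ := center_entries h4
      have h6 : (k : F) = ((k⁻¹ : Fˣ) : F) := by
        simpa [dg] using h5
      have h7 : k = k⁻¹ := Units.ext h6
      have h8 : k ^ 2 = 1 := by rw [sq]; nth_rw 1 [h7]; rw [inv_mul_cancel]
      have h9 : orderOf k ∣ 2 := orderOf_dvd_of_pow_eq_one h8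
      rw [hk] at h9
      exact hr2 ((Nat.prime_dvd_prime_iff_eq hr Nat.prime_two).1 h9)
    · exact h3
  have hcardS : Nat.card ((umHom F).range.map (pr F)) = ℓ ^ f := by rw [card_S, hF]
  have hS : IsPGroup ℓ ((umHom F).range.map (pr F)) := IsPGroup.of_card hcardS
  have hS1 : (umHom F).range.map (pr F) ≠ ⊥ := by
    intro h
    rw [h, Subgroup.card_bot] at hcardS
    omega
  have hidx : ¬ ℓ ∣ ((umHom F).range.map (pr F)).index := by
    intro h
    have h1 := Cfsg.Agent.ClassicalGeometry.PSL2Basic.card_PSL2_gcd F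
    rw [← Subgroup.card_mul_index ((umHom F).range.map (pr F)), hcardS, hF, mul_assoc] at h1
    have h2 := Nat.eq_of_mul_eq_mul_left (by omega) h1
    have h3 : ℓ ∣ (ℓ ^ f) ^ 2 - 1 := by
      rw [← h2]
      exact Dvd.dvd.mul_right h _
    have h4 : ℓ ∣ (ℓ ^ f) ^ 2 := Dvd.dvd.pow (dvd_pow_self ℓ (by omega)) (by norm_num)
    have h5 : 1 ≤ (ℓ ^ f) ^ 2 := Nat.one_le_pow _ _ (by omega)
    have h6 : ℓ ∣ 1 := by
      have := (Nat.dvd_sub_iff_right h5 h4).1 h3
      exact this
    exact hℓ.one_lt.ne' (Nat.dvd_one.1 h6)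
  have hwdg : ∀ α : Fˣ, pr F (wl F) * pr F (dg α) * pr F (wl F) = (pr F (dg α))⁻¹ := by
    intro α
    have h1 : pr F (wl F) * pr F (dg α) * (pr F (wl F))⁻¹ = pr F (dg α⁻¹) := by
      rw [← map_mul, ← map_inv, ← map_mul, wl_dg]
    have h2 : (pr F (wl F))⁻¹ = pr F (wl F) := inv_eq_of_mul_eq_one_right wl_sq
    rw [h2] at h1
    rw [h1]
    have h3 : dg α * dg α⁻¹ = (1 : SpecialLinearGroup (Fin 2) F) := by
      rw [dg_mul, mul_inv_cancel]
      exact map_one (dgHom F)
    rw [eq_comm, inv_eq_iff_mul_eq_one, ← map_mul, h3, map_one]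
  obtain ⟨y, hy, hyn⟩ := exists_involution_torus (data (F := F)) wl_sq (p := ℓ) hS hS1 hidx
    (T := ((pr F).comp (dgHom F)).range) (by
      rintro _ ⟨α, rfl⟩
      exact dg_mem α) (by
      rintro _ ⟨α, rfl⟩ _ ⟨β, rfl⟩
      rw [← map_mul, ← map_mul, mul_comm]) (by
      rintro _ ⟨α, rfl⟩
      exact hwdg α) (by
      rintro _ ⟨A, hA, rfl⟩
      have hA0 : A.1 1 0 = 0 := hA
      have hdet : A.1 0 0 * A.1 1 1 = 1 := by
        have := A.2
        rw [Matrix.det_fin_two, hA0, mul_zero, sub_zero] at this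
        exact this
      refine ⟨pr F (um (A.1 0 1 * A.1 0 0)), ⟨_, ⟨Multiplicative.ofAdd (A.1 0 1 * A.1 0 0), rfl⟩, rfl⟩,
        ⟨⟨A.1 0 0, A.1 1 1, hdet, by rw [mul_comm]; exact hdet⟩, ?_⟩⟩
      change pr F (dg _) = _
      rw [eq_inv_mul_iff_mul_eq, ← map_mul]
      congr 1
      apply ext2
      · rw [mul00]; simp [dg, um]
      · rw [mul01]; simp [dg, um]
        linear_combination A.1 0 1 * hdet
      · rw [mul10, hA0]; simp [dg, um]
      · rw [mul11]; simp [dg, um]) (by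
      rintro _ ⟨α, rfl⟩ hα1 _ ⟨_, ⟨s, rfl⟩, rfl⟩ hcm
      rcases comm_dg (α := α) (x := s.toAdd) hcm with h | h
      · exact absurd h hα1
      · change pr F (um s.toAdd) = 1
        rw [h, um_zero, map_one]) (x := x) ⟨k, rfl⟩ hr hr2 hxr ρ hρ hdim
  exact ⟨x, y, hxr, hy, hyn⟩

/-- A representation of `SL₂` with kernel the center gives a faithful representation of `PSL₂`. -/
theorem exists_rep {V : Type} [AddCommGroup V] [Module F V]
    (φ : SpecialLinearGroup (Fin 2) F →* Module.End F V)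
    (h : ∀ g h, φ g = φ h ↔ g⁻¹ * h ∈ center (SpecialLinearGroup (Fin 2) F)) :
    ∃ ρ : ProjectiveSpecialLinearGroup (Fin 2) F →* Module.End F V, Function.Injective ρ := by
  refine ⟨QuotientGroup.lift (center (SpecialLinearGroup (Fin 2) F)) φ ?_, ?_⟩
  · intro g hg
    rw [MonoidHom.mem_ker, ← map_one φ]
    rw [h]
    rw [mul_one]
    exact inv_mem hg
  · intro a b
    refine QuotientGroup.induction_on a fun a => ?_
    refine QuotientGroup.induction_on b fun b => ?_
    intro hab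
    have h1 : φ a = φ b := hab
    exact QuotientGroup.eq.2 ((h a b).1 h1)

/-- `PSL(2, 2^f)` acting on the natural module. -/
theorem exists_rep_two (h2 : (2 : F) = 0) :
    ∃ ρ : ProjectiveSpecialLinearGroup (Fin 2) F →* Module.End F (Fin 2 → F),
      Function.Injective ρ := by
  classical
  have hc : center (SpecialLinearGroup (Fin 2) F) = ⊥ :=
    Subgroup.eq_bot_of_card_eq _ (Cfsg.Agent.ClassicalGeometry.PSL2Basic.card_center_SL2_even h2)
  let φ : SpecialLinearGroup (Fin 2) F →* Module.End F (Fin 2 → F) :=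
    ((Matrix.toLinAlgEquiv' (R := F) (n := Fin 2)).toRingEquiv.toMonoidHom).comp
      SpecialLinearGroup.coeMonoidHom
  refine exists_rep φ fun g h => ?_
  rw [hc, Subgroup.mem_bot, inv_mul_eq_one]
  constructor
  · intro hgh
    exact Subtype.ext ((Matrix.toLinAlgEquiv' (R := F) (n := Fin 2)).injective hgh)
  · rintro rfl
    rfl

/-- the conjugation action on all matrices -/
def conjRep (F : Type) [Field F] :
    SpecialLinearGroup (Fin 2) F →* Module.End F (Matrix (Fin 2) (Fin 2) F) where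
  toFun g :=
    { toFun := fun m => g.1 * m * (g⁻¹).1
      map_add' := fun a b => by rw [mul_add, add_mul]
      map_smul' := fun c a => by rw [RingHom.id_apply, Matrix.mul_smul, Matrix.smul_mul] }
  map_one' := by
    ext1 m
    show (1 : SpecialLinearGroup (Fin 2) F).1 * m * ((1 : SpecialLinearGroup (Fin 2) F)⁻¹).1 = m
    rw [inv_one]
    show (1 : Matrix (Fin 2) (Fin 2) F) * m * (1 : Matrix (Fin 2) (Fin 2) F) = m
    rw [one_mul, mul_one]
  map_mul' g h := by
    ext1 m
    show (g * h).1 * m * ((g * h)⁻¹).1 = g.1 * (h.1 * m * (h⁻¹).1) * (g⁻¹).1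
    rw [_root_.mul_inv_rev]
    show (g.1 * h.1) * m * ((h⁻¹).1 * (g⁻¹).1) = _
    simp only [Matrix.mul_assoc]

theorem val_mul_inv (g : SpecialLinearGroup (Fin 2) F) : g.1 * (g⁻¹).1 = 1 :=
  congrArg Subtype.val (mul_inv_cancel g)

theorem inv_mul_val (g : SpecialLinearGroup (Fin 2) F) : (g⁻¹).1 * g.1 = 1 :=
  congrArg Subtype.val (inv_mul_cancel g)

/-- `PSL(2, q)` acting on the matrix algebra. -/
theorem exists_rep_four :
    ∃ ρ : ProjectiveSpecialLinearGroup (Fin 2) F →* Module.End F (Matrix (Fin 2) (Fin 2) F),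
      Function.Injective ρ := by
  refine exists_rep (conjRep F) fun g h => ?_
  constructor
  · intro hgh
    rw [mem_center_iff]
    intro m
    apply Subtype.ext
    have h1 : g.1 * m.1 * (g⁻¹).1 = h.1 * m.1 * (h⁻¹).1 := LinearMap.congr_fun hgh m.1
    show m.1 * ((g⁻¹).1 * h.1) = ((g⁻¹).1 * h.1) * m.1
    calc m.1 * ((g⁻¹).1 * h.1) = ((g⁻¹).1 * g.1) * m.1 * ((g⁻¹).1 * h.1) := by
          rw [inv_mul_val, Matrix.one_mul]
      _ = (g⁻¹).1 * (g.1 * m.1 * (g⁻¹).1) * h.1 := by simp only [Matrix.mul_assoc]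
      _ = (g⁻¹).1 * (h.1 * m.1 * (h⁻¹).1) * h.1 := by rw [h1]
      _ = ((g⁻¹).1 * h.1) * m.1 * ((h⁻¹).1 * h.1) := by simp only [Matrix.mul_assoc]
      _ = ((g⁻¹).1 * h.1) * m.1 := by rw [inv_mul_val, Matrix.mul_one]
  · intro hgh
    obtain ⟨h10, h01, h00⟩ := center_entries hgh
    apply LinearMap.ext
    intro m
    show g.1 * m * (g⁻¹).1 = h.1 * m * (h⁻¹).1
    set z := g⁻¹ * h with hz
    have hh : h = g * z := by rw [hz]; group
    have hzm : z.1 * m = m * z.1 := by
      ext i j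
      fin_cases i <;> fin_cases j <;>
        simp [Matrix.mul_apply, Fin.sum_univ_two, h10, h01, h00, mul_comm]
    rw [hh, _root_.mul_inv_rev]
    show g.1 * m * (g⁻¹).1 = (g.1 * z.1) * m * ((z⁻¹).1 * (g⁻¹).1)
    calc g.1 * m * (g⁻¹).1 = g.1 * (m * (z.1 * (z⁻¹).1)) * (g⁻¹).1 := by
          rw [val_mul_inv, Matrix.mul_one]
      _ = g.1 * ((m * z.1) * (z⁻¹).1) * (g⁻¹).1 := by simp only [Matrix.mul_assoc]
      _ = g.1 * ((z.1 * m) * (z⁻¹).1) * (g⁻¹).1 := by rw [hzm]
      _ = _ := by simp only [Matrix.mul_assoc]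

theorem psl_two {p : ℕ} (hp : p.Prime) (hF : Fintype.card F = 2 ^ p) :
    ∃ (x y : ProjectiveSpecialLinearGroup (Fin 2) F) (r : ℕ), r.Prime ∧ r ≠ 2 ∧ orderOf x = r ∧
      y ^ 2 = 1 ∧ ¬ Group.IsSolvable (Subgroup.closure ({x, y * x * y⁻¹} :
        Set (ProjectiveSpecialLinearGroup (Fin 2) F))) := by
  have hp2 := hp.two_le
  have h4 : 2 ^ 2 ≤ 2 ^ p := Nat.pow_le_pow_right (by norm_num) hp2
  obtain ⟨r, hr, hrd⟩ : ∃ r : ℕ, r.Prime ∧ r ∣ 2 ^ p - 1 :=
    Nat.exists_prime_and_dvd (by omega)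
  have hr2 : r ≠ 2 := by
    rintro rfl
    have h1 : 2 ∣ 2 ^ p := dvd_pow_self 2 (by omega)
    omega
  have h2 : (2 : F) = 0 := by
    have h1 : ((Fintype.card F : ℕ) : F) = 0 := FiniteField.cast_card_eq_zero F
    rw [hF] at h1
    push_cast at h1
    by_contra h
    exact pow_ne_zero p h h1
  obtain ⟨ρ, hρ⟩ := exists_rep_two (F := F) h2
  obtain ⟨x, y, h⟩ := psl_torus Nat.prime_two (by omega) hF hr hr2 hrd ρ hρ (by
    rw [Module.finrank_fin_fun]
    have := hr.two_le
    omega)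
  exact ⟨x, y, r, hr, hr2, h⟩

theorem psl_three_pow {p : ℕ} (hp : p.Prime) (hp2 : p ≠ 2) (hF : Fintype.card F = 3 ^ p) :
    ∃ (x y : ProjectiveSpecialLinearGroup (Fin 2) F) (r : ℕ), r.Prime ∧ r ≠ 2 ∧ orderOf x = r ∧
      y ^ 2 = 1 ∧ ¬ Group.IsSolvable (Subgroup.closure ({x, y * x * y⁻¹} :
        Set (ProjectiveSpecialLinearGroup (Fin 2) F))) := by
  have h2 := hp.two_le
  have h4 : 3 ^ 3 ≤ 3 ^ p := Nat.pow_le_pow_right (by norm_num) (by omega)
  -- `(3 ^ p - 1) / 2` is odd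
  obtain ⟨k, hk⟩ := hp.odd_of_ne_two hp2
  have hmod : 3 ^ p % 4 = 3 := by
    rw [hk, pow_add, pow_mul, Nat.mul_mod, Nat.pow_mod]
    norm_num
  obtain ⟨r, hr, hrd⟩ : ∃ r : ℕ, r.Prime ∧ r ∣ (3 ^ p - 1) / 2 :=
    Nat.exists_prime_and_dvd (by omega)
  have hr2 : r ≠ 2 := by
    rintro rfl
    omega
  have hrd' : r ∣ 3 ^ p - 1 := hrd.trans (Nat.div_dvd_of_dvd (by omega))
  have hr3 : r ≠ 3 := by
    rintro rfl
    have h1 : 3 ∣ 3 ^ p := dvd_pow_self 3 (by omega)
    omega
  have hr4 : r ≠ 4 := by rintro rfl; exact absurd hr (by norm_num)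
  obtain ⟨ρ, hρ⟩ := exists_rep_four (F := F)
  obtain ⟨x, y, h⟩ := psl_torus Nat.prime_three (by omega) hF hr hr2 hrd' ρ hρ (by
    rw [Module.finrank_matrix, Module.finrank_self, Fintype.card_fin]
    have := hr.two_le
    omega)
  exact ⟨x, y, r, hr, hr2, h⟩

/-! ### Prime fields -/

theorem um_mem_of_prime {p : ℕ} (hp : p.Prime) (hF : Fintype.card F = p)
    {K : Subgroup (SpecialLinearGroup (Fin 2) F)} (h : um (1 : F) ∈ K) (a : F) : um a ∈ K := by
  have : Fact p.Prime := ⟨hp⟩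
  have h1 : a ∈ AddSubgroup.zmultiples (1 : F) :=
    mem_zmultiples_of_prime_card (p := p) (by rw [Nat.card_eq_fintype_card, hF]) one_ne_zero
  obtain ⟨n, hn⟩ := h1
  have h2 : um a = (um (1 : F)) ^ n := by
    have h3 : umHom F (Multiplicative.ofAdd (1 : F) ^ n) = (umHom F (Multiplicative.ofAdd (1 : F))) ^ n :=
      map_zpow _ _ _
    have h4 : (Multiplicative.ofAdd (1 : F) ^ n) = Multiplicative.ofAdd a := by
      rw [← ofAdd_zsmul]
      exact congrArg _ hn
    rw [h4] at h3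
    exact h3
  rw [h2]
  exact K.zpow_mem h n

theorem eq_top_of_um {K : Subgroup (SpecialLinearGroup (Fin 2) F)} (h : ∀ a : F, um a ∈ K)
    (h' : ∀ a : F, wl F * um a * (wl F)⁻¹ ∈ K) : K = ⊤ := by
  have key : ∀ g : SpecialLinearGroup (Fin 2) F, g.1 1 0 ≠ 0 → g ∈ K := by
    intro g hc
    have hdet : g.1 0 0 * g.1 1 1 - g.1 0 1 * g.1 1 0 = 1 := by
      have := g.2
      rwa [Matrix.det_fin_two] at this
    have h1 : g = um ((g.1 0 0 - 1) / g.1 1 0) * (wl F * um (-g.1 1 0) * (wl F)⁻¹) *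
        um ((g.1 1 1 - 1) / g.1 1 0) := by
      apply ext2
      · simp only [mul00, mul01, mul10, mul11, (inv_entries _).1, (inv_entries _).2.1,
          (inv_entries _).2.2.1, (inv_entries _).2.2.2]
        simp [um, wl]
        field_simp
        ring
      · simp only [mul00, mul01, mul10, mul11, (inv_entries _).1, (inv_entries _).2.1,
          (inv_entries _).2.2.1, (inv_entries _).2.2.2]
        simp [um, wl]
        field_simp
        linear_combination -hdet
      · simp only [mul00, mul01, mul10, mul11, (inv_entries _).1, (inv_entries _).2.1,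
          (inv_entries _).2.2.1, (inv_entries _).2.2.2]
        simp [um, wl]
      · simp only [mul00, mul01, mul10, mul11, (inv_entries _).1, (inv_entries _).2.1,
          (inv_entries _).2.2.1, (inv_entries _).2.2.2]
        simp [um, wl]
        field_simp
        ring
    rw [h1]
    exact mul_mem (mul_mem (h _) (h' _)) (h _)
  rw [eq_top_iff]
  rintro g -
  by_cases hc : g.1 1 0 = 0
  · have h00 : g.1 0 0 ≠ 0 := by
      intro h0
      have := g.2
      rw [Matrix.det_fin_two, hc, h0] at this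
      simp at this
    have h2 : (wl F * um (-1) * (wl F)⁻¹) * g ∈ K := by
      apply key
      simp only [mul00, mul01, mul10, mul11, (inv_entries _).1, (inv_entries _).2.1,
          (inv_entries _).2.2.1, (inv_entries _).2.2.2]
      simp [um, wl, hc, h00]
    have h3 := mul_mem (inv_mem (h' (-1))) h2
    rwa [inv_mul_cancel_left] at h3
  · exact key g hc

theorem psl_prime {p : ℕ} (hp : p.Prime) (hp5 : 5 ≤ p) (hF : Fintype.card F = p) :
    ∃ (x y : ProjectiveSpecialLinearGroup (Fin 2) F) (r : ℕ), r.Prime ∧ r ≠ 2 ∧ orderOf x = r ∧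
      y ^ 2 = 1 ∧ ¬ Group.IsSolvable (Subgroup.closure ({x, y * x * y⁻¹} :
        Set (ProjectiveSpecialLinearGroup (Fin 2) F))) := by
  have hfp : Fact p.Prime := ⟨hp⟩
  refine ⟨pr F (um 1), pr F (wl F), p, hp, by omega, ?_, ?_, ?_⟩
  · have h1 : (pr F (um 1)) ^ p = 1 := by
      have h2 : (umHom F (Multiplicative.ofAdd (1 : F))) ^ p = 1 := by
        rw [← map_pow, ← ofAdd_nsmul, nsmul_eq_mul, mul_one, ← hF, FiniteField.cast_card_eq_zero]
        exact map_one _
      have h3 : (um (1 : F)) ^ p = 1 := h2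
      rw [← map_pow, h3, map_one]
    refine orderOf_eq_prime h1 ?_
    intro h2
    have h3 : Multiplicative.ofAdd (1 : F) = 1 := um_inj' (x := Multiplicative.ofAdd (1 : F)) h2
    exact one_ne_zero (Multiplicative.ofAdd.injective h3)
  · rw [sq]; exact wl_sq
  · intro hsol
    have htop : Subgroup.closure ({um 1, wl F * um 1 * (wl F)⁻¹} :
        Set (SpecialLinearGroup (Fin 2) F)) = ⊤ := by
      set K := Subgroup.closure ({um 1, wl F * um 1 * (wl F)⁻¹} :
        Set (SpecialLinearGroup (Fin 2) F)) with hK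
      have h1 : um 1 ∈ K := Subgroup.subset_closure (by simp)
      have h2 : wl F * um 1 * (wl F)⁻¹ ∈ K := Subgroup.subset_closure (by simp)
      refine eq_top_of_um (fun a => um_mem_of_prime hp hF h1 a) ?_
      intro a
      have h3 : um 1 ∈ K.comap (MulAut.conj (wl F)).toMonoidHom := h2
      exact um_mem_of_prime hp hF h3 a
    have h2 : Subgroup.closure ({pr F (um 1), pr F (wl F) * pr F (um 1) * (pr F (wl F))⁻¹} :
        Set (ProjectiveSpecialLinearGroup (Fin 2) F)) = ⊤ := by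
      have h3 : Subgroup.map (pr F) ⊤ = ⊤ :=
        Subgroup.map_top_of_surjective _ (QuotientGroup.mk'_surjective _)
      rw [← h3, ← htop, MonoidHom.map_closure, Set.image_pair, map_mul, map_mul, map_inv]
    rw [h2] at hsol
    have h3 : Group.IsSolvable (ProjectiveSpecialLinearGroup (Fin 2) F) :=
      Group.isSolvable_of_surjective (f := (Subgroup.topEquiv (G :=
        ProjectiveSpecialLinearGroup (Fin 2) F)).toMonoidHom) Subgroup.topEquiv.surjective
    exact Cfsg.Agent.ClassicalGeometry.PSL2Solvable.not_isSolvable_psl F (by omega) h3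

end Cfsg.Agent.H181.TwoConj
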