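import Mathlib

/-!
# Two conjugates of an element of order 13 generating a non-solvable subgroup of `PSL(3, 3)`
-/

set_option autoImplicit false

namespace Cfsg.Agent.H181.TwoConjThree

open Matrix

/-- a perfectness certificate -/
theorem eq_one_of_solvable {G : Type*} [Group G] {x v : G} (hx : x ^ 13 = 1) (hv : v ^ 13 = 1)
    (h1 : (x * v) ^ 3 = 1) (h2 : (x * v ^ 2) ^ 2 = 1)
    (hsol : Group.IsSolvable (Subgroup.closure ({x, v} : Set G))) : x = 1 := by
  set H := Subgroup.closure ({x, v} : Set G) with hH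
  have hxH : x ∈ H := Subgroup.subset_closure (by simp)
  have hvH : v ∈ H := Subgroup.subset_closure (by simp)
  set X : H := ⟨x, hxH⟩ with hX
  set V : H := ⟨v, hvH⟩ with hV
  have eX : X ^ 13 = 1 := Subtype.ext hx
  have eV : V ^ 13 = 1 := Subtype.ext hv
  have e1 : (X * V) ^ 3 = 1 := Subtype.ext h1
  have e2 : (X * V ^ 2) ^ 2 = 1 := Subtype.ext h2
  set a := Abelianization.of X with ha
  set b := Abelianization.of V with hb
  have fa : a ^ 13 = 1 := by rw [ha, ← map_pow, eX, map_one]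
  have fb : b ^ 13 = 1 := by rw [hb, ← map_pow, eV, map_one]
  have f1 : (a * b) ^ 3 = 1 := by rw [ha, hb, ← map_mul, ← map_pow, e1, map_one]
  have f2 : (a * b ^ 2) ^ 2 = 1 := by
    rw [ha, hb, ← map_pow, ← map_mul, ← map_pow, e2, map_one]
  have g1 : a * b = 1 := by
    have h13 : (a * b) ^ 13 = 1 := by rw [mul_pow, fa, fb, one_mul]
    calc a * b = (a * b) ^ 13 * ((a * b) ^ 3)⁻¹ ^ 4 := by group
      _ = 1 := by rw [h13, f1]; simp
  have g2 : a * b ^ 2 = 1 := by
    have h13 : (a * b ^ 2) ^ 13 = 1 := by rw [mul_pow, fa, ← pow_mul, mul_comm 2 13, pow_mul, fb]; simp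
    calc a * b ^ 2 = (a * b ^ 2) ^ 13 * ((a * b ^ 2) ^ 2)⁻¹ ^ 6 := by group
      _ = 1 := by rw [h13, f2]; simp
  have hb1 : b = 1 := by
    calc b = (a * b)⁻¹ * (a * b ^ 2) := by rw [sq]; group
      _ = 1 := by rw [g1, g2]; simp
  have ha1 : a = 1 := by
    rw [hb1, mul_one] at g1
    exact g1
  have hXc : X ∈ commutator H := by
    have := (Abelianization.ker_of H) ▸ (MonoidHom.mem_ker.2 ha1 : X ∈ (Abelianization.of (G := H)).ker)
    exact this
  have hVc : V ∈ commutator H := by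
    have := (Abelianization.ker_of H) ▸ (MonoidHom.mem_ker.2 hb1 : V ∈ (Abelianization.of (G := H)).ker)
    exact this
  have htop : commutator H = ⊤ := by
    rw [eq_top_iff]
    have h3 : Subgroup.map H.subtype ⊤ ≤ Subgroup.map H.subtype (commutator H) := by
      rw [← MonoidHom.range_eq_map, Subgroup.range_subtype]
      conv_lhs => rw [hH]
      rw [Subgroup.closure_le]
      rintro z (rfl | hz)
      · exact ⟨X, hXc, rfl⟩
      · rw [Set.mem_singleton_iff] at hz
        subst hz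
        exact ⟨V, hVc, rfl⟩
    exact (Subgroup.map_le_map_iff_of_injective H.subtype_injective).1 h3
  by_contra hx1
  have : Nontrivial H := ⟨⟨X, 1, fun h => hx1 (congrArg Subtype.val h)⟩⟩
  have h4 := Group.IsSolvable.commutator_lt_top_of_nontrivial H
  rw [htop] at h4
  exact lt_irrefl _ h4

def mX : Matrix (Fin 3) (Fin 3) (ZMod 3) := !![0, 0, 1; 1, 0, 0; 0, 1, 2]
def mY : Matrix (Fin 3) (Fin 3) (ZMod 3) := !![0, 0, 1; 2, 2, 2; 1, 0, 0]
def mV : Matrix (Fin 3) (Fin 3) (ZMod 3) := !![1, 2, 2; 1, 1, 0; 1, 0, 0]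

def eX : Matrix.SpecialLinearGroup (Fin 3) (ZMod 3) := ⟨mX, by rw [Matrix.det_fin_three]; decide⟩
def eY : Matrix.SpecialLinearGroup (Fin 3) (ZMod 3) := ⟨mY, by rw [Matrix.det_fin_three]; decide⟩
def eV : Matrix.SpecialLinearGroup (Fin 3) (ZMod 3) := ⟨mV, by rw [Matrix.det_fin_three]; decide⟩

theorem eY_mul_eY : eY * eY = 1 := by
  apply Subtype.ext
  show mY * mY = 1
  decide

theorem eY_inv : eY⁻¹ = eY := inv_eq_of_mul_eq_one_right eY_mul_eY

theorem eV_eq : eY * eX * eY⁻¹ = eV := by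
  rw [eY_inv]
  apply Subtype.ext
  show mY * mX * mY = mV
  decide

theorem eX_pow : eX ^ 13 = 1 := by
  have h : eX ^ 13 = eX * (eX * eX * (eX * eX)) * (eX * eX * (eX * eX)) * (eX * eX * (eX * eX)) := by
    simp only [pow_succ, pow_zero, one_mul, mul_assoc]
  rw [h]
  apply Subtype.ext
  show mX * (mX * mX * (mX * mX)) * (mX * mX * (mX * mX)) * (mX * mX * (mX * mX)) = 1
  decide

theorem rel_one : (eX * eV) ^ 3 = 1 := by
  rw [pow_succ, sq]
  apply Subtype.ext
  show mX * mV * (mX * mV) * (mX * mV) = 1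
  decide

theorem rel_two : (eX * eV ^ 2) ^ 2 = 1 := by
  rw [sq, sq]
  apply Subtype.ext
  show mX * (mV * mV) * (mX * (mV * mV)) = 1
  decide

theorem psl_three {F : Type} [Field F] [Fintype F] (hF : Fintype.card F = 3) :
    ∃ (x y : ProjectiveSpecialLinearGroup (Fin 3) F) (r : ℕ), r.Prime ∧ r ≠ 2 ∧ orderOf x = r ∧
      y ^ 2 = 1 ∧ ¬ Group.IsSolvable (Subgroup.closure ({x, y * x * y⁻¹} :
        Set (ProjectiveSpecialLinearGroup (Fin 3) F))) := by
  have hch : CharP F 3 := by
    have h1 : ringChar F ∣ 3 := by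
      rw [← hF]
      exact (CharP.cast_eq_zero_iff F (ringChar F) (Fintype.card F)).1 (FiniteField.cast_card_eq_zero F)
    have hp : (ringChar F).Prime := CharP.char_is_prime F (ringChar F)
    have h2 : ringChar F = 3 := (Nat.prime_dvd_prime_iff_eq hp Nat.prime_three).1 h1
    rw [← h2]; exact ringChar.charP F
  let f : ZMod 3 →+* F := ZMod.castHom (dvd_refl 3) F
  let g : Matrix.SpecialLinearGroup (Fin 3) (ZMod 3) →* ProjectiveSpecialLinearGroup (Fin 3) F :=
    (QuotientGroup.mk' (Subgroup.center (SpecialLinearGroup (Fin 3) F))).comp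
      (SpecialLinearGroup.map f)
  have hx1 : g eX ≠ 1 := by
    intro h
    have h1 : SpecialLinearGroup.map f eX ∈ Subgroup.center (SpecialLinearGroup (Fin 3) F) :=
      (QuotientGroup.eq_one_iff _).1 h
    have h2 := (Matrix.SpecialLinearGroup.mem_center_iff.1 h1)
    obtain ⟨r, -, h3⟩ := h2
    have h4 := congrFun (congrFun h3 1) 0
    have h5 : (SpecialLinearGroup.map f eX).1 1 0 = f 1 := by
      show f (mX 1 0) = f 1
      rfl
    rw [Matrix.scalar_apply, Matrix.diagonal_apply_ne _ (by decide)] at h4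
    have h6 : (0 : F) = f 1 := by rw [← h5]; exact h4
    rw [map_one] at h6
    exact zero_ne_one h6
  have ho : orderOf (g eX) = 13 := by
    have : Fact (Nat.Prime 13) := ⟨by norm_num⟩
    exact orderOf_eq_prime (by rw [← map_pow, eX_pow, map_one]) hx1
  refine ⟨g eX, g eY, 13, by norm_num, by norm_num, ho, ?_, ?_⟩
  · rw [← map_pow, sq, eY_mul_eY, map_one]
  · intro hsol
    have hV : g eY * g eX * (g eY)⁻¹ = g eV := by rw [← map_inv, ← map_mul, ← map_mul, eV_eq]
    rw [hV] at hsol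
    refine hx1 (eq_one_of_solvable (v := g eV) ?_ ?_ ?_ ?_ hsol)
    · rw [← map_pow, eX_pow, map_one]
    · rw [← hV, conj_pow, ← map_pow g eX, eX_pow, map_one]; group
    · rw [← map_mul, ← map_pow, rel_one, map_one]
    · rw [← map_pow, ← map_mul, ← map_pow, rel_two, map_one]

end Cfsg.Agent.H181.TwoConjThree
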